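import Cfsg.Agent.J4Type.V11.Orbits
import Cfsg.Agent.J4Type.DuadStab

/-!
# The classes of involutions and the structure of the centraliser of the second kind
-/

set_option autoImplicit false

open Cfsg Subgroup

namespace Cfsg.Agent.J4Type.V11

open LargeExtra (oc oc_le oc_conj_mem)
open LargeFischer (W11 pt IsDuad)
open Rep Orbits
open scoped Pointwise

variable {G : Type*} [Group G] [Finite G] {z : G} {P : Subgroup G} {V : Type*} [AddCommGroup V]
  {π : ↥(oc z) →* Multiplicative V} {ρ : ↥(mSub z P) →* Equiv.Perm V} {q : V → ZMod 2} {B : List V}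

theorem long_base : bit Long.orbBits (wv 58) = true ∧ bit Short.orbBits (wv (wc 7)) = true ∧
    bit T36M (wc 7) = false ∧ wc 7 ≠ 0 := by decide +kernel

namespace Frame

variable {S : Sys z P π ρ q B} (F : Frame S)

theorem isConj_of_img {k r : ℕ} (hk : k < 64) (hk0 : k ≠ 0) {γ : Equiv.Perm V} (hγ : γ ∈ gammaZero ρ)
    (e : γ (Rep.lin B (wv k)) = Rep.lin B r) {x : G} (hx : x ∈ oc z) (hv : vec π x = Rep.lin B r) :
    IsConj (F.phi k) x := by
  obtain ⟨n, hn, rfl⟩ := S.lift_zero hγ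
  have hnM := cSub_le_mSub z P hn
  have hmem := F.phi_oc (k := k) (by omega)
  have hv' := F.vec_phi (k := k) (by omega)
  rw [Nat.mod_eq_of_lt hk] at hv'
  have h := (S.D.vec_conj hnM hmem).trans (by rw [hv', e, ← hv])
  rcases S.D.vec_eq (oc_conj_mem hn.1 hmem) hx h with e' | e'
  · exact isConj_iff.2 ⟨n, e'⟩
  · obtain ⟨m, -, em⟩ := F.rel_flip (k := k) (by omega) (by rwa [Nat.mod_eq_of_lt hk])
    refine isConj_iff.2 ⟨n * m, ?_⟩
    rw [show n * m * F.phi k * (n * m)⁻¹ = n * (m * F.phi k * m⁻¹) * n⁻¹ by group, ← em, F.phi_xor, F.phi_z,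
      show n * (F.phi k * z) * n⁻¹ = n * F.phi k * n⁻¹ * (n * z * n⁻¹) by group, e',
      mul_inv_eq_iff_eq_mul.2 (S.D.comm_z hn.1).eq, mul_assoc, S.D.zz, mul_one]

theorem classes_oc {x : G} (hx : x ∈ oc z) (hx2 : x * x = 1) (hx1 : x ≠ 1) :
    IsConj z x ∨ IsConj F.tt x := by
  obtain ⟨r, hr, hv⟩ := S.M.code_cases (vec π x)
  have hv := hv.symm
  by_cases hr0 : r = 0
  · left
    rw [hr0, Rep.lin_zero] at hv
    rcases (S.D.vec_eq_zero hx).1 hv with h | h
    · exact absurd h hx1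
    · rw [h]
  have hq : Orbits.qb r = false := by
    have h := S.sq_code hx hr hv
    rw [hx2] at h
    cases hb : Orbits.qb r
    · rfl
    · rw [hb] at h; exact absurd h.symm S.D.z_ne
  have hc := all_range sing_cover hr
  simp only [hq, Bool.false_or, Bool.or_eq_true] at hc
  rcases hc with (h | h) | h
  · exact absurd (beq_nat h) hr0
  · left
    obtain ⟨γ, hγ, e⟩ := short.reach S.M h
    obtain ⟨-, -, hT, h0⟩ := long_base
    refine ((F.conj_low (lt_trans (wc_lt 7) (by norm_num)) h0).2 hT).trans (F.isConj_of_img (wc_lt 7) h0 hγ ?_ hx hv)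
    rw [seven_coord]; exact e
  · right
    obtain ⟨γ₁, hγ₁, e₁⟩ := long.reach S.M h
    obtain ⟨γ₂, hγ₂, e₂⟩ := long.reach S.M long_base.1
    rw [tt, show t0 = 58 from rfl]
    refine F.isConj_of_img (by norm_num) (by norm_num) (mul_mem hγ₁ (inv_mem hγ₂)) ?_ hx hv
    rw [Equiv.Perm.mul_apply, Equiv.Perm.inv_def, ← e₂, Equiv.symm_apply_apply, e₁]

/-- **There are at most two classes of involutions.** -/
theorem classes (hF : F.Good) {x : G} (hx2 : x * x = 1) (hx1 : x ≠ 1) : IsConj z x ∨ IsConj F.tt x := by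
  have := Fact.mk Nat.prime_two
  -- a Sylow subgroup inside the normaliser
  obtain ⟨T₀, hT₀⟩ := S.exists_sylow
  obtain ⟨Q, hQ⟩ := Sylow.exists_subgroup_card_pow_prime 2 (G := ↥F.nrm) (n := 21)
    (by rw [F.card_nrm_eq hF]; norm_num)
  have hQc : Nat.card ↥(Q.map F.nrm.subtype) = 2 ^ 21 := by
    rw [card_map_of_injective (subtype_injective _), hQ]
  obtain ⟨T, hT⟩ := (IsPGroup.of_card hQc).exists_le_sylow
  have hTc : Nat.card ↥(T : Subgroup G) = 2 ^ 21 := by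
    rw [Sylow.card_eq_multiplicity, ← Sylow.card_eq_multiplicity T₀, hT₀, S.card_tG]
  have hTeq : Q.map F.nrm.subtype = T := eq_of_le_of_card_ge hT (by rw [hTc, hQc])
  have hxp : IsPGroup 2 ↥(zpowers x) := IsPGroup.of_card (n := 1) (by
    rw [Nat.card_zpowers, pow_one]
    exact orderOf_eq_prime (by rw [pow_two, hx2]) hx1)
  obtain ⟨T', hT'⟩ := hxp.exists_le_sylow
  obtain ⟨g, hg⟩ := MulAction.exists_smul_eq G T' T
  have hmem : g * x * g⁻¹ ∈ F.nrm := by
    have h : g * x * g⁻¹ ∈ (T : Subgroup G) := by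
      rw [← hg, Sylow.coe_subgroup_smul]
      exact Subgroup.smul_mem_pointwise_smul _ (MulAut.conj g) _ (hT' (mem_zpowers x))
    rw [← hTeq] at h
    exact map_subtype_le Q h
  suffices IsConj z (g * x * g⁻¹) ∨ IsConj F.tt (g * x * g⁻¹) by
    rwa [isConj_conj_iff, isConj_conj_iff] at this
  have h2 : g * x * g⁻¹ * (g * x * g⁻¹) = 1 := by
    rw [show g * x * g⁻¹ * (g * x * g⁻¹) = g * (x * x) * g⁻¹ by group, hx2]; group
  have h1 : g * x * g⁻¹ ≠ 1 := fun h => hx1 (conj_eq_one_iff.1 h)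
  set y := g * x * g⁻¹
  by_cases hyA : y ∈ F.grp
  · obtain ⟨a, ha, e⟩ := hyA
    by_cases hz : IsConj z y
    · exact Or.inl hz
    · obtain ⟨n, -, en⟩ := F.rel_all ha ⟨fun e0 => h1 (by rw [← e, e0, F.phi_zero]), e ▸ hz⟩
      exact Or.inr (isConj_iff.2 ⟨n, by rw [tt, show t0 = 58 from rfl, ← en, e]⟩)
  · obtain ⟨n, -, hn⟩ := F.conj_into hF hmem h2 hyA
    have := F.classes_oc hn (by rw [show n * y * n⁻¹ * (n * y * n⁻¹) = n * (y * y) * n⁻¹ by group, h2]; group)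
      (fun h => h1 (conj_eq_one_iff.1 h))
    exact this.imp (isConj_conj_iff z n y).1 (isConj_conj_iff F.tt n y).1

theorem lc_conj (g : G) : centralizer ({cj g F.tt} : Set G) = F.lc.map (cj g) := by
  ext x
  constructor
  · intro hx
    refine ⟨g⁻¹ * x * g, F.mem_lc.2 ?_, by rw [cj_apply]; group⟩
    have h : x * (g * F.tt * g⁻¹) = g * F.tt * g⁻¹ * x := mem_centralizer_singleton_iff.1 hx
    show g⁻¹ * x * g * F.tt = F.tt * (g⁻¹ * x * g)
    calc g⁻¹ * x * g * F.tt = g⁻¹ * (x * (g * F.tt * g⁻¹)) * g := by group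
      _ = g⁻¹ * (g * F.tt * g⁻¹ * x) * g := by rw [h]
      _ = F.tt * (g⁻¹ * x * g) := by group
  · rintro ⟨y, hy, rfl⟩
    refine mem_centralizer_singleton_iff.2 ?_
    rw [← map_mul, ← map_mul, (F.mem_lc.1 hy).eq]

theorem grp_le_lc : F.grp ≤ F.lc := by
  rintro _ ⟨x, -, rfl⟩; exact F.phi_lc

/-- **The centraliser is a split extension by the automorphism group of the group of degree 22.** -/
theorem exists_lc_split (hF : F.Good) : ∃ K : Subgroup G, K ≤ F.lc ∧ K ⊓ F.grp = ⊥ ∧ K ⊔ F.grp = F.lc ∧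
    Nonempty (↥K ≃* MulAut ↥Cfsg.Spor.M22) := by
  obtain ⟨K, hK, hKA, hsup, -⟩ := F.exists_split hF
  refine ⟨K ⊓ F.lc, inf_le_right, eq_bot_iff.2 fun g hg => hKA.le ⟨hg.1.1, hg.2⟩, ?_, ?_⟩
  · refine le_antisymm (sup_le inf_le_right F.grp_le_lc) fun x hx => ?_
    have hx' : x ∈ ((K ⊔ F.grp : Subgroup G) : Set G) := hsup.ge (F.cent_le_nrm hF hx)
    rw [coe_mul_of_left_le_normalizer_right K F.grp (fun k hk => hK hk)] at hx'
    obtain ⟨k, hk, a, ha, rfl⟩ := Set.mem_mul.1 hx'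
    have hkL : k ∈ F.lc := by
      have := mul_mem hx (inv_mem (F.grp_le_lc ha))
      rwa [mul_inv_cancel_right] at this
    exact mul_mem (le_sup_left (b := F.grp) (show k ∈ K ⊓ F.lc from ⟨hk, hkL⟩)) (le_sup_right (a := K ⊓ F.lc) ha)
  have hd : IsDuad (F.vEquiv ⟨F.phi t0, F.phi_mem t0_lt⟩).toAdd := (F.isDuad_iff hF).2 (by
    rw [F.codeOf_eq t0_lt rfl]; exact F.sec_t0)
  obtain ⟨a, b, hab, eab⟩ := hd
  have key : ∀ n : ↥F.nrm, (n : G) ∈ F.lc ↔
      ((F.theta hF n : ↥M24) : Equiv.Perm GolayPt) ∈ duadStab a b := by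
    intro n
    have hsp : F.tau n (pt a + pt b) = _ := F.perm_spec hF n a b
    constructor
    · intro h
      refine mem_duadStab.2 ⟨(F.theta hF n).2, LargeFischer.pair_eq
        ((F.perm hF n : Equiv.Perm GolayPt).injective.ne hab) hab (hsp.symm.trans ?_)⟩
      have e0 : F.nHom n ⟨F.phi t0, F.phi_mem t0_lt⟩ = ⟨F.phi t0, F.phi_mem t0_lt⟩ :=
        Subtype.ext (show (n : G) * F.phi t0 * (n : G)⁻¹ = F.phi t0 from
          mul_inv_eq_iff_eq_mul.2 (F.mem_lc.1 h).eq)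
      rw [← eab, F.tau_apply, e0]
    · intro h
      have hfix : F.tau n (pt a + pt b) = pt a + pt b := by
        rcases (mem_duadStab.1 h).2 with ⟨h1, h2⟩ | ⟨h1, h2⟩
        · rw [hsp, show (F.perm hF n : Equiv.Perm GolayPt) a = a from h1,
            show (F.perm hF n : Equiv.Perm GolayPt) b = b from h2]
        · rw [hsp, show (F.perm hF n : Equiv.Perm GolayPt) a = b from h1,
            show (F.perm hF n : Equiv.Perm GolayPt) b = a from h2, add_comm]
      rw [← eab, F.tau_apply] at hfix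
      have h' := congrArg Subtype.val (F.vEquiv.injective (Multiplicative.toAdd.injective hfix))
      exact F.mem_lc.2 (mul_inv_eq_iff_eq_mul.1 h')
  set f : ↥(K ⊓ F.lc) →* Equiv.Perm GolayPt :=
    M24.subtype.comp ((F.theta hF).comp (inclusion ((inf_le_left : K ⊓ F.lc ≤ K).trans hK))) with hf
  have hfd : ∀ k, f k ∈ duadStab a b := fun k => (key _).1 k.2.2
  refine (duad_equiv hab).map fun e => (MulEquiv.ofBijective (f.codRestrict _ hfd) ⟨?_, ?_⟩).trans e
  · rw [← MonoidHom.ker_eq_bot_iff, eq_bot_iff]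
    intro k hk
    have h0 : (⟨(k : G), hK k.2.1⟩ : ↥F.nrm) ∈ (F.theta hF).ker := by
      have := congrArg Subtype.val (MonoidHom.mem_ker.1 hk)
      exact MonoidHom.mem_ker.2 (Subtype.ext this)
    rw [F.theta_ker hF] at h0
    exact Subtype.ext (mem_bot.1 (hKA.le ⟨k.2.1, h0⟩))
  · rintro ⟨γ, hγ⟩
    obtain ⟨n, hn⟩ := F.theta_surjective hF ⟨γ, (mem_duadStab.1 hγ).1⟩
    have hx' : (n : G) ∈ ((K ⊔ F.grp : Subgroup G) : Set G) := hsup.ge n.2
    rw [coe_mul_of_left_le_normalizer_right K F.grp (fun k hk => hK hk)] at hx'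
    obtain ⟨k, hk, a', ha', e⟩ := Set.mem_mul.1 hx'
    have hth : F.theta hF ⟨k, hK hk⟩ = F.theta hF n := by
      have hker : (⟨a', F.grp_le_nrm ha'⟩ : ↥F.nrm) ∈ (F.theta hF).ker := by
        rw [F.theta_ker hF]; exact ha'
      rw [show n = (⟨k, hK hk⟩ : ↥F.nrm) * ⟨a', F.grp_le_nrm ha'⟩ from Subtype.ext e.symm, map_mul,
        MonoidHom.mem_ker.1 hker, mul_one]
    have hkL : k ∈ F.lc := (key ⟨k, hK hk⟩).2 (by rw [hth, hn]; exact hγ)
    refine ⟨⟨k, hk, hkL⟩, Subtype.ext ?_⟩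
    show ((F.theta hF ⟨k, _⟩ : ↥M24) : Equiv.Perm GolayPt) = γ
    rw [hth, hn]

end Frame

end Cfsg.Agent.J4Type.V11
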