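import Cfsg.Agent.J4Type.V11.Lift
import Cfsg.Agent.J4Type.Orbits.Lin
import Cfsg.Agent.J4Type.FusionMain

/-!
# Coordinates exist in a simple group of Janko-four type
-/

set_option autoImplicit false

open Cfsg Subgroup

namespace Cfsg.Agent.J4Type.V11

universe u

variable {G : Type u} [Group G] [Finite G] {z : G} {P : Subgroup G}

/-- The setting of all arguments on the elementary abelian group. -/
theorem exists_sys [IsSimpleGroup G] (hG : ¬ IsMulCommutative G) (hJ : IsOfJankoFourTypeWith z P) :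
    ∃ B : List (Base.V z), Sys z P (Base.piE z) (Base.rhoM z P) (Base.qf z) B := by
  obtain ⟨B, hM⟩ := Orbits.exists_model_janko hJ
  obtain ⟨g, hg, hne⟩ := Base.exists_conj_mem_oc hJ hG
  exact ⟨B, Base.actData hJ, hM, ⟨_, hM.linFacts⟩, ⟨_, hg, hne, g, rfl⟩⟩

end Cfsg.Agent.J4Type.V11
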