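import Mathlib

/-!
# Products of commuting involutions selected by the bits of a code
-/

set_option autoImplicit false

namespace Cfsg.Agent.J4Type.V11

variable {G : Type*} [Group G]

/-- Induction on codes through the exclusive or. -/
theorem bitInd {P : ℕ → Prop} (n : ℕ) (h0 : P 0)
    (hx : ∀ a b, a < 2 ^ n → b < 2 ^ n → P a → P b → P (a ^^^ b)) (hp : ∀ i < n, P (2 ^ i)) :
    ∀ x < 2 ^ n, P x := by
  suffices ∀ k ≤ n, ∀ x < 2 ^ k, P x from this n le_rfl
  intro k
  induction k with
  | zero =>
    intro _ x hx0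
    rw [show x = 0 by simpa using hx0]
    exact h0
  | succ k ih =>
    intro hk x hxk
    by_cases h : x < 2 ^ k
    · exact ih (by omega) x h
    · have hlt : x ^^^ 2 ^ k < 2 ^ k := by
        refine Nat.lt_pow_two_of_testBit _ fun j hj => ?_
        rw [Nat.testBit_xor, Nat.testBit_two_pow]
        rcases eq_or_lt_of_le hj with rfl | hj'
        · have : x / 2 ^ k = 1 := Nat.div_eq_of_lt_le (by omega) (by rw [pow_succ] at hxk; omega)
          simp [Nat.testBit_eq_decide_div_mod_eq, this]
        · have : x.testBit j = false := Nat.testBit_lt_two_pow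
            (lt_of_lt_of_le hxk (Nat.pow_le_pow_right (by norm_num) hj'))
          simp [this, Nat.ne_of_lt hj']
      have e : x = (x ^^^ 2 ^ k) ^^^ 2 ^ k := by simp
      rw [e]
      have hle : 2 ^ k ≤ 2 ^ n := Nat.pow_le_pow_right (by norm_num) (by omega)
      exact hx _ _ (by omega) (Nat.pow_lt_pow_right (by norm_num) (by omega)) (ih (by omega) _ hlt)
        (hp k (by omega))

/-- A code splits into its three parts. -/
theorem split_code : ∀ x < 2048, x = (x % 64) ^^^ (64 * (x / 64 % 2)) ^^^ (128 * (x / 128)) := by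
  have h : ((List.range 2048).all fun x =>
      Nat.beq x ((x % 64) ^^^ (64 * (x / 64 % 2)) ^^^ (128 * (x / 128)))) = true := by decide +kernel
  intro x hx
  exact Nat.eq_of_beq_eq_true (List.all_eq_true.1 h x (List.mem_range.2 hx))

/-- The product of the entries selected by the bits. -/
def sel : List G → ℕ → G
  | [], _ => 1
  | g :: l, x => (if x % 2 = 1 then g else 1) * sel l (x / 2)

theorem sel_zero : ∀ l : List G, sel l 0 = 1
  | [] => rfl
  | g :: l => by rw [sel, Nat.zero_div, sel_zero l, if_neg (by decide), one_mul]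

theorem sel_mem {S : Subgroup G} : ∀ {l : List G}, (∀ g ∈ l, g ∈ S) → ∀ x, sel l x ∈ S
  | [], _, _ => one_mem S
  | g :: l, h, x => by
    rw [sel]
    refine mul_mem ?_ (sel_mem (fun a ha => h a (List.mem_cons_of_mem g ha)) _)
    split
    · exact h g List.mem_cons_self
    · exact one_mem S

theorem sel_commute {a : G} : ∀ {l : List G}, (∀ g ∈ l, Commute a g) → ∀ x, Commute a (sel l x)
  | [], _, _ => Commute.one_right a
  | g :: l, h, x => by
    rw [sel]
    refine Commute.mul_right ?_ (sel_commute (fun b hb => h b (List.mem_cons_of_mem g hb)) _)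
    split
    · exact h g List.mem_cons_self
    · exact Commute.one_right a

theorem sel_xor : ∀ {l : List G}, (∀ a ∈ l, ∀ b ∈ l, Commute a b) → (∀ a ∈ l, a * a = 1) →
    ∀ x y, sel l (x ^^^ y) = sel l x * sel l y
  | [], _, _, _, _ => (one_mul 1).symm
  | g :: l, hc, hs, x, y => by
    have hg : Commute g (sel l (x / 2)) :=
      sel_commute (fun b hb => hc g List.mem_cons_self b (List.mem_cons_of_mem g hb)) _
    rw [sel, sel, sel, Nat.xor_div_two,
      sel_xor (fun a ha b hb => hc a (List.mem_cons_of_mem g ha) b (List.mem_cons_of_mem g hb))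
        (fun a ha => hs a (List.mem_cons_of_mem g ha)), Nat.xor_mod_two_eq]
    rcases Nat.mod_two_eq_zero_or_one x with hx | hx <;>
      rcases Nat.mod_two_eq_zero_or_one y with hy | hy <;>
      rw [Nat.add_mod x y, hx, hy] <;>
      simp only [Nat.zero_ne_one, if_false, if_true, Nat.zero_add, Nat.add_zero, one_mul,
        Nat.zero_mod, Nat.one_mod, Nat.mod_self, Nat.reduceAdd]
    · rw [← mul_assoc (sel l (x / 2)), ← hg.eq, mul_assoc]
    · rw [mul_assoc]
    · rw [mul_assoc g, ← mul_assoc (sel l (x / 2)), ← hg.eq, mul_assoc g, ← mul_assoc g g,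
        hs g List.mem_cons_self, one_mul]

theorem sel_two_pow : ∀ (l : List G) (i : ℕ) (h : i < l.length), sel l (2 ^ i) = l[i]
  | g :: l, 0, _ => by simp [sel, sel_zero]
  | g :: l, i + 1, h => by
    rw [sel, pow_succ, Nat.mul_div_cancel _ Nat.two_pos, sel_two_pow l i,
      if_neg (by simp), one_mul, List.getElem_cons_succ]

end Cfsg.Agent.J4Type.V11
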