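import Cfsg.Agent.J4Type.V11.HexStab
import Cfsg.Agent.Compute.M24Base

/-!
# The normaliser acts on the group as the group of degree 24 on pairs of points
-/

set_option autoImplicit false

open Cfsg Subgroup

namespace Cfsg.Agent.J4Type.V11

open LargeExtra (oc oc_le oc_conj_mem)
open LargeFischer (W11 pt pn IsDuad)
open Rep Orbits

variable {G : Type*} [Group G] [Finite G] {z : G} {P : Subgroup G} {V : Type*} [AddCommGroup V]
  {π : ↥(oc z) →* Multiplicative V} {ρ : ↥(mSub z P) →* Equiv.Perm V} {q : V → ZMod 2} {B : List V}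

theorem duad_iff {k : ℕ} (hk : k < 2048) : IsDuad (LargeFischer.bv k) ↔ bit LargeFischer.tmask k = true := by
  rw [bit_iff]
  have hl : ∀ u, LargeFischer.vp24 u < 2048 := fun u => LargeFischer.pn_e24 u ▸ LargeFischer.pn_lt _
  constructor
  · rintro ⟨i, j, hij, e⟩
    obtain ⟨a, rfl⟩ := Compute.e24.surjective i
    obtain ⟨b, rfl⟩ := Compute.e24.surjective j
    rw [pt, pt, LargeFischer.pn_e24, LargeFischer.pn_e24, ← LargeFischer.bv_xor] at e
    rw [LargeFischer.bv_inj hk (xor_lt_2048 (hl a) (hl b)) e]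
    exact LargeFischer.duad_mem a b fun h => hij (by rw [h])
  · intro h
    obtain ⟨a, b, rfl⟩ := LargeFischer.duad_cover hk h
    refine ⟨Compute.e24 a, Compute.e24 b, fun e => ?_, ?_⟩
    · rw [Compute.e24.injective e, Nat.xor_self] at h
      exact ((LargeFischer.tmask_spec (by norm_num)).1 h).1 rfl
    · rw [pt, pt, LargeFischer.pn_e24, LargeFischer.pn_e24, LargeFischer.bv_xor]

theorem duad_ok' {x : ℕ} (hx : x < 2048) : tB 370 x = bit LargeFischer.tmask (app Lm x) ∧
    app Lm x < 2048 ∧ app Li x < 2048 ∧ app Li (app Lm x) = x ∧ app Lm (app Li x) = x := by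
  have h := all_range duad_ok hx
  simp only [Bool.and_eq_true, beq_iff_eq] at h
  exact ⟨h.1.1.1.1, blt_nat h.1.1.1.2, blt_nat h.1.1.2, beq_nat h.1.2, beq_nat h.2⟩

namespace Frame

variable {S : Sys z P π ρ q B} (F : Frame S)

/-- The code of an element of the group. -/
noncomputable def codeOf (F : Frame S) (a : ↥F.grp) : ℕ :=
  Classical.choose (show ∃ x < 2048, F.phi x = (a : G) from a.2)

theorem codeOf_spec (a : ↥F.grp) : F.codeOf a < 2048 ∧ F.phi (F.codeOf a) = (a : G) :=
  Classical.choose_spec (show ∃ x < 2048, F.phi x = (a : G) from a.2)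

theorem codeOf_eq {a : ↥F.grp} {x : ℕ} (hx : x < 2048) (h : F.phi x = (a : G)) : F.codeOf a = x :=
  F.phi_inj (F.codeOf_spec a).1 hx ((F.codeOf_spec a).2.trans h.symm)

/-- The coordinates in the quotient of the code. -/
noncomputable def vHom (F : Frame S) : ↥F.grp →* Multiplicative W11 where
  toFun a := Multiplicative.ofAdd (LargeFischer.bv (app Lm (F.codeOf a)))
  map_one' := by
    rw [F.codeOf_eq (x := 0) (by norm_num) (by rw [F.phi_zero]; rfl), Rep.app_zero, LargeFischer.bv_zero]
    rfl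
  map_mul' a b := by
    rw [F.codeOf_eq (xor_lt_2048 (F.codeOf_spec a).1 (F.codeOf_spec b).1)
      (by rw [F.phi_xor, (F.codeOf_spec a).2, (F.codeOf_spec b).2]; rfl), app_xor, LargeFischer.bv_xor]
    rfl

theorem vHom_inj : Function.Injective F.vHom := by
  intro a b h
  have ha := F.codeOf_spec a
  have hb := F.codeOf_spec b
  have h' := LargeFischer.bv_inj (duad_ok' ha.1).2.1 (duad_ok' hb.1).2.1 (Multiplicative.ofAdd.injective h)
  have := congrArg (app Li) h'
  rw [(duad_ok' ha.1).2.2.2.1, (duad_ok' hb.1).2.2.2.1] at this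
  exact Subtype.ext (by rw [← ha.2, ← hb.2, this])

theorem vHom_bij : Function.Bijective F.vHom := by
  refine (Nat.bijective_iff_injective_and_card _).2 ⟨F.vHom_inj, ?_⟩
  rw [F.card_grp, Nat.card_congr Multiplicative.toAdd, Nat.card_fun, Nat.card_fin, Nat.card_zmod]

/-- The group in coordinates. -/
noncomputable def vEquiv (F : Frame S) : ↥F.grp ≃* Multiplicative W11 := MulEquiv.ofBijective F.vHom F.vHom_bij

theorem vEquiv_phi {x : ℕ} (hx : x < 2048) :
    F.vEquiv ⟨F.phi x, F.phi_mem hx⟩ = Multiplicative.ofAdd (LargeFischer.bv (app Lm x)) := by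
  show Multiplicative.ofAdd (LargeFischer.bv (app Lm (F.codeOf _))) = _
  rw [F.codeOf_eq hx rfl]

/-- Conjugation as automorphisms of the group. -/
noncomputable def nHom (F : Frame S) : ↥F.nrm →* MulAut ↥F.grp := F.grp.normalizerMonoidHom

/-- Conjugation in coordinates. -/
noncomputable def tau (F : Frame S) (n : ↥F.nrm) : W11 →+ W11 :=
  AddMonoidHom.mk' (fun v => (F.vEquiv (F.nHom n (F.vEquiv.symm (Multiplicative.ofAdd v)))).toAdd)
    fun v w => by simp only [ofAdd_add, map_mul, toAdd_mul]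

theorem tau_apply (n : ↥F.nrm) (a : ↥F.grp) :
    F.tau n (F.vEquiv a).toAdd = (F.vEquiv (F.nHom n a)).toAdd := by
  show (F.vEquiv (F.nHom n (F.vEquiv.symm (F.vEquiv a)))).toAdd = _
  rw [F.vEquiv.symm_apply_apply]

theorem tau_inj (n : ↥F.nrm) : Function.Injective (F.tau n) := fun v w h =>
  Multiplicative.ofAdd.injective (F.vEquiv.symm.injective
    ((F.nHom n).injective (F.vEquiv.injective (Multiplicative.toAdd.injective h))))

theorem tau_comp (m n : ↥F.nrm) (v : W11) : F.tau (m * n) v = F.tau m (F.tau n v) := by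
  obtain ⟨a, ha⟩ := F.vEquiv.surjective (Multiplicative.ofAdd v)
  have e : v = (F.vEquiv a).toAdd := by rw [ha]; rfl
  rw [e, F.tau_apply, F.tau_apply, F.tau_apply, map_mul]
  rfl

theorem isDuad_iff (hF : F.Good) {a : ↥F.grp} : IsDuad (F.vEquiv a).toAdd ↔ F.sec (F.codeOf a) := by
  obtain ⟨hx, e⟩ := F.codeOf_spec a
  rw [F.sec_iff hF hx, (duad_ok' hx).1]
  exact duad_iff (duad_ok' hx).2.1

theorem tau_duad (hF : F.Good) (n : ↥F.nrm) {i j : GolayPt} (hij : i ≠ j) :
    IsDuad (F.tau n (pt i + pt j)) := by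
  obtain ⟨a, ha⟩ := F.vEquiv.surjective (Multiplicative.ofAdd (pt i + pt j))
  have e : pt i + pt j = (F.vEquiv a).toAdd := by rw [ha]; rfl
  have hs : F.sec (F.codeOf a) := (F.isDuad_iff hF).1 (e ▸ ⟨i, j, hij, rfl⟩)
  rw [e, F.tau_apply, F.isDuad_iff hF]
  refine F.sec_img (n := (n : G)) (F.codeOf_spec a).1 ?_ hs
  rw [(F.codeOf_spec a).2, (F.codeOf_spec _).2]
  rfl

/-- The permutation of the 24 points. -/
noncomputable def perm (F : Frame S) (hF : F.Good) (n : ↥F.nrm) : ↥M24 :=
  ⟨Classical.choose (LargeFischer.exists_perm (F.tau_inj n) fun _ _ h => F.tau_duad hF n h),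
    (Classical.choose_spec (LargeFischer.exists_perm (F.tau_inj n) fun _ _ h => F.tau_duad hF n h)).1⟩

theorem perm_spec (hF : F.Good) (n : ↥F.nrm) (i j : GolayPt) : F.tau n (pt i + pt j) =
    pt ((F.perm hF n : Equiv.Perm GolayPt) i) + pt ((F.perm hF n : Equiv.Perm GolayPt) j) :=
  (Classical.choose_spec (LargeFischer.exists_perm (F.tau_inj n) fun _ _ h => F.tau_duad hF n h)).2 i j

/-- **The action on pairs of points.** -/
noncomputable def theta (F : Frame S) (hF : F.Good) : ↥F.nrm →* ↥M24 :=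
  MonoidHom.mk' (F.perm hF) fun m n => Subtype.ext (LargeFischer.perm_unique fun i j => by
    rw [← F.perm_spec hF (m * n), F.tau_comp, F.perm_spec hF n, F.perm_spec hF m]
    rfl)

theorem theta_ker (hF : F.Good) : (F.theta hF).ker = F.grp.subgroupOf F.nrm := by
  have key : ∀ n : ↥F.nrm, F.theta hF n = 1 ↔ (n : G) ∈ centralizer (F.grp : Set G) := by
    intro n
    constructor
    · intro h
      have hid : ∀ v, F.tau n v = v := fun v => by
        refine LargeFischer.span_duads (K := AddMonoidHom.eqLocus (F.tau n) (AddMonoidHom.id _)) (fun i => ?_) v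
        show F.tau n (pt i + pt none) = _
        rw [F.perm_spec hF n, show F.perm hF n = 1 from h]
        rfl
      refine mem_centralizer_iff.2 fun a ha => ?_
      have := F.vEquiv.injective (Multiplicative.toAdd.injective
        ((F.tau_apply n ⟨a, ha⟩).symm.trans (hid _)))
      exact (mul_inv_eq_iff_eq_mul.1 (congrArg Subtype.val this)).symm
    · intro h
      refine Subtype.ext (LargeFischer.perm_unique fun i j => ?_)
      rw [show (F.theta hF n) = F.perm hF n from rfl, ← F.perm_spec hF n]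
      obtain ⟨a, ha⟩ := F.vEquiv.surjective (Multiplicative.ofAdd (pt i + pt j))
      have e : pt i + pt j = (F.vEquiv a).toAdd := by rw [ha]; rfl
      rw [e, F.tau_apply]
      have e' : F.nHom n a = a :=
        Subtype.ext (mul_inv_eq_iff_eq_mul.2 (mem_centralizer_iff.1 h a a.2).symm)
      rw [e', ← e]
      rfl
  ext n
  rw [MonoidHom.mem_ker, key, mem_subgroupOf]
  exact ⟨fun h => F.centralizer_grp h, fun h => mem_centralizer_iff.2 fun a ha => (F.grp_comm ha h).eq⟩

theorem grp_le_nrm : F.grp ≤ F.nrm := le_normalizer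

theorem card_class_z : Set.ncard {v : G | ∃ n ∈ F.nrm, n * z * n⁻¹ = v} = 1771 := by
  rw [F.ncard_orbit_z, F.card_cls le_rfl (by norm_num)]

theorem card_nrm : Nat.card ↥F.nrm = 1771 * Nat.card ↥(F.nrm ⊓ centralizer ({z} : Set G)) := by
  have h := CoOneType.card_conj_orbit F.nrm z {v | ∃ n ∈ F.nrm, n * z * n⁻¹ = v} (fun y => Iff.rfl)
  rwa [Nat.card_coe_set_eq, F.card_class_z] at h

/-- **The quotient is the whole group of degree 24.** -/
theorem theta_surjective (hF : F.Good) : Function.Surjective (F.theta hF) := by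
  rw [← MonoidHom.range_eq_top]
  refine eq_top_of_le_card _ ?_
  have h := (F.theta hF).ker.card_mul_index
  rw [index_ker, F.theta_ker hF, Nat.card_congr (subgroupOfEquivOfLe F.grp_le_nrm).toEquiv, F.card_grp,
    F.card_nrm] at h
  rw [Compute.card_m24]
  have := F.card_nrm_z
  omega

theorem card_nrm_eq (hF : F.Good) : Nat.card ↥F.nrm = 2 ^ 11 * 244823040 := by
  have h := (F.theta hF).ker.card_mul_index
  rw [index_ker, F.theta_ker hF, Nat.card_congr (subgroupOfEquivOfLe F.grp_le_nrm).toEquiv, F.card_grp,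
    MonoidHom.range_eq_top.2 (F.theta_surjective hF), card_top, Compute.card_m24] at h
  exact h.symm

end Frame

end Cfsg.Agent.J4Type.V11
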