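import Cfsg.Agent.J4Type.V11.SylDefs

/-!
# Finite checks on the Sylow 2-subgroup
-/

set_option autoImplicit false
set_option Elab.async false
set_option maxRecDepth 100000

namespace Cfsg.Agent.J4Type.V11

open Rep Orbits

theorem tl_mem : (Nat.beq TL.length 256 && eqM (tl 0) idM && (List.range 256).all fun i =>
    goodM (tl i) && Nat.blt (tIdx.getD i (false, 0, 0)).2.1 Short.codesA.length &&
    Nat.blt (tIdx.getD i (false, 0, 0)).2.2 Short.codesB.length &&
    eqM (cond (tIdx.getD i (false, 0, 0)).1
      (comp Short.S0c (comp (Short.codesA.getD (tIdx.getD i (false, 0, 0)).2.1 [])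
        (Short.codesB.getD (tIdx.getD i (false, 0, 0)).2.2 [])))
      (comp (Short.codesA.getD (tIdx.getD i (false, 0, 0)).2.1 [])
        (Short.codesB.getD (tIdx.getD i (false, 0, 0)).2.2 []))) (tl i)) = true := by decide +kernel

theorem tl_closed : ((List.range 256).all fun i => (List.range tGen.length).all fun k =>
    Nat.blt ((tMul.getD i []).getD k 256) 256 &&
    eqM (comp (tl (tGen.getD k 0)) (tl i)) (tl ((tMul.getD i []).getD k 256))) = true := by decide +kernel

theorem tl_tree : (tGen.all (fun g => Nat.blt g 256) && tTree.all fun e =>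
    Nat.blt e.2.2 tGen.length && Nat.blt e.1 256 && Nat.blt e.2.1 256 &&
    Nat.beq ((tMul.getD e.2.1 []).getD e.2.2 256) e.1) = true := by decide +kernel

theorem tl_reach : ((List.range 256).all fun i => bit (reachBits 0 tTree) i) = true := by decide +kernel

theorem tl_distinct : distinctB eqM TL = true := by decide +kernel

theorem tl_sq : ((List.range 256).all fun i => Nat.blt i 72 || !(eqM (comp (tl i) (tl i)) idM)) = true := by
  decide +kernel

theorem prod_ok : ((List.range 72).all fun i => (List.range 72).all fun j =>
    cond (Nat.blt (prod72 i j) 72) (eqM (comp (tl i) (tl j)) (tl (prod72 i j)))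
      (!(eqM (comp (tl i) (tl j)) (comp (tl j) (tl i))))) = true := by decide +kernel

theorem prod_inner : ((List.range 72).all fun i => (List.range 72).all fun j =>
    !(Nat.blt (prod72 i j) 72) || !(Nat.blt 35 i && Nat.blt 35 j) ||
      (Nat.blt (prod72 i j) 36 && Nat.beq (prod72 i (prod72 i j)) j)) = true := by decide +kernel

theorem subs_ok : (Nat.beq (subM.getD 0 0) 1 && Nat.beq subM.length 161 && (List.range 161).all fun s =>
    bit (subM.getD s 0) 0 &&
    ((List.range 35).all fun x => bit (subM.getD s 0) (x + 1) || !(commAll (subM.getD s 0) (x + 1)) ||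
      (Nat.blt (subStep s x) 161 &&
        Nat.beq (subM.getD (subStep s x) 0) (withElem (subM.getD s 0) (x + 1)))) &&
    Nat.beq ((List.range 72).filter (bit (subM.getD s 0))).length (subN.getD s 0) &&
    ((List.range 36).all fun x => !(commAll (subM.getD s 0) (x + 36)) || Nat.blt (subN.getD s 0) 8 ||
      (Nat.blt (candStep s x) candT.length &&
        Nat.beq (candT.getD (candStep s x) (0, [], 0)).1 (withElem (subM.getD s 0) (x + 36)))) &&
    (Nat.blt (subN.getD s 0) 16 || candT.any fun c => Nat.beq c.1 (subM.getD s 0))) = true := by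
  decide +kernel

theorem cand_ok : (candT.all fun c => c.2.1.all (fun i => bit c.1 i && Nat.blt i 72) &&
    Nat.beq ((List.range 72).filter (bit c.1)).length c.2.2 &&
    (Nat.beq c.1 hexM || Nat.blt (c.2.2 * fixCount c.2.1) 1024)) = true := by decide +kernel

theorem hex_fixed : (candT.all fun c => !(Nat.beq c.1 hexM) || (List.range 4096).all fun r =>
    !(c.2.1.all fun i => Nat.beq (app (tl i) r) r) || inW r) = true := by decide +kernel

theorem seven_mem : inW 7 = true := by decide +kernel

theorem hex_ok : (((List.range 16).all fun m =>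
    Nat.blt (hexI.getD m 256) 72 && eqM (tl (hexI.getD m 256)) (ql m) &&
    bit hexM (hexI.getD m 256)) &&
  (List.range 72).all (fun i => !(bit hexM i) || hexI.any (Nat.beq i))) = true := by decide +kernel

end Cfsg.Agent.J4Type.V11
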