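import Cfsg.Agent.J4Type.V11.CentralizerA
import Cfsg.Agent.J4Type.V11.SylChecks

/-!
# The Sylow 2-subgroup of the model and of `G`
-/

set_option autoImplicit false

open Cfsg Subgroup

namespace Cfsg.Agent.J4Type.V11

open LargeExtra (oc oc_le oc_conj_mem)
open Rep Orbits

variable {G : Type*} [Group G] [Finite G] {z : G} {P : Subgroup G} {V : Type*} [AddCommGroup V]
  {π : ↥(oc z) →* Multiplicative V} {ρ : ↥(mSub z P) →* Equiv.Perm V} {q : V → ZMod 2} {B : List V}

theorem tl_good {i : ℕ} (hi : i < 256) : goodM (tl i) = true := by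
  have h := tl_mem
  simp only [Bool.and_eq_true] at h
  have h' := all_range h.2 hi
  simp only [Bool.and_eq_true] at h'
  exact h'.1.1.1

theorem tl_inj {i j : ℕ} (hi : i < 256) (hj : j < 256) (h : tl i = tl j) : i = j := by
  have hl : TL.length = 256 := by decide +kernel
  rw [tl, tl, List.getD_eq_getElem _ _ (by omega), List.getD_eq_getElem _ _ (by omega)] at h
  exact distinctB_get (fun a b h => by rw [h]; exact eqM_iff.2 rfl) tl_distinct _ _ h

theorem tl_zero : tl 0 = idM := by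
  have h := tl_mem
  simp only [Bool.and_eq_true, eqM_iff] at h
  exact h.1.2

/-- The generators of the subgroup of order 256. -/
def tbGens (B : List V) : Set (Equiv.Perm V) :=
  {γ | ∃ k < tGen.length, Orbits.PActs B γ (tl (tGen.getD k 0))}

/-- The subgroup of order 256. -/
def tb (B : List V) : Subgroup (Equiv.Perm V) := closure (tbGens B)

namespace Sys

variable (S : Sys z P π ρ q B)
include S

theorem tl_exists {i : ℕ} (hi : i < 256) : ∃ γ ∈ ρ.range, Orbits.PActs B γ (tl i) := by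
  have h := tl_mem
  simp only [Bool.and_eq_true] at h
  have h' := all_range h.2 hi
  simp only [Bool.and_eq_true, eqM_iff] at h'
  obtain ⟨⟨⟨-, ha⟩, hb⟩, e⟩ := h'
  have ha := blt_nat ha
  have hb := blt_nat hb
  rw [List.getD_eq_getElem _ _ ha, List.getD_eq_getElem _ _ hb] at e
  have hmem : comp Short.codesA[(tIdx.getD i (false, 0, 0)).2.1] Short.codesB[(tIdx.getD i (false, 0, 0)).2.2] ∈
      Orbits.prodList Short.codesA Short.codesB :=
    Orbits.mem_prodList.2 ⟨_, List.getElem_mem ha, _, List.getElem_mem hb, rfl⟩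
  obtain ⟨δ, hδ, hd, -⟩ := short.exists_of_mem S.M hmem
  cases hb' : (tIdx.getD i (false, 0, 0)).1 <;> rw [hb'] at e
  · exact ⟨δ, S.M.le hδ, e ▸ hd⟩
  · obtain ⟨σ, hσΓ, hσ⟩ := S.M.exists_sigma
    obtain ⟨υ, hυ, hu⟩ := S.M.word Short.wordU
    exact ⟨υ * σ * δ, mul_mem (mul_mem (S.M.le hυ) hσΓ) (S.M.le hδ), e ▸ (short.outer ▸ hu.mul hσ).mul hd⟩

theorem mem_tb {γ : Equiv.Perm V} : γ ∈ tb B ↔ ∃ i < 256, Orbits.PActs B γ (tl i) := by
  have hc := tl_closed
  refine ⟨fun h => ?_, ?_⟩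
  · have := S.M.fin
    have h' : γ ∈ (closure (tbGens B)).toSubmonoid := h
    rw [closure_toSubmonoid_of_finite] at h'
    clear h
    induction h' using Submonoid.closure_induction_left with
    | one => exact ⟨0, by norm_num, tl_zero ▸ S.M.acts_idM⟩
    | mul_left x hx y _ ih =>
      obtain ⟨k, hk, hxk⟩ := hx
      obtain ⟨i, hi, hy⟩ := ih
      have h1 := all_range (all_range hc hi) hk
      simp only [Bool.and_eq_true, eqM_iff] at h1
      exact ⟨_, blt_nat h1.1, h1.2 ▸ hxk.mul hy⟩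
  · rintro ⟨i, hi, hγ⟩
    have key := reachBits_sound (fun i => i < 256 ∧ ∀ δ, Orbits.PActs B δ (tl i) → δ ∈ tb B)
      (seed := 0) (t := tTree) ⟨by norm_num, fun δ hδ => by
        rw [tl_zero] at hδ
        rw [S.M.acts_eq hδ S.M.acts_idM]
        exact one_mem _⟩ (fun e he ⟨hp, hpar⟩ => ?_) (all_range tl_reach hi)
    · exact key.2 γ hγ
    have ht := tl_tree
    simp only [Bool.and_eq_true, List.all_eq_true] at ht
    obtain ⟨⟨⟨hk, h1⟩, -⟩, hbe⟩ := ht.2 e he
    have hk := blt_nat hk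
    refine ⟨blt_nat h1, fun δ hδ => ?_⟩
    have hg : tGen.getD e.2.2 0 < 256 := by
      rw [List.getD_eq_getElem _ _ hk]
      exact blt_nat (ht.1 _ (List.getElem_mem hk))
    obtain ⟨a, -, ha⟩ := S.tl_exists hg
    obtain ⟨b, -, hb⟩ := S.tl_exists hp
    have h2 := all_range (all_range hc hp) hk
    simp only [Bool.and_eq_true, eqM_iff] at h2
    rw [beq_nat hbe] at h2
    have : δ = a * b := S.M.acts_eq hδ (h2.2 ▸ ha.mul hb)
    rw [this]
    exact mul_mem (subset_closure ⟨_, hk, ha⟩) (hpar b hb)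

theorem tb_le : tb B ≤ ρ.range := fun γ h => by
  obtain ⟨i, hi, hγ⟩ := S.mem_tb.1 h
  obtain ⟨δ, hδ, hd⟩ := S.tl_exists hi
  exact S.M.acts_eq hd hγ ▸ hδ

theorem card_tb : Nat.card (tb B) = 256 := by
  have hex : ∀ i : Fin 256, ∃ γ : tb B, Orbits.PActs B (γ : Equiv.Perm V) (tl i) := fun i => by
    obtain ⟨γ, -, hd⟩ := S.tl_exists i.2
    exact ⟨⟨γ, S.mem_tb.2 ⟨i, i.2, hd⟩⟩, hd⟩
  choose f hf using hex
  have hb : Function.Bijective f := by
    refine ⟨fun i j e => Fin.ext (tl_inj i.2 j.2 (S.M.code_unique (hf i) (e ▸ hf j) (tl_good i.2) (tl_good j.2))),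
      fun γ => ?_⟩
    obtain ⟨i, hi, hd⟩ := S.mem_tb.1 γ.2
    exact ⟨⟨i, hi⟩, Subtype.ext (S.M.acts_eq (hf ⟨i, hi⟩) hd)⟩
  rw [← Nat.card_congr (Equiv.ofBijective f hb), Nat.card_fin]

theorem card_range : Nat.card ρ.range = 2661120 := by
  obtain ⟨σ, hσΓ, hσ⟩ := S.M.exists_sigma
  obtain ⟨ω, -, hω⟩ := S.M.word Wit.wordW
  rw [wordW_eq] at hω
  have hn := S.M.sigma_not_mem hσ hω
  let f : ↥(gammaZero ρ) ⊕ ↥(gammaZero ρ) → ↥ρ.range :=
    Sum.elim (fun x => ⟨x, S.M.le x.2⟩) fun x => ⟨σ * x, mul_mem hσΓ (S.M.le x.2)⟩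
  have hf : Function.Bijective f := by
    refine ⟨?_, fun γ => ?_⟩
    · have hmix : ∀ a b : ↥(gammaZero ρ), (a : Equiv.Perm V) ≠ σ * b := fun a b h => hn (by
        rw [show σ = (a : Equiv.Perm V) * (b : Equiv.Perm V)⁻¹ by rw [h, mul_inv_cancel_right]]
        exact mul_mem a.2 (inv_mem b.2))
      rintro (a | a) (b | b) h <;> have h' : _ = _ := congrArg Subtype.val h <;>
        simp only [f, Sum.elim_inl, Sum.elim_inr] at h'
      · exact congrArg Sum.inl (Subtype.ext h')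
      · exact absurd h' (hmix a b)
      · exact absurd h'.symm (hmix b a)
      · exact congrArg Sum.inr (Subtype.ext (mul_left_cancel h'))
    · rcases S.M.cases_mem hσ γ.2 with h | ⟨δ, hδ, e⟩
      · exact ⟨Sum.inl ⟨γ, h⟩, rfl⟩
      · exact ⟨Sum.inr ⟨δ, hδ⟩, Subtype.ext e.symm⟩
  have := S.M.fin
  rw [← Nat.card_congr (Equiv.ofBijective f hf), Nat.card_sum, S.M.card]

theorem range_linHom : (ActData.linHom S.D).range = ρ.range := by
  ext γ
  constructor
  · rintro ⟨h, rfl⟩; exact S.D.lin_mem h.2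
  · rintro ⟨⟨m, hm⟩, rfl⟩
    exact ⟨⟨m, hm.1⟩, (S.D.lin_mSub hm).1.trans (act_of_mem hm)⟩

theorem ker_linHom : (ActData.linHom S.D).ker = (oc z).subgroupOf (centralizer ({z} : Set G)) := by
  ext h
  exact S.D.lin_eq_one h.2

theorem card_oc : Nat.card ↥(oc z) = 2 ^ 13 := S.D.hJ.2.2.1

/-- The preimage in `H` of a subgroup of the image has the expected order. -/
theorem card_comap {K : Subgroup (Equiv.Perm V)} (hK : K ≤ ρ.range) :
    Nat.card ↥((K.comap (ActData.linHom S.D)).map (centralizer ({z} : Set G)).subtype) =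
      2 ^ 13 * Nat.card K := by
  set L := K.comap (ActData.linHom S.D) with hL
  rw [card_map_of_injective (subtype_injective _)]
  let g : ↥L →* ↥K := ((ActData.linHom S.D).comp L.subtype).codRestrict K fun x => x.2
  have hg : Function.Surjective g := by
    rintro ⟨k, hk⟩
    have hk' : k ∈ (ActData.linHom S.D).range := by rw [S.range_linHom]; exact hK hk
    obtain ⟨h, rfl⟩ := hk'
    exact ⟨⟨h, hk⟩, rfl⟩
  have hker : g.ker.map L.subtype = (oc z).subgroupOf (centralizer ({z} : Set G)) := by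
    rw [← S.ker_linHom]
    ext h
    constructor
    · rintro ⟨a, ha, rfl⟩; exact congrArg Subtype.val ha
    · intro hh
      exact ⟨⟨h, show ActData.linHom S.D h ∈ K by rw [MonoidHom.mem_ker.1 hh]; exact one_mem K⟩,
        Subtype.ext hh, rfl⟩
  have h := g.ker.card_mul_index
  rw [index_ker, MonoidHom.range_eq_top.2 hg, card_top, ← card_map_of_injective (subtype_injective L), hker,
    Nat.card_congr (subgroupOfEquivOfLe (oc_le z)).toEquiv, S.card_oc] at h
  exact h.symm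

theorem card_H : Nat.card ↥(centralizer ({z} : Set G)) = 2 ^ 13 * 2661120 := by
  have h := S.card_comap (le_refl ρ.range)
  rw [S.card_range] at h
  rw [← h, show ρ.range.comap (ActData.linHom S.D) = ⊤ from ?_, ← MonoidHom.range_eq_map, range_subtype]
  rw [eq_top_iff]
  intro x _
  exact S.D.lin_mem x.2

/-- A Sylow 2-subgroup of `G` in `H`, as a subgroup. -/
noncomputable def tG : Subgroup G := ((tb B).comap (ActData.linHom S.D)).map (centralizer ({z} : Set G)).subtype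

theorem mem_tG {h : G} : h ∈ S.tG ↔ h ∈ centralizer ({z} : Set G) ∧ lin ρ h ∈ tb B := by
  constructor
  · rintro ⟨x, hx, rfl⟩; exact ⟨x.2, hx⟩
  · rintro ⟨hh, hl⟩; exact ⟨⟨h, hh⟩, hl, rfl⟩

theorem tG_le : S.tG ≤ centralizer ({z} : Set G) := fun _ h => (S.mem_tG.1 h).1

theorem oc_le_tG : oc z ≤ S.tG := fun e he =>
  S.mem_tG.2 ⟨oc_le z he, by rw [(S.D.lin_oc he).1]; exact one_mem _⟩

theorem card_tG : Nat.card ↥S.tG = 2 ^ 21 := by
  rw [tG, S.card_comap S.tb_le, S.card_tb]; rfl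

/-- The subgroup is a Sylow 2-subgroup of `G`. -/
theorem exists_sylow : ∃ T : Sylow 2 G, (T : Subgroup G) = S.tG := by
  have := Fact.mk Nat.prime_two
  obtain ⟨T, hT⟩ := (IsPGroup.of_card S.card_tG).exists_le_sylow
  refine ⟨T, le_antisymm ?_ hT⟩
  by_contra hnle
  have hlt : (S.tG).subgroupOf (T : Subgroup G) < ⊤ := by
    rw [lt_top_iff_ne_top]
    exact fun h => hnle (subgroupOf_eq_top.1 h)
  have := T.2.isNilpotent
  obtain ⟨⟨g, hgT⟩, hgn, hg⟩ := SetLike.exists_of_lt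
    ((normalizerCondition_of_isNilpotent : NormalizerCondition ↥(T : Subgroup G)) _ hlt)
  have hg : g ∉ S.tG := hg
  have hz : z ∈ S.tG := S.oc_le_tG S.D.z_mem
  have hnorm : ∀ x ∈ S.tG, g * x * g⁻¹ ∈ S.tG := fun x hx =>
    ((mem_normalizer_iff.1 hgn) ⟨x, hT hx⟩).1 hx
  have hinv : ∀ x ∈ S.tG, g⁻¹ * x * g ∈ S.tG := fun x hx => by
    have := (mem_normalizer_iff.1 hgn ⟨g⁻¹ * x * g, mul_mem (mul_mem (inv_mem hgT) (hT hx)) hgT⟩).2
    refine this ?_
    show g * (g⁻¹ * x * g) * g⁻¹ ∈ S.tG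
    rwa [show g * (g⁻¹ * x * g) * g⁻¹ = x by group]
  have hcomm : ∀ e ∈ S.tG, Commute (g * z * g⁻¹) e := fun e he => by
    have h1 : Commute (g⁻¹ * e * g) z := S.D.comm_z (S.tG_le (hinv e he))
    show g * z * g⁻¹ * e = e * (g * z * g⁻¹)
    calc g * z * g⁻¹ * e = g * (z * (g⁻¹ * e * g)) * g⁻¹ := by group
      _ = g * (g⁻¹ * e * g * z) * g⁻¹ := by rw [h1.eq]
      _ = e * (g * z * g⁻¹) := by group
  have hE : g * z * g⁻¹ ∈ oc z := by
    obtain ⟨-, -, -, hCE, -⟩ := S.D.hJ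
    exact hCE ⟨S.tG_le (hnorm z hz), mem_centralizer_iff.2 fun e he =>
      (hcomm e (S.oc_le_tG he)).eq.symm⟩
  have hgH : g ∈ centralizer ({z} : Set G) := by
    rcases S.D.set'.center_cases hE (fun w hw => (hcomm w (S.oc_le_tG hw)).symm) with h | h
    · exact absurd (by
        rw [show z = g⁻¹ * (g * z * g⁻¹) * g by group, h]; group) S.D.z_ne
    · exact mem_centralizer_singleton_iff.2 (mul_inv_eq_iff_eq_mul.1 h)
  let U : Subgroup G := (T : Subgroup G) ⊓ centralizer ({z} : Set G)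
  have hU : S.tG < U := lt_of_le_of_ne (le_inf hT S.tG_le) fun h => hg (h.ge ⟨hgT, hgH⟩)
  obtain ⟨k, hk⟩ := (T.2.to_le (inf_le_left : U ≤ _)).exists_card_eq
  have h1 : 2 ^ 21 < Nat.card U := by
    rw [← S.card_tG]
    exact lt_of_le_of_ne (card_le_of_le hU.le) fun h => hU.ne (eq_of_le_of_card_ge hU.le h.ge)
  rw [hk] at h1
  have h2 : 2 ^ 22 ∣ Nat.card ↥(centralizer ({z} : Set G)) := by
    refine dvd_trans ?_ (card_dvd_of_le (inf_le_right : U ≤ _))
    rw [hk]
    exact pow_dvd_pow 2 ((Nat.pow_lt_pow_iff_right (by norm_num)).1 h1)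
  rw [S.card_H] at h2
  norm_num at h2

end Sys

end Cfsg.Agent.J4Type.V11
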