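import Cfsg.Agent.J4Type.V11.CentDefs

/-!
# Finite checks for the complement and the centraliser of the second involution
-/

set_option autoImplicit false
set_option Elab.async false
set_option maxRecDepth 100000

namespace Cfsg.Agent.J4Type.V11

open Rep Orbits

theorem u_ok : (Nat.beq Ub.length 6 && Ub.all (fun r => Nat.blt r 4096) &&
    ((List.range 64).all fun k => Nat.beq (app Uc (app Ub k)) k &&
      (Nat.beq k 0 || !(inW (app Ub k))) && !(Orbits.qb (app Ub k)) &&
      (List.range 64).all fun l => !(beta (app Ub k) (app Ub l)))) = true := by decide +kernel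

theorem rgen_ok : (Nat.beq rGen.length 6 && (List.range 6).all fun i =>
    Nat.blt (rGen.getD i 256) 256 && Nat.blt (rConj.getD i ([], 0)).2 qList.length &&
    eqM (comp (tl (rGen.getD i 256)) (code (rConj.getD i ([], 0)).1))
      (comp (code (rConj.getD i ([], 0)).1) (qList.getD (rConj.getD i ([], 0)).2 [])) &&
    ((List.range 6).all fun k => inW (app (tl (rGen.getD i 256)) (wv (2 ^ k))) &&
      Nat.beq (app Ub (app Uc (app (tl (rGen.getD i 256)) (app Ub (2 ^ k)))))
        (app (tl (rGen.getD i 256)) (app Ub (2 ^ k))))) = true := by decide +kernel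

theorem rgen_rel : (
    let r := fun i => tl (rGen.getD i 256)
    eqM (comp (r 2) (r 0)) (r 3) && eqM (comp (r 2) (r 1)) (r 4) &&
      eqM (comp (comp (r 0) (r 1)) (comp (r 0) (r 1))) (r 5) &&
      eqM (comp (r 0) (r 0)) idM && eqM (comp (r 1) (r 1)) idM && eqM (comp (r 2) (r 2)) idM) = true := by
  decide +kernel

theorem rel_list_ok : (Nat.beq rEl.length 16 && (List.range 16).all fun n =>
    Nat.blt (rEl.getD n 256) 256 &&
    (Nat.beq n 0 || !(QL.any (eqM (tl (rEl.getD n 256))))) &&
    eqM (tl (rEl.getD n 256))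
      (let x := tl (rGen.getD 0 256)
       let e := comp x (tl (rGen.getD 1 256))
       comp (comp (Nat.rec (motive := fun _ => List ℕ) idM (fun _ r => comp r e) (n / 4))
         (cond (Nat.beq (n / 2 % 2) 1) x idM)) (cond (Nat.beq (n % 2) 1) (tl (rGen.getD 2 256)) idM))) = true := by
  decide +kernel

theorem rEl_distinct : distinctB Nat.beq rEl = true := by decide +kernel

theorem eperm_ok : ((List.range 2).all fun j =>
    Compute.inM24B (eConj.getD j 0) && Compute.rep24.okb (ePerm.getD j 0) &&
    Nat.beq (Compute.rep24.mul (eConj.getD j 0) (ePerm.getD j 0))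
      (Compute.rep24.mul (Compute.syl2Reps.getD j 0) (eConj.getD j 0)) &&
    Nat.blt (eVec.getD j 0) 4096 && !(Orbits.qb (eVec.getD j 0)) &&
    (List.range 24).all fun i =>
      Nat.beq (eQuot (eVec.getD j 0) (Nat.xor (LargeFischer.vp24 (Fin.ofNat 24 i)) (LargeFischer.vp24 23)))
        (Nat.xor (LargeFischer.vp24 (Fin.ofNat 24 (Compute.rep24.act (ePerm.getD j 0) i)))
          (LargeFischer.vp24 (Fin.ofNat 24 (Compute.rep24.act (ePerm.getD j 0) 23))))) = true := by
  decide +kernel

theorem cov_ok : ((List.range 2048).all fun a => Nat.blt a 128 ||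
    ((!(Nat.beq (eAct (eVec.getD 0 0) a) a) || eCert0.any fun e => Nat.beq e.1 a && covOK (eVec.getD 0 0) e) &&
      (!(Nat.beq (eAct (eVec.getD 1 0) a) a) || eCert1.any fun e => Nat.beq e.1 a && covOK (eVec.getD 1 0) e))) = true := by
  decide +kernel

theorem use_ok : (eUse.all fun u => Nat.blt u.1 128 && !(tB 370 u.1) && !(Nat.beq (u.1 % 64) 0) &&
    Nat.beq (app (code u.2) 7) (wv (u.1 % 64))) = true := by decide +kernel

theorem high_ok : ((List.range 2048).all fun x =>
    Nat.blt x 128 || !(tB 370 x) || !(tB 370 (Nat.xor x 64))) = true := by decide +kernel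

theorem bad_sum : (((List.range 2048).filter inD).all fun a => ((List.range 2048).filter inD).all fun b =>
    !(inBad (Nat.xor a b))) = true := by decide +kernel

theorem test_ok : (tB 370 t0 && Nat.blt t0 128 &&
    [w1, w2].all (fun w => Nat.blt w 2048 && !(Nat.beq w 0) && !(tB 370 w) && !(tB 370 (Nat.xor w t0))) &&
    (((List.range 2048).filter fun i => inBad i && inD (Nat.xor w1 i)).all fun a =>
      ((List.range 2048).filter fun i => inBad i && inD (Nat.xor w2 i)).all fun b =>
        !(Nat.beq a b) && !(inBad (Nat.xor a b)))) = true := by decide +kernel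

theorem span_ok : ((List.range 11).all fun i =>
    Nat.beq ((dCert.getD i []).foldr (fun a b => Nat.xor a b) 0) (2 ^ i) &&
    (dCert.getD i []).all fun x => Nat.blt x 2048 && inD x) = true := by decide +kernel

theorem sing_cover : ((List.range 4096).all fun r =>
    Orbits.qb r || Nat.beq r 0 || bit Short.orbBits r || bit Long.orbBits r) = true := by decide +kernel

theorem t0_ok : (Nat.beq t0 58 && bit T36M t0 && !(tB 370 0)) = true := by decide +kernel

end Cfsg.Agent.J4Type.V11
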