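import Cfsg.Agent.J4Type.V11.Mathieu
import Cfsg.Agent.J4Type.V11.CentChecks
import Cfsg.Agent.Core.Gaschutz

/-!
# The normaliser splits
-/

set_option autoImplicit false

open Cfsg Subgroup

namespace Cfsg.Agent.J4Type.V11

open LargeExtra (oc oc_le oc_conj_mem)
open Rep Orbits
open scoped Pointwise

variable {G : Type*} [Group G] [Finite G] {z : G} {P : Subgroup G} {V : Type*} [AddCommGroup V]
  {π : ↥(oc z) →* Multiplicative V} {ρ : ↥(mSub z P) →* Equiv.Perm V} {q : V → ZMod 2} {B : List V}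

theorem ub_lt (k : ℕ) : app Ub k < 4096 := by
  have h := u_ok
  simp only [Bool.and_eq_true, List.all_eq_true] at h
  exact app_lt (n := 12) (fun a ha => blt_nat (h.1.2 a ha)) k

theorem ub_spec {k : ℕ} (hk : k < 64) : app Uc (app Ub k) = k ∧ (k ≠ 0 → inW (app Ub k) = false) ∧
    Orbits.qb (app Ub k) = false ∧ ∀ l < 64, beta (app Ub k) (app Ub l) = false := by
  have h := u_ok
  simp only [Bool.and_eq_true] at h
  have h' := all_range h.2 hk
  simp only [Bool.and_eq_true, Bool.or_eq_true, Bool.not_eq_true'] at h'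
  refine ⟨beq_nat h'.1.1.1, fun h0 => h'.1.1.2.resolve_left fun e => h0 (beq_nat e), h'.1.2, fun l hl => ?_⟩
  have := all_range h'.2 hl
  rwa [Bool.not_eq_true'] at this

/-- The standard form of an element of the group generated by `x`, `x e`, `c`. -/
def word3 (e x c : G) (n : ℕ × ℕ × ℕ) : G := e ^ n.1 * x ^ n.2.1 * c ^ n.2.2

theorem word3_closed {e x c : G}  (he : e ^ 4 = 1) (hx : x * x = 1) (hxe : x * e * x⁻¹ = e⁻¹)
    (hcx : Commute c x) (hce : Commute c e) {g : G} (hg : g ∈ closure ({x, x * e, c} : Set G)) :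
    ∃ n, g = word3 e x c n := by
  have h' : g ∈ (closure ({x, x * e, c} : Set G)).toSubmonoid := hg
  rw [closure_toSubmonoid_of_finite] at h'
  clear hg
  have hinv : e⁻¹ = e ^ 3 := inv_eq_of_mul_eq_one_right (by rw [← pow_succ']; exact he)
  have hxi : ∀ i : ℕ, x * e ^ i = e ^ (3 * i) * x := fun i => by
    have : (x * e * x⁻¹) ^ i = x * e ^ i * x⁻¹ := by rw [conj_pow]
    rw [hxe, hinv, ← pow_mul] at this
    rw [this]; group
  induction h' using Submonoid.closure_induction_left with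
  | one => exact ⟨(0, 0, 0), by simp [word3]⟩
  | mul_left a ha b _ ih =>
    obtain ⟨⟨i, j, k⟩, rfl⟩ := ih
    simp only [word3]
    rcases ha with rfl | rfl | rfl
    · exact ⟨(3 * i, j + 1, k), by rw [← mul_assoc, ← mul_assoc, hxi, mul_assoc (e ^ (3 * i)), ← pow_succ']⟩
    · refine ⟨(3 * (i + 1), j + 1, k), ?_⟩
      rw [← mul_assoc, ← mul_assoc, mul_assoc x e, ← pow_succ', hxi, mul_assoc (e ^ (3 * (i + 1))), ← pow_succ']
    · refine ⟨(i, j, k + 1), ?_⟩
      rw [← mul_assoc, ((hce.pow_right i).mul_right (hcx.pow_right j)).eq, mul_assoc _ a, ← pow_succ']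

namespace Sys

variable (S : Sys z P π ρ q B)
include S

theorem P_cube {p : G} (hp : p ∈ P) : p ^ 3 = 1 := by
  have h3 : Nat.card ↥P = 3 := S.D.hJ.2.2.2.2.2.1
  have := congrArg Subtype.val (pow_card_eq_one' (G := ↥P) (x := ⟨p, hp⟩))
  rwa [h3] at this

theorem exists_rlift {i : ℕ} (hi : i < 6) : ∃ m ∈ mSub z P,
    Orbits.PActs B (act ρ m) (tl (rGen.getD i 256)) ∧ m * m = 1 := by
  have h := rgen_ok
  rw [Bool.and_eq_true] at h
  have h' := all_range h.2 hi
  simp only [Bool.and_eq_true] at h'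
  obtain ⟨⟨⟨h1, h2⟩, h3⟩, -⟩ := h'
  obtain ⟨γ, hγ, hγM⟩ := S.tl_exists (blt_nat h1)
  obtain ⟨m, hm, rfl⟩ := S.lift hγ
  exact ⟨m, hm, hγM, S.sq_of_conj hm hγM (blt_nat h2) h3⟩

end Sys

namespace Frame

variable {S : Sys z P π ρ q B} (F : Frame S)

theorem cl_conj' {m : G} {M : List ℕ} {v : ℕ} (hm : m ∈ mSub z P) (hM : Orbits.PActs B (act ρ m) M)
    (hg : goodM M = true) (h0 : beta (app M v) (app M v) = false) :
    m * F.cl v * m⁻¹ = F.cl (app M v) := by
  by_cases hc : m ∈ cSub z P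
  · exact F.cl_conj hc hM
  obtain ⟨e, he, hev⟩ := S.exists_code v
  have hp : m * F.p * m⁻¹ = F.p⁻¹ := S.D.inverts m hm hc F.p F.p_mem
  have h3 : F.p⁻¹ = F.p * F.p :=
    inv_eq_of_mul_eq_one_right (by rw [← mul_assoc, ← pow_three']; exact S.P_cube F.p_mem)
  set e' := m * e * m⁻¹ with he'
  have he'E : e' ∈ oc z := oc_conj_mem hm.1 he
  have hv' : vec π e' = Rep.lin B (app M v) := S.vec_conj_code hm hM he hev
  have h1 : m * F.cp e * m⁻¹ = F.cp (F.cp e') := by
    simp only [cp]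
    calc m * (F.p * e * F.p⁻¹) * m⁻¹ = m * F.p * m⁻¹ * e' * (m * F.p * m⁻¹)⁻¹ := by rw [he']; group
      _ = F.p⁻¹ * e' * F.p⁻¹⁻¹ := by rw [hp]
      _ = F.p * F.p * e' * (F.p * F.p)⁻¹ := by rw [h3]
      _ = _ := by group
  have h2 : m * F.cp (F.cp e) * m⁻¹ = F.cp e' := by
    simp only [cp]
    calc m * (F.p * (F.p * e * F.p⁻¹) * F.p⁻¹) * m⁻¹
        = m * F.p * m⁻¹ * (m * F.p * m⁻¹) * e' * (m * F.p * m⁻¹ * (m * F.p * m⁻¹))⁻¹ := by rw [he']; group
      _ = (F.p * F.p)⁻¹ * e' * (F.p * F.p)⁻¹⁻¹ := by rw [hp]; group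
      _ = _ := by rw [← h3, inv_inv]
  have hA := F.cp_mem he'E
  have hA2 := F.cp_mem hA
  have hW : ∀ r, app Wm r < 4096 := app_lt (n := 12) Rep.Wm_lt
  have hcm := S.conj_code hA2 hA (hW _) (hW _) (F.vec_cp hA (F.vec_cp he'E hv')) (F.vec_cp he'E hv')
  rw [beta] at h0
  rw [h0, show zp z false = (1 : G) from rfl, mul_one] at hcm
  rw [F.cl_eq he hev, F.cl_eq he'E hv']
  calc m * (F.cp e * F.cp (F.cp e)) * m⁻¹ = (m * F.cp e * m⁻¹) * (m * F.cp (F.cp e) * m⁻¹) := by group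
    _ = _ := by rw [h1, h2, mul_inv_eq_iff_eq_mul.1 hcm]

/-- The part of the complement inside the 2-core. -/
def uGrp (F : Frame S) : Subgroup G where
  carrier := {g | ∃ k < 64, F.cl (app Ub k) = g}
  one_mem' := ⟨0, by norm_num, by rw [Rep.app_zero, F.cl_zero]⟩
  mul_mem' := by
    rintro _ _ ⟨a, ha, rfl⟩ ⟨b, hb, rfl⟩
    refine ⟨a ^^^ b, Nat.xor_lt_two_pow (n := 6) ha hb, ?_⟩
    rw [F.cl_mul (ub_lt _) (ub_lt _), (ub_spec ha).2.2.2 b hb, app_xor]
    exact (mul_one _).symm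
  inv_mem' := by
    rintro _ ⟨a, ha, rfl⟩
    refine ⟨a, ha, (inv_eq_of_mul_eq_one_right ?_).symm⟩
    rw [F.cl_sq (ub_lt _), (ub_spec ha).2.2.1]
    rfl

theorem uGrp_le : F.uGrp ≤ oc z := by rintro _ ⟨k, -, rfl⟩; exact F.cl_mem _

theorem card_uGrp : Nat.card F.uGrp = 64 := by
  have hb : Function.Bijective fun k : Fin 64 => (⟨F.cl (app Ub k), k, k.2, rfl⟩ : F.uGrp) := by
    refine ⟨fun a b h => Fin.ext ?_, ?_⟩
    · have e := congrArg (vec π) (congrArg Subtype.val h)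
      simp only at e
      rw [F.vec_cl (ub_lt _), F.vec_cl (ub_lt _)] at e
      rw [← (ub_spec a.2).1, ← (ub_spec b.2).1, S.lin_lt_inj (ub_lt _) (ub_lt _) e]
    · rintro ⟨_, k, hk, rfl⟩
      exact ⟨⟨k, hk⟩, rfl⟩
  rw [← Nat.card_congr (Equiv.ofBijective _ hb), Nat.card_fin]

theorem rgen_spec {i : ℕ} (hi : i < 6) {m : G} (hm : m ∈ mSub z P)
    (hM : Orbits.PActs B (act ρ m) (tl (rGen.getD i 256))) :
    m ∈ F.nrm ∧ ∀ g ∈ F.uGrp, m * g * m⁻¹ ∈ F.uGrp := by
  have h := rgen_ok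
  rw [Bool.and_eq_true] at h
  have h' := all_range h.2 hi
  simp only [Bool.and_eq_true] at h'
  obtain ⟨⟨⟨h1, -⟩, -⟩, hall⟩ := h'
  set M := tl (rGen.getD i 256)
  have hg : goodM M = true := tl_good (blt_nat h1)
  have hk : ∀ t < 6, inW (app M (wv (2 ^ t))) = true ∧
      app Ub (app Uc (app M (app Ub (2 ^ t)))) = app M (app Ub (2 ^ t)) := fun t ht => by
    have := all_range hall ht
    rw [Bool.and_eq_true] at this
    exact ⟨this.1, beq_nat this.2⟩
  have hWall : ∀ v < 64, wv (wc (app M (wv v))) = app M (wv v) :=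
    bitInd 6 (by simp only [wv_zero, Rep.app_zero, wc, wv]) (fun a b _ _ h1 h2 => by
      simp only [wv_xor, app_xor, wc_xor, h1, h2]) (fun t ht => inW_iff.1 (hk t ht).1)
  have hUall : ∀ v < 64, app Ub (app Uc (app M (app Ub v))) = app M (app Ub v) :=
    bitInd 6 (by simp only [Rep.app_zero]) (fun a b _ _ h1 h2 => by
      simp only [app_xor, h1, h2]) (fun t ht => (hk t ht).2)
  refine ⟨F.nrm_of_low hm.1 fun v hv => ?_, ?_⟩
  · have hlt := wc_lt (app M (wv (v % 64)))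
    rcases F.oc_code (oc_conj_mem hm.1 (F.phi_oc hv)) hlt
      ((S.vec_conj_code hm hM (F.phi_oc hv) (F.vec_phi hv)).trans
        (by rw [hWall _ (Nat.mod_lt _ (by norm_num))])) with e | e
    · exact ⟨_, by omega, e⟩
    · exact ⟨_, Nat.xor_lt_two_pow (n := 7) (by omega) (by norm_num), e⟩
  · rintro _ ⟨k, hk', rfl⟩
    have hlt : app Uc (app M (app Ub k)) < 64 := app_lt (n := 6) (by decide +kernel) _
    refine ⟨_, hlt, ?_⟩
    rw [F.cl_conj' hm hM hg (by rw [← hUall k hk']; exact (ub_spec hlt).2.2.2 _ hlt), hUall k hk']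

theorem exists_r : ∃ R : Subgroup G, R ≤ centralizer ({z} : Set G) ∧ R ≤ F.nrm ∧
    F.uGrp ⊔ R ≤ normalizer (F.uGrp : Set G) ∧ Nat.card R = 16 ∧
    ∀ r ∈ R, (∀ x < 2048, lin ρ r = lin ρ (F.phi x) → r = 1) := by
  obtain ⟨x, hx, hxM, hx2⟩ := S.exists_rlift (i := 0) (by norm_num)
  obtain ⟨y, hy, hyM, hy2⟩ := S.exists_rlift (i := 1) (by norm_num)
  obtain ⟨c, hc, hcM, hc2⟩ := S.exists_rlift (i := 2) (by norm_num)
  have hrel := rgen_rel
  simp only [Bool.and_eq_true, eqM_iff] at hrel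
  obtain ⟨⟨⟨⟨⟨r3, r4⟩, r5⟩, -⟩, -⟩, -⟩ := hrel
  have sq : ∀ {i : ℕ} {m : G}, i < 6 → m ∈ mSub z P →
      Orbits.PActs B (act ρ m) (tl (rGen.getD i 256)) → m * m = 1 := fun {i m} hi hm hM => by
    have h := rgen_ok
    rw [Bool.and_eq_true] at h
    have h' := all_range h.2 hi
    simp only [Bool.and_eq_true] at h'
    exact S.sq_of_conj hm hM (blt_nat h'.1.1.2) h'.1.2
  have comm : ∀ {a b : G}, a * a = 1 → b * b = 1 → a * b * (a * b) = 1 → Commute a b := fun {a b} ha hb hab =>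
    show a * b = b * a from (inv_eq_of_mul_eq_one_right hab).symm.trans
      (by rw [mul_inv_rev, inv_eq_of_mul_eq_one_right ha, inv_eq_of_mul_eq_one_right hb])
  have hcx : Commute c x := comm hc2 hx2 (sq (i := 3) (by norm_num) (mul_mem hc hx)
    (by rw [act_mul hc hx, ← r3]; exact hcM.mul hxM))
  have hcy : Commute c y := comm hc2 hy2 (sq (i := 4) (by norm_num) (mul_mem hc hy)
    (by rw [act_mul hc hy, ← r4]; exact hcM.mul hyM))
  set e := x * y with he_def
  have he : e * e * (e * e) = 1 := sq (i := 5) (by norm_num) (mul_mem (mul_mem hx hy) (mul_mem hx hy)) (by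
    rw [act_mul (mul_mem hx hy) (mul_mem hx hy), act_mul hx hy, ← r5]
    exact (hxM.mul hyM).mul (hxM.mul hyM))
  have he4 : e ^ 4 = 1 := by
    rw [show e ^ 4 = e * e * (e * e) by simp only [pow_succ, pow_zero, one_mul, mul_assoc]]; exact he
  have hxe : x * e * x⁻¹ = e⁻¹ := by
    rw [he_def, mul_inv_rev, inv_eq_of_mul_eq_one_right hx2, inv_eq_of_mul_eq_one_right hy2,
      ← mul_assoc x x y, hx2, one_mul]
  have hyxe : y = x * e := by rw [he_def, ← mul_assoc, hx2, one_mul]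
  have hce : Commute c e := hcx.mul_right hcy
  set R := closure ({x, x * e, c} : Set G)
  have hgen : ∀ g ∈ ({x, x * e, c} : Set G), g ∈ centralizer ({z} : Set G) ∧ g ∈ F.nrm ∧
      g ∈ normalizer (F.uGrp : Set G) := by
    have key : ∀ {i : ℕ} {m : G}, i < 6 → m ∈ mSub z P → Orbits.PActs B (act ρ m) (tl (rGen.getD i 256)) →
        m ∈ centralizer ({z} : Set G) ∧ m ∈ F.nrm ∧ m ∈ normalizer (F.uGrp : Set G) := fun hi hm hM =>
      ⟨hm.1, (F.rgen_spec hi hm hM).1, mem_normalizer_fintype (S := (F.uGrp : Set G)) (F.rgen_spec hi hm hM).2⟩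
    intro g hg
    rcases hg with rfl | rfl | rfl
    · exact key (by norm_num) hx hxM
    · rw [← hyxe]; exact key (by norm_num) hy hyM
    · exact key (by norm_num) hc hcM
  have hRM : R ≤ mSub z P := (closure_le _).2 (by
    rintro g (rfl | rfl | rfl)
    exacts [hx, hyxe ▸ hy, hc])
  let el : ℕ → G := fun n => word3 e x c (n / 4, n / 2 % 2, n % 2)
  have hel : ∀ n, el n ∈ R := fun n => by
    have h1 : x ∈ R := Subgroup.subset_closure (Or.inl rfl)
    have h2 : e ∈ R := by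
      have : x⁻¹ * (x * e) ∈ R := mul_mem (inv_mem h1) (Subgroup.subset_closure (Or.inr (Or.inl rfl)))
      rwa [inv_mul_cancel_left] at this
    have h3 : c ∈ R := Subgroup.subset_closure (show c ∈ ({x, x * e, c} : Set G) by simp)
    exact mul_mem (mul_mem (pow_mem h2 _) (pow_mem h1 _)) (pow_mem h3 _)
  have helR : ∀ g ∈ R, ∃ n < 16, el n = g := by
    intro g hg
    obtain ⟨⟨i, j, k⟩, rfl⟩ := word3_closed he4 hx2 hxe hcx hce hg
    refine ⟨4 * (i % 4) + 2 * (j % 2) + k % 2, by omega, ?_⟩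
    simp only [el, word3, show (4 * (i % 4) + 2 * (j % 2) + k % 2) / 4 = i % 4 by omega,
      show (4 * (i % 4) + 2 * (j % 2) + k % 2) / 2 % 2 = j % 2 by omega,
      show (4 * (i % 4) + 2 * (j % 2) + k % 2) % 2 = k % 2 by omega]
    rw [← pow_eq_pow_mod i he4, ← pow_eq_pow_mod j (show x ^ 2 = 1 by rw [pow_two, hx2]),
      ← pow_eq_pow_mod k (show c ^ 2 = 1 by rw [pow_two, hc2])]
  have helact : ∀ n < 16, rEl.getD n 256 < 256 ∧ Orbits.PActs B (lin ρ (el n)) (tl (rEl.getD n 256)) := by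
    intro n hn
    have h := rel_list_ok
    rw [Bool.and_eq_true] at h
    have h' := all_range h.2 hn
    simp only [Bool.and_eq_true, eqM_iff] at h'
    refine ⟨blt_nat h'.1.1, ?_⟩
    rw [h'.2, (S.D.lin_mSub (hRM (hel n))).1]
    have heM : e ∈ mSub z P := mul_mem hx hy
    have hpow : ∀ i, Orbits.PActs B (act ρ (e ^ i)) (Nat.rec (motive := fun _ => List ℕ) idM
        (fun _ r => comp r (comp (tl (rGen.getD 0 256)) (tl (rGen.getD 1 256)))) i) := by
      intro i
      induction i with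
      | zero => rw [pow_zero, act_one]; exact S.M.acts_idM
      | succ i ih =>
        rw [pow_succ, act_mul (pow_mem heM i) heM]
        exact ih.mul (by rw [he_def, act_mul hx hy]; exact hxM.mul hyM)
    have hj : ∀ {m : G} {M : List ℕ}, m ∈ mSub z P → Orbits.PActs B (act ρ m) M → ∀ j < 2,
        Orbits.PActs B (act ρ (m ^ j)) (cond (Nat.beq j 1) M idM) := by
      intro m M hm hM j hj
      rcases (show j = 0 ∨ j = 1 by omega) with rfl | rfl
      · rw [pow_zero, act_one]; exact S.M.acts_idM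
      · rw [pow_one]; exact hM
    simp only [el, word3]
    rw [act_mul (mul_mem (pow_mem heM _) (pow_mem hx _)) (pow_mem hc _),
      act_mul (pow_mem heM _) (pow_mem hx _)]
    exact ((hpow _).mul (hj hx hxM _ (Nat.mod_lt _ (by norm_num)))).mul (hj hc hcM _ (Nat.mod_lt _ (by norm_num)))
  refine ⟨R, fun g hg => (hRM hg).1, (closure_le _).2 fun g hg => (hgen g hg).2.1,
    sup_le le_normalizer ((closure_le _).2 fun g hg => (hgen g hg).2.2), ?_, ?_⟩
  · have hb : Function.Bijective fun n : Fin 16 => (⟨el n, hel n⟩ : R) := by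
      refine ⟨fun a b h => Fin.ext ?_, fun g => ?_⟩
      · have ha := helact a a.2
        have hb := helact b b.2
        have e : el a = el b := congrArg Subtype.val h
        rw [e] at ha
        have e2 := tl_inj ha.1 hb.1 (S.M.code_unique ha.2 hb.2 (tl_good ha.1) (tl_good hb.1))
        have hl : rEl.length = 16 := by decide +kernel
        rw [List.getD_eq_getElem _ _ (by omega), List.getD_eq_getElem _ _ (by omega)] at e2
        exact distinctB_get (fun a b h => by rw [h]; exact Nat.beq_refl b) rEl_distinct _ _ e2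
      · obtain ⟨n, hn, e⟩ := helR g g.2
        exact ⟨⟨n, hn⟩, Subtype.ext e⟩
    rw [← Nat.card_congr (Equiv.ofBijective _ hb), Nat.card_fin]
  · intro r hr t ht e
    obtain ⟨n, hn, rfl⟩ := helR r hr
    obtain ⟨hlt, hact⟩ := helact n hn
    have hm : t / 128 < 16 := by omega
    have hq := S.M.code_unique hact (e ▸ F.lin_phi ht) (tl_good hlt) (Sys.ql_good S _)
    have h := rel_list_ok
    rw [Bool.and_eq_true] at h
    have h' := all_range h.2 hn
    simp only [Bool.and_eq_true, Bool.or_eq_true, Bool.not_eq_true'] at h'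
    rcases h'.1.2 with h0 | h0
    · rw [show n = 0 from beq_nat h0]
      simp [el, word3]
    · exfalso
      have hl : QL.length = 16 := by decide +kernel
      have : QL.any (eqM (tl (rEl.getD n 256))) = true := by
        refine List.any_eq_true.2 ⟨_, List.getElem_mem (show t / 128 < QL.length by omega), eqM_iff.2 ?_⟩
        rw [hq, ql, List.getD_eq_getElem]
      rw [h0] at this
      exact Bool.noConfusion this

/-- **The normaliser is a split extension by the group of degree 24.** -/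
theorem exists_split (hF : F.Good) : ∃ K : Subgroup G, K ≤ F.nrm ∧ K ⊓ F.grp = ⊥ ∧ K ⊔ F.grp = F.nrm ∧
    Cfsg.Spor.IsoM24 ↥K := by
  obtain ⟨R, hRH, hRN, hnorm, hR16, hR⟩ := F.exists_r
  have hUN : F.uGrp ≤ F.nrm := fun g hg => F.oc_nrm (F.uGrp_le hg)
  set K₀ := F.uGrp ⊔ R with hK₀
  have hK₀N : K₀ ≤ F.nrm := sup_le hUN hRN
  have hcoe : (K₀ : Set G) = (F.uGrp : Set G) * (R : Set G) :=
    coe_mul_of_right_le_normalizer_left F.uGrp R (le_trans le_sup_right hnorm)
  have hlin : ∀ u ∈ F.uGrp, ∀ r ∈ R, lin ρ (u * r) = lin ρ r := fun u hu r hr => by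
    rw [(S.D.lin_mul (oc_le z (F.uGrp_le hu)) (hRH hr)).1, (S.D.lin_oc (F.uGrp_le hu)).1, one_mul]
  have hdisj : K₀ ⊓ F.grp = ⊥ := by
    rw [eq_bot_iff]
    rintro g ⟨hg, hgA⟩
    have hg : g ∈ (F.uGrp : Set G) * (R : Set G) := hcoe ▸ (hg : g ∈ (K₀ : Set G))
    obtain ⟨u, hu, r, hr, rfl⟩ := Set.mem_mul.1 hg
    obtain ⟨t, ht, e⟩ := hgA
    have hr1 : r = 1 := hR r hr t ht (by rw [e, hlin u hu r hr])
    subst hr1
    rw [mul_one] at e ⊢
    obtain ⟨k, hk, rfl⟩ := hu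
    have htlt : t < 128 := (F.phi_oc_iff ht).1 (e ▸ F.cl_mem _)
    have hv := F.vec_phi htlt
    rw [e, F.vec_cl (ub_lt _)] at hv
    have h' := S.lin_lt_inj (ub_lt _) (wv_lt _) hv
    by_cases hk0 : k = 0
    · rw [hk0, Rep.app_zero, F.cl_zero]; exact one_mem _
    · have := (ub_spec hk).2.1 hk0
      rw [h', inW_iff.2 (by rw [wc_wv' (Nat.mod_lt _ (by norm_num))])] at this
      exact Bool.noConfusion this
  have hcard : Nat.card ↥K₀ = 2 ^ 10 := by
    have hb : Function.Bijective fun p : ↥F.uGrp × ↥R =>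
        (⟨(p.1 : G) * p.2, mul_mem (le_sup_left (b := R) p.1.2) (le_sup_right (a := F.uGrp) p.2.2)⟩ : ↥K₀) := by
      refine ⟨fun p q h => ?_, fun g => ?_⟩
      · have e : (p.1 : G) * p.2 = q.1 * q.2 := congrArg Subtype.val h
        have h1 : (p.2 : G) * (q.2 : G)⁻¹ = 1 := hR _ (mul_mem p.2.2 (inv_mem q.2.2)) 0 (by norm_num) (by
          have hm : (p.2 : G) * (q.2 : G)⁻¹ = (p.1 : G)⁻¹ * q.1 := by
            rw [eq_inv_mul_iff_mul_eq, ← mul_assoc, e, mul_inv_cancel_right]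
          rw [hm, F.phi_zero, (S.D.lin_oc (F.uGrp_le (mul_mem (inv_mem p.1.2) q.1.2))).1,
            (S.D.lin_oc (one_mem _)).1])
        have h2 : (p.2 : G) = q.2 := mul_inv_eq_one.1 h1
        rw [h2] at e
        exact Prod.ext (Subtype.ext (mul_right_cancel e)) (Subtype.ext h2)
      · obtain ⟨u, hu, r, hr, e⟩ := Set.mem_mul.1 (hcoe ▸ g.2 : (g : G) ∈ (F.uGrp : Set G) * (R : Set G))
        exact ⟨(⟨u, hu⟩, ⟨r, hr⟩), Subtype.ext e⟩
    rw [← Nat.card_congr (Equiv.ofBijective _ hb), Nat.card_prod, F.card_uGrp, hR16]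
    norm_num
  -- Gaschütz inside the normaliser
  set N := F.nrm with hN
  set A := F.grp.subgroupOf N with hA
  have hAn : A.Normal := normal_subgroupOf_iff_le_normalizer F.grp_le_nrm |>.2 le_rfl
  have hAc : IsMulCommutative A := ⟨⟨fun a b => Subtype.ext (Subtype.ext (F.grp_comm a.2 b.2).eq)⟩⟩
  set C := K₀.subgroupOf N
  have hAC : C ⊓ A = ⊥ := by
    rw [eq_bot_iff]
    rintro g ⟨h1, h2⟩
    exact Subtype.ext (hdisj.le ⟨h1, h2⟩)
  have hUc : Nat.card ↥(A ⊔ C) = 2 ^ 11 * 2 ^ 10 := by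
    have h := (A.subgroupOf (A ⊔ C)).card_mul_index
    have hd : Disjoint (A.subgroupOf (A ⊔ C)) (C.subgroupOf (A ⊔ C)) := disjoint_iff.2 (by
      rw [eq_bot_iff]; rintro g ⟨h1, h2⟩
      exact Subtype.ext (hAC.le ⟨h2, h1⟩))
    have hsup : A.subgroupOf (A ⊔ C) ⊔ C.subgroupOf (A ⊔ C) = ⊤ := by
      rw [← subgroupOf_sup le_sup_left le_sup_right, subgroupOf_self]
    have hn : (A.subgroupOf (A ⊔ C)).Normal := hAn.subgroupOf _
    have hc := (isComplement'_of_disjoint_and_mul_eq_univ hd (by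
      rw [← coe_mul_of_right_le_normalizer_left _ _ (by rw [normalizer_eq_top]; exact le_top), hsup, coe_top])).card_mul_card
    rw [Nat.card_congr (subgroupOfEquivOfLe le_sup_left).toEquiv,
      Nat.card_congr (subgroupOfEquivOfLe le_sup_right).toEquiv,
      Nat.card_congr (subgroupOfEquivOfLe hK₀N).toEquiv,
      Nat.card_congr (subgroupOfEquivOfLe F.grp_le_nrm).toEquiv, F.card_grp, hcard] at hc
    exact hc.symm
  have hidx : (A ⊔ C).index = 239085 := by
    have h := (A ⊔ C).card_mul_index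
    rw [hUc, F.card_nrm_eq hF] at h
    omega
  have hcop : (Nat.card A).Coprime (A ⊔ C).index := by
    rw [hidx, Nat.card_congr (subgroupOfEquivOfLe F.grp_le_nrm).toEquiv, F.card_grp]
    norm_num
  obtain ⟨H, hH⟩ := Core.gaschutz_exists (K := A) (U := A ⊔ C) le_sup_left hcop (A := C) le_sup_right hAC rfl
  refine ⟨H.map N.subtype, map_subtype_le H, ?_, ?_, ?_⟩
  · rw [eq_bot_iff]
    rintro _ ⟨⟨g, hg, rfl⟩, hgA⟩
    have := hH.disjoint.le_bot (show g ∈ A ⊓ H from ⟨hgA, hg⟩)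
    rw [mem_bot] at this
    rw [this]; rfl
  · conv_rhs => rw [← range_subtype N, MonoidHom.range_eq_map, ← hH.sup_eq_top, Subgroup.map_sup,
      map_subgroupOf_eq_of_le F.grp_le_nrm, sup_comm]
  · refine ⟨(H.equivMapOfInjective N.subtype (subtype_injective N)).symm.trans
      (MulEquiv.ofBijective ((F.theta hF).comp H.subtype) ⟨?_, ?_⟩)⟩
    · rw [← MonoidHom.ker_eq_bot_iff, eq_bot_iff]
      intro g hg
      have h1 : (g : ↥N) ∈ A := by
        rw [hA, ← F.theta_ker hF]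
        exact hg
      exact Subtype.ext ((mem_bot.1 (hH.disjoint.le_bot (show (g : ↥N) ∈ A ⊓ H from ⟨h1, g.2⟩))))
    · intro k
      obtain ⟨n, rfl⟩ := F.theta_surjective hF k
      obtain ⟨⟨⟨a, ha⟩, ⟨h, hh⟩⟩, e⟩ := hH.existsUnique n |>.exists
      refine ⟨⟨h, hh⟩, ?_⟩
      have : a ∈ (F.theta hF).ker := by rw [F.theta_ker hF]; exact ha
      simp only at e
      rw [← e, map_mul, MonoidHom.mem_ker.1 this, one_mul]
      rfl

end Frame

end Cfsg.Agent.J4Type.V11
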