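import Cfsg.Agent.J4Type.V11.Fusion

/-!
# All elementary abelian subgroups of order `2 ^ 11` are conjugate
-/

set_option autoImplicit false

open Cfsg Subgroup

namespace Cfsg.Agent.J4Type.V11

open LargeExtra (oc)

variable {G : Type*} [Group G] [Finite G] {z : G} {P : Subgroup G} {V : Type*} [AddCommGroup V]
  {π : ↥(oc z) →* Multiplicative V} {ρ : ↥(mSub z P) →* Equiv.Perm V} {q : V → ZMod 2} {B : List V}

/-- Conjugation as an automorphism of the group. -/
def cj (g : G) : G →* G := (MulAut.conj g).toMonoidHom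

theorem cj_apply (g x : G) : cj g x = g * x * g⁻¹ := rfl

theorem cj_inj (g : G) : Function.Injective (cj g) := (MulAut.conj g).injective

namespace Frame

variable {S : Sys z P π ρ q B} (F : Frame S)

theorem exists_conj_grp {X : Subgroup G} (hX : Cfsg.IsElementaryAbelian 2 X) (hc : Nat.card X = 2 ^ 11) :
    ∃ g : G, X = F.grp.map (cj g) := by
  have := Fact.mk Nat.prime_two
  obtain ⟨T, hT⟩ := (IsPGroup.of_card hc).exists_le_sylow
  obtain ⟨T₀, hT₀⟩ := S.exists_sylow
  obtain ⟨g, rfl⟩ := MulAction.exists_smul_eq G T₀ T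
  refine ⟨g, (S.unique (g • T₀)).unique ⟨hT, hX, hc⟩ ⟨?_, elem_map (MulAut.conj g) F.isElementary, ?_⟩⟩
  · rw [Sylow.coe_subgroup_smul, hT₀]
    rintro _ ⟨a, ha, rfl⟩
    exact Subgroup.smul_mem_pointwise_smul _ (MulAut.conj g) _ (F.grp_le_tG ha)
  · rw [card_map_of_injective (cj_inj g), F.card_grp]

theorem normalizer_conj (g : G) : normalizer (↑(F.grp.map (cj g)) : Set G) = F.nrm.map (cj g) :=
  (map_equiv_normalizer_eq F.grp (MulAut.conj g)).symm

theorem centralizer_conj (g : G) :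
    centralizer (↑(F.grp.map (cj g)) : Set G) ≤ F.grp.map (cj g) := by
  intro x hx
  refine ⟨g⁻¹ * x * g, F.centralizer_grp (mem_centralizer_iff.2 fun a ha => ?_), by rw [cj_apply]; group⟩
  have h : g * a * g⁻¹ * x = x * (g * a * g⁻¹) :=
    mem_centralizer_iff.1 hx (g * a * g⁻¹) ⟨a, ha, cj_apply g a⟩
  calc a * (g⁻¹ * x * g) = g⁻¹ * (g * a * g⁻¹ * x) * g := by group
    _ = g⁻¹ * (x * (g * a * g⁻¹)) * g := by rw [h]
    _ = g⁻¹ * x * g * a := by group

end Frame

end Cfsg.Agent.J4Type.V11
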