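import Cfsg.Agent.J4Type.V11.Lift
import Cfsg.Agent.J4Type.V11.Sel

/-!
# The elementary abelian group of order `2 ^ 11` in coordinates

`cl v` is the lift of the vector `v` in the commutator with the element of order three; on the fixed
space of the hexad group it is a homomorphism.
-/

set_option autoImplicit false

open Cfsg Subgroup

namespace Cfsg.Agent.J4Type.V11

open LargeExtra (oc oc_le oc_conj_mem)
open Rep Orbits

variable {G : Type*} [Group G] [Finite G] {z : G} {P : Subgroup G} {V : Type*} [AddCommGroup V]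
  {π : ↥(oc z) →* Multiplicative V} {ρ : ↥(mSub z P) →* Equiv.Perm V} {q : V → ZMod 2} {B : List V}

/-- A generator of `P` acting as the scalar and lifts of four elements of the hexad group. -/
structure Frame (S : Sys z P π ρ q B) where
  /-- the element of order three -/
  p : G
  /-- the lifts -/
  b : Fin 4 → G
  p_mem : p ∈ P
  p_act : Orbits.PActs B (act ρ p) Wm
  p_m : p ∈ mSub z P
  b_mem : ∀ i, b i ∈ cSub z P
  b_act : ∀ i, Orbits.PActs B (act ρ (b i)) (ql (2 ^ i.val))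

namespace Sys

variable (S : Sys z P π ρ q B)
include S

theorem P_le {x : G} (hx : x ∈ P) : x ∈ mSub z P := by
  obtain ⟨-, -, -, -, ⟨N, -, hN, -, -, -, hPN⟩, -⟩ := S.D.hJ
  exact ⟨hN (hPN hx), le_normalizer hx⟩

theorem exists_scalar : ∃ p ∈ P, Orbits.PActs B (act ρ p) Wm := by
  obtain ⟨n, hn, hnw⟩ := S.lift_word Wit.wordW
  rw [wordW_eq] at hnw
  have hnM : n ∈ mSub z P := cSub_le_mSub z P hn
  have hsup : n ∈ P ⊔ zpowers z := S.D.central ⟨n, hnM⟩ hn fun d hd => by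
    have hd0 : ρ d ∈ gammaZero ρ := ⟨d, hd, rfl⟩
    have h := S.M.commute_W hnw hd0
    rw [act_of_mem hnM] at h
    exact h.symm
  have hPz : P ≤ normalizer (zpowers z : Set G) := by
    refine le_trans ?_ (centralizer_le_normalizer _)
    intro x hx
    refine mem_centralizer_iff.2 fun y hy => ?_
    obtain ⟨k, rfl⟩ := mem_zpowers_iff.1 hy
    exact ((S.D.comm_z (S.P_le hx).1).zpow_right k).eq.symm
  obtain ⟨a, ha, c, hc, e⟩ : ∃ a ∈ P, ∃ c ∈ zpowers z, a * c = n := by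
    have := SetLike.mem_coe.2 hsup
    rw [coe_mul_of_left_le_normalizer_right P (zpowers z) hPz] at this
    exact Set.mem_mul.1 this
  refine ⟨a, ha, ?_⟩
  have hcM : c ∈ mSub z P := (S.D.inf_eq.ge hc).2
  rw [← e, act_mul (S.P_le ha) hcM, (S.D.act_eq_one hcM).2 (S.D.mem_zp.1 hc), mul_one] at hnw
  exact hnw

theorem lift_ql {m : ℕ} (hm : m < 16) : ∃ n ∈ cSub z P, Orbits.PActs B (act ρ n) (ql m) := by
  have h := all_range ql_stab hm
  simp only [Bool.and_eq_true, eqM_iff] at h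
  obtain ⟨⟨ha, hb⟩, e⟩ := h
  have ha := blt_nat ha
  have hb := blt_nat hb
  rw [List.getD_eq_getElem _ _ ha, List.getD_eq_getElem _ _ hb] at e
  obtain ⟨γ, hγ, hγM, -⟩ := short.exists_of_mem S.M
    (Orbits.mem_prodList.2 ⟨_, List.getElem_mem ha, _, List.getElem_mem hb, e⟩)
  obtain ⟨n, hn, rfl⟩ := S.lift_zero hγ
  exact ⟨n, hn, hγM⟩

theorem exists_frame : Nonempty (Frame S) := by
  obtain ⟨p, hp, hpa⟩ := S.exists_scalar
  choose b hb hba using fun i : Fin 4 => S.lift_ql (m := 2 ^ i.val) (by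
    calc 2 ^ i.val ≤ 2 ^ 3 := Nat.pow_le_pow_right (by norm_num) (by omega)
      _ < 16 := by norm_num)
  exact ⟨⟨p, b, hp, hpa, S.P_le hp, hb, hba⟩⟩

theorem ql_good (m : ℕ) : goodM (ql m) = true := by
  by_cases h : m < QL.length
  · have hs := shape_ok
    simp only [Bool.and_eq_true, List.all_eq_true] at hs
    rw [ql, List.getD_eq_getElem _ _ h]
    exact hs.1.1.1.1.1.2 _ (List.getElem_mem h)
  · rw [ql, List.getD_eq_default _ _ (by omega)]
    exact good_idM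

end Sys

/-- The bit of a number of a list. -/
theorem Wb_lt : ∀ a ∈ Wb, a < 2 ^ 12 := by decide +kernel

theorem Cm_lt : ∀ a ∈ Cm, a < 2 ^ 6 := by decide +kernel

theorem wv_lt (k : ℕ) : wv k < 4096 := app_lt (n := 12) Wb_lt k

theorem wc_lt (r : ℕ) : wc r < 64 := app_lt (n := 6) Cm_lt r

theorem wv_xor (a b : ℕ) : wv (a ^^^ b) = wv a ^^^ wv b := app_xor _ a b

theorem wc_xor (a b : ℕ) : wc (a ^^^ b) = wc a ^^^ wc b := app_xor _ a b

theorem wv_zero : wv 0 = 0 := Rep.app_zero _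

theorem inW_iff {r : ℕ} : inW r = true ↔ wv (wc r) = r :=
  ⟨beq_nat, fun h => by rw [inW, h]; exact Nat.beq_refl r⟩

theorem wc_wv' {k : ℕ} (hk : k < 64) : wc (wv k) = k := beq_nat (all_range wc_wv hk)

theorem wm_sum' {r : ℕ} (hr : r < 4096) : app Wm r ^^^ app Wm (app Wm r) = r := by
  refine bitInd 12 (P := fun r => app Wm r ^^^ app Wm (app Wm r) = r) ?_ (fun a b _ _ ha hb => ?_)
    (fun i hi => beq_nat (all_range wm_sum hi)) r hr
  · simp [Rep.app_zero]
  · simp only [app_xor]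
    rw [show app Wm a ^^^ app Wm b ^^^ (app Wm (app Wm a) ^^^ app Wm (app Wm b)) =
      (app Wm a ^^^ app Wm (app Wm a)) ^^^ (app Wm b ^^^ app Wm (app Wm b)) by
        simp [Nat.xor_assoc, Nat.xor_left_comm], ha, hb]

theorem ql_fix' {m k : ℕ} (hm : m < 16) (hk : k < 64) : app (ql m) (wv k) = wv k := by
  have h := ql_fix
  simp only [Bool.and_eq_true] at h
  refine bitInd 6 (P := fun k => app (ql m) (wv k) = wv k) ?_ (fun a b _ _ ha hb => ?_)
    (fun i hi => beq_nat (all_range (all_range h.2 hm) hi)) k hk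
  · rw [wv_zero, Rep.app_zero]
  · rw [wv_xor, app_xor, ha, hb]

theorem ql_comm' {m r : ℕ} (hm : m < 16) (hr : r < 4096) : inW (r ^^^ app (ql m) r) = true := by
  refine bitInd 12 (P := fun r => inW (r ^^^ app (ql m) r) = true) ?_ (fun a b _ _ ha hb => ?_)
    (fun i hi => all_range (all_range ql_comm hm) hi) r hr
  · simp only [Rep.app_zero, Nat.xor_self]
    exact inW_iff.2 (by rw [wc, Rep.app_zero, wv_zero])
  · rw [inW_iff] at ha hb ⊢
    rw [show a ^^^ b ^^^ app (ql m) (a ^^^ b) = (a ^^^ app (ql m) a) ^^^ (b ^^^ app (ql m) b) by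
      rw [app_xor]; simp [Nat.xor_assoc, Nat.xor_left_comm], wc_xor, wv_xor, ha, hb]

theorem ql_mul' {a b : ℕ} (ha : a < 16) (hb : b < 16) : comp (ql a) (ql b) = ql (a ^^^ b) :=
  eqM_iff.1 (all_range (all_range ql_mul hb) ha)

theorem ql_zero : ql 0 = idM := by
  have h := ql_fix
  simp only [Bool.and_eq_true, eqM_iff] at h
  exact h.1

theorem ql_inj {a b : ℕ} (ha : a < 16) (hb : b < 16) (h : ql a = ql b) : a = b := by
  have hl : QL.length = 16 := by decide +kernel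
  rw [ql, ql, List.getD_eq_getElem _ _ (by omega), List.getD_eq_getElem _ _ (by omega)] at h
  exact distinctB_get (fun a b h => by rw [h]; exact eqM_iff.2 rfl) ql_distinct _ _ h

namespace Frame

variable {S : Sys z P π ρ q B} (F : Frame S)
include F

/-- Conjugation by the element of order three. -/
def cp (F : Frame S) (e : G) : G := F.p * e * F.p⁻¹

/-- The lift of a vector through the commutator with the element of order three. -/
noncomputable def cl (F : Frame S) (v : ℕ) : G :=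
  F.cp (Classical.choose (S.exists_code v)) * F.cp (F.cp (Classical.choose (S.exists_code v)))

/-- The generators. -/
noncomputable def gens (F : Frame S) : List G :=
  [F.cl (wv 1), F.cl (wv 2), F.cl (wv 4), F.cl (wv 8), F.cl (wv 16), F.cl (wv 32), z,
    F.b 0, F.b 1, F.b 2, F.b 3]

/-- The element with the given code. -/
noncomputable def phi (F : Frame S) (x : ℕ) : G := sel F.gens x

theorem cp_mem {e : G} (he : e ∈ oc z) : F.cp e ∈ oc z := oc_conj_mem F.p_m.1 he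

theorem cp_mul (a b : G) : F.cp (a * b) = F.cp a * F.cp b := by simp only [cp]; group

theorem cp_zp (b : Bool) : F.cp (zp z b) = zp z b :=
  mul_inv_eq_iff_eq_mul.2 (S.zp_comm F.p_m.1 b).eq

theorem vec_cp {e : G} {r : ℕ} (he : e ∈ oc z) (hv : vec π e = Rep.lin B r) :
    vec π (F.cp e) = Rep.lin B (app Wm r) := S.vec_conj_code F.p_m F.p_act he hv

theorem cl_eq {e : G} {v : ℕ} (he : e ∈ oc z) (hv : vec π e = Rep.lin B v) :
    F.cl v = F.cp e * F.cp (F.cp e) := by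
  obtain ⟨h1, h2⟩ := Classical.choose_spec (S.exists_code v)
  rcases S.D.vec_eq h1 he (h2.trans hv.symm) with h | h
  · rw [cl, h]
  · have hz : ∀ a : G, F.cp (a * zp z true) = F.cp a * zp z true := fun a => by rw [F.cp_mul, F.cp_zp]
    rw [cl, h, show e * z = e * zp z true from rfl, hz, hz, ← mul_assoc,
      mul_assoc (F.cp e) (zp z true), ← (S.zp_comm (oc_le z (F.cp_mem (F.cp_mem he))) true).eq,
      ← mul_assoc, mul_assoc (F.cp e * F.cp (F.cp e)), S.zp_mul]
    exact mul_one _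

theorem cl_mem (v : ℕ) : F.cl v ∈ oc z := by
  obtain ⟨e, he, hv⟩ := S.exists_code v
  rw [F.cl_eq he hv]
  exact mul_mem (F.cp_mem he) (F.cp_mem (F.cp_mem he))

theorem vec_cl {v : ℕ} (hv : v < 4096) : vec π (F.cl v) = Rep.lin B v := by
  obtain ⟨e, he, hev⟩ := S.exists_code v
  rw [F.cl_eq he hev, vec_mul (F.cp_mem he) (F.cp_mem (F.cp_mem he)), F.vec_cp he hev,
    F.vec_cp (F.cp_mem he) (F.vec_cp he hev), ← lin_xor S.M.two, wm_sum' hv]

theorem cl_mul {a b : ℕ} (ha : a < 4096) (hb : b < 4096) :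
    F.cl a * F.cl b = F.cl (a ^^^ b) * zp z (beta a b) := by
  obtain ⟨e, he, hea⟩ := S.exists_code a
  obtain ⟨f, hf, hfb⟩ := S.exists_code b
  have hW : ∀ r, app Wm r < 4096 := app_lt (n := 12) Rep.Wm_lt
  have hA := F.cp_mem he
  have hA2 := F.cp_mem hA
  have hF := F.cp_mem hf
  have hF2 := F.cp_mem hF
  rw [F.cl_eq he hea, F.cl_eq hf hfb,
    F.cl_eq (mul_mem he hf) (by rw [vec_mul he hf, hea, hfb, lin_xor S.M.two]), F.cp_mul, F.cp_mul]
  have hc := S.conj_code hA2 hF (hW _) (hW _) (F.vec_cp hA (F.vec_cp he hea)) (F.vec_cp hf hfb)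
  rw [mul_inv_eq_iff_eq_mul] at hc
  rw [beta]
  generalize hb' : Orbits.bv (app Wm (app Wm a)) (app Wm b) = β at hc ⊢
  have hzA : Commute (zp z β) (F.cp (F.cp e)) := (S.zp_comm (oc_le z hA2) β).symm
  have hzF : Commute (zp z β) (F.cp (F.cp f)) := (S.zp_comm (oc_le z hF2) β).symm
  calc F.cp e * F.cp (F.cp e) * (F.cp f * F.cp (F.cp f))
      = F.cp e * (F.cp (F.cp e) * F.cp f) * F.cp (F.cp f) := by group
    _ = F.cp e * (F.cp f * zp z β * F.cp (F.cp e)) * F.cp (F.cp f) := by rw [hc]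
    _ = F.cp e * F.cp f * (F.cp (F.cp e) * F.cp (F.cp f)) * zp z β := by
      rw [mul_assoc (F.cp f), hzA.eq, mul_assoc (F.cp e * F.cp f), mul_assoc (F.cp (F.cp e)),
        ← hzF.eq]
      group

theorem cl_zero : F.cl 0 = 1 := by
  rw [F.cl_eq (one_mem (oc z)) (by rw [vec_one, Rep.lin_zero])]
  simp [cp]

theorem cl_sq {v : ℕ} (hv : v < 4096) : F.cl v * F.cl v = zp z (Orbits.qb v) :=
  S.sq_code (F.cl_mem v) hv (F.vec_cl hv)

theorem cl_w {a b : ℕ} (ha : a < 64) (hb : b < 64) :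
    F.cl (wv a) * F.cl (wv b) = F.cl (wv (a ^^^ b)) := by
  have h := all_range (all_range w_flat ha) hb
  simp only [Bool.and_eq_true, Bool.not_eq_true'] at h
  rw [F.cl_mul (wv_lt a) (wv_lt b), h.2, wv_xor]
  exact mul_one _

theorem p_comm {c : G} (hc : c ∈ cSub z P) : Commute F.p c := mem_centralizer_iff.1 hc.2 F.p F.p_mem

theorem cl_conj {c : G} {M : List ℕ} {v : ℕ} (hc : c ∈ cSub z P)
    (hM : Orbits.PActs B (act ρ c) M) : c * F.cl v * c⁻¹ = F.cl (app M v) := by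
  obtain ⟨e, he, hev⟩ := S.exists_code v
  rw [F.cl_eq he hev, F.cl_eq (oc_conj_mem hc.1 he)
    (S.vec_conj_code (cSub_le_mSub z P hc) hM he hev)]
  have hp : ∀ x : G, F.cp (c * x * c⁻¹) = c * F.cp x * c⁻¹ := fun x => by
    simp only [cp]
    calc F.p * (c * x * c⁻¹) * F.p⁻¹ = F.p * c * x * (F.p * c)⁻¹ := by group
      _ = c * F.p * x * (c * F.p)⁻¹ := by rw [(F.p_comm hc).eq]
      _ = c * (F.p * x * F.p⁻¹) * c⁻¹ := by group
  rw [hp, hp]
  group

theorem b_comm_cl (i : Fin 4) {k : ℕ} (hk : k < 64) : Commute (F.b i) (F.cl (wv k)) := by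
  refine mul_inv_eq_iff_eq_mul.1 ((F.cl_conj (F.b_mem i) (F.b_act i)).trans ?_)
  rw [ql_fix' ?_ hk]
  calc 2 ^ i.val ≤ 2 ^ 3 := Nat.pow_le_pow_right (by norm_num) (by omega)
    _ < 16 := by norm_num

theorem sq_ql {n : G} {m : ℕ} (hm : m < 16) (hn : n ∈ mSub z P)
    (hact : Orbits.PActs B (act ρ n) (ql m)) : n * n = 1 := by
  have h := all_range ql_conj hm
  simp only [Bool.and_eq_true] at h
  exact S.sq_of_conj hn hact (blt_nat h.1) h.2

omit F in
theorem pow_lt_sixteen (i : Fin 4) : 2 ^ i.val < 16 := by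
  calc 2 ^ i.val ≤ 2 ^ 3 := Nat.pow_le_pow_right (by norm_num) (by omega)
    _ < 16 := by norm_num

theorem b_comm (i j : Fin 4) : Commute (F.b i) (F.b j) := by
  have hi := F.sq_ql (pow_lt_sixteen i) (cSub_le_mSub z P (F.b_mem i)) (F.b_act i)
  have hj := F.sq_ql (pow_lt_sixteen j) (cSub_le_mSub z P (F.b_mem j)) (F.b_act j)
  have hiM := cSub_le_mSub z P (F.b_mem i)
  have hjM := cSub_le_mSub z P (F.b_mem j)
  have hij : F.b i * F.b j * (F.b i * F.b j) = 1 := by
    refine F.sq_ql (m := 2 ^ i.val ^^^ 2 ^ j.val)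
      (Nat.xor_lt_two_pow (n := 4) (pow_lt_sixteen i) (pow_lt_sixteen j)) (mul_mem hiM hjM) ?_
    rw [act_mul hiM hjM, ← ql_mul' (pow_lt_sixteen i) (pow_lt_sixteen j)]
    exact (F.b_act i).mul (F.b_act j)
  show F.b i * F.b j = F.b j * F.b i
  calc F.b i * F.b j = (F.b i * F.b j)⁻¹ := (inv_eq_of_mul_eq_one_right hij).symm
    _ = F.b j * F.b i := by
      rw [mul_inv_rev, inv_eq_of_mul_eq_one_right hi, inv_eq_of_mul_eq_one_right hj]

theorem gens_cases {g : G} (h : g ∈ F.gens) :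
    (∃ k < 64, g = F.cl (wv k)) ∨ g = z ∨ ∃ i, g = F.b i := by
  simp only [gens, List.mem_cons, List.not_mem_nil, or_false] at h
  rcases h with h | h | h | h | h | h | h | h | h | h | h
  · exact Or.inl ⟨1, by norm_num, h⟩
  · exact Or.inl ⟨2, by norm_num, h⟩
  · exact Or.inl ⟨4, by norm_num, h⟩
  · exact Or.inl ⟨8, by norm_num, h⟩
  · exact Or.inl ⟨16, by norm_num, h⟩
  · exact Or.inl ⟨32, by norm_num, h⟩
  · exact Or.inr (Or.inl h)
  all_goals exact Or.inr (Or.inr ⟨_, h⟩)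

theorem gens_H {g : G} (h : g ∈ F.gens) : g ∈ centralizer ({z} : Set G) := by
  rcases F.gens_cases h with ⟨k, -, rfl⟩ | e | ⟨i, rfl⟩
  · exact oc_le z (F.cl_mem _)
  · rw [e]; exact oc_le z S.D.z_mem
  · exact (F.b_mem i).1

theorem gens_comm : ∀ a ∈ F.gens, ∀ c ∈ F.gens, Commute a c := by
  intro a ha c hc
  have hz : ∀ {x : G}, x ∈ F.gens → Commute x z := fun hx => S.D.comm_z (F.gens_H hx)
  rcases F.gens_cases ha with ⟨k, hk, rfl⟩ | e | ⟨i, rfl⟩
  · rcases F.gens_cases hc with ⟨l, hl, rfl⟩ | e | ⟨j, rfl⟩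
    · show F.cl (wv k) * F.cl (wv l) = F.cl (wv l) * F.cl (wv k)
      rw [F.cl_w hk hl, F.cl_w hl hk, Nat.xor_comm]
    · rw [e]; exact hz ha
    · exact (F.b_comm_cl j hk).symm
  · rw [e]; exact (hz hc).symm
  · rcases F.gens_cases hc with ⟨l, hl, rfl⟩ | e | ⟨j, rfl⟩
    · exact F.b_comm_cl i hl
    · rw [e]; exact hz ha
    · exact F.b_comm i j

theorem gens_sq : ∀ a ∈ F.gens, a * a = 1 := by
  intro a ha
  rcases F.gens_cases ha with ⟨k, hk, rfl⟩ | e | ⟨i, rfl⟩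
  · rw [F.cl_w hk hk, Nat.xor_self, wv_zero, F.cl_zero]
  · rw [e]; exact S.D.zz
  · exact F.sq_ql (pow_lt_sixteen i) (cSub_le_mSub z P (F.b_mem i)) (F.b_act i)

theorem phi_xor (x y : ℕ) : F.phi (x ^^^ y) = F.phi x * F.phi y := sel_xor F.gens_comm F.gens_sq x y

theorem phi_zero : F.phi 0 = 1 := sel_zero _

theorem phi_two_pow {i : ℕ} (hi : i < 11) :
    F.phi (2 ^ i) = F.gens[i]'(by simp [gens]; omega) := sel_two_pow _ i _

theorem phi_sq (x : ℕ) : F.phi x * F.phi x = 1 := by rw [← F.phi_xor, Nat.xor_self, F.phi_zero]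

theorem phi_comm (x y : ℕ) : Commute (F.phi x) (F.phi y) := by
  show F.phi x * F.phi y = F.phi y * F.phi x
  rw [← F.phi_xor, ← F.phi_xor, Nat.xor_comm]

theorem phi_low {k : ℕ} (hk : k < 64) : F.phi k = F.cl (wv k) := by
  refine bitInd 6 (P := fun k => F.phi k = F.cl (wv k)) ?_ (fun a b ha hb h1 h2 => ?_) (fun i hi => ?_) k hk
  · rw [F.phi_zero, wv_zero, F.cl_zero]
  · rw [F.phi_xor, h1, h2, F.cl_w ha hb]
  · rw [F.phi_two_pow (by omega)]
    interval_cases i <;> rfl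

theorem phi_z : F.phi 64 = z := (F.phi_two_pow (i := 6) (by norm_num)).trans rfl

theorem phi_zbit (b : Bool) : F.phi (zbit b) = zp z b := by
  cases b
  · exact F.phi_zero
  · exact F.phi_z

theorem phi_high {m : ℕ} (hm : m < 16) :
    F.phi (128 * m) ∈ cSub z P ∧ Orbits.PActs B (act ρ (F.phi (128 * m))) (ql m) := by
  refine bitInd 4 (P := fun m => F.phi (128 * m) ∈ cSub z P ∧
      Orbits.PActs B (act ρ (F.phi (128 * m))) (ql m)) ?_ (fun a b ha hb h1 h2 => ?_) (fun i hi => ?_) m hm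
  · rw [Nat.mul_zero, F.phi_zero, ql_zero, act_one]
    exact ⟨one_mem _, S.M.acts_idM⟩
  · have e : 128 * (a ^^^ b) = 128 * a ^^^ 128 * b := by
      simpa [Nat.shiftLeft_eq, mul_comm] using Nat.shiftLeft_xor_distrib (a := a) (b := b) (i := 7)
    rw [e, F.phi_xor]
    refine ⟨mul_mem h1.1 h2.1, ?_⟩
    rw [act_mul (cSub_le_mSub z P h1.1) (cSub_le_mSub z P h2.1), ← ql_mul' ha hb]
    exact h1.2.mul h2.2
  · have e : 128 * 2 ^ i = 2 ^ (7 + i) := by rw [pow_add]; norm_num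
    rw [e, F.phi_two_pow (by omega)]
    interval_cases i
    exacts [⟨F.b_mem 0, F.b_act 0⟩, ⟨F.b_mem 1, F.b_act 1⟩, ⟨F.b_mem 2, F.b_act 2⟩, ⟨F.b_mem 3, F.b_act 3⟩]

theorem phi_split {x : ℕ} (hx : x < 2048) :
    F.phi x = F.phi (x % 64) * F.phi (64 * (x / 64 % 2)) * F.phi (128 * (x / 128)) := by
  conv_lhs => rw [split_code x hx]
  rw [F.phi_xor, F.phi_xor]

theorem phi_mem_H (x : ℕ) : F.phi x ∈ centralizer ({z} : Set G) := sel_mem (fun _ h => F.gens_H h) x

theorem phi_oc {k : ℕ} (hk : k < 128) : F.phi k ∈ oc z := by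
  rw [F.phi_split (by omega), Nat.div_eq_of_lt (a := k) (b := 128) hk, Nat.mul_zero, F.phi_zero,
    mul_one, F.phi_low (Nat.mod_lt _ (by norm_num))]
  refine mul_mem (F.cl_mem _) ?_
  rcases Nat.mod_two_eq_zero_or_one (k / 64) with h | h <;> rw [h]
  · rw [Nat.mul_zero, F.phi_zero]; exact one_mem _
  · rw [Nat.mul_one, F.phi_z]; exact S.D.z_mem

theorem vec_phi {k : ℕ} (hk : k < 128) : vec π (F.phi k) = Rep.lin B (wv (k % 64)) := by
  have h64 : k % 64 < 64 := Nat.mod_lt _ (by norm_num)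
  rw [F.phi_split (by omega), Nat.div_eq_of_lt (a := k) (b := 128) hk, Nat.mul_zero, F.phi_zero,
    mul_one, F.phi_low h64]
  rcases Nat.mod_two_eq_zero_or_one (k / 64) with h | h <;> rw [h]
  · rw [Nat.mul_zero, F.phi_zero, mul_one, F.vec_cl (wv_lt _)]
  · rw [Nat.mul_one, F.phi_z, vec_mul (F.cl_mem _) S.D.z_mem, S.D.vec_z, add_zero, F.vec_cl (wv_lt _)]

theorem lin_phi {x : ℕ} (hx : x < 2048) :
    Orbits.PActs B (lin ρ (F.phi x)) (ql (x / 128)) := by
  have hm := F.phi_high (m := x / 128) (by omega)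
  have he : F.phi (x % 64) * F.phi (64 * (x / 64 % 2)) ∈ oc z := by
    refine mul_mem (F.phi_oc (by omega)) (F.phi_oc ?_)
    rcases Nat.mod_two_eq_zero_or_one (x / 64) with h | h <;> rw [h] <;> norm_num
  rw [F.phi_split hx, (S.D.parts he (cSub_le_mSub z P hm.1)).1]
  exact hm.2

theorem phi_oc_iff {x : ℕ} (hx : x < 2048) : F.phi x ∈ oc z ↔ x < 128 := by
  refine ⟨fun h => ?_, F.phi_oc⟩
  have h1 := F.lin_phi hx
  rw [(S.D.lin_eq_one (F.phi_mem_H x)).2 h] at h1
  have := S.M.code_unique S.M.acts_idM h1 good_idM (Sys.ql_good S _)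
  rw [← ql_zero] at this
  have := ql_inj (by norm_num) (by omega) this
  omega

theorem phi_eq_one {x : ℕ} (hx : x < 2048) (h : F.phi x = 1) : x = 0 := by
  have hlt : x < 128 := (F.phi_oc_iff hx).1 (h ▸ one_mem _)
  have hv := F.vec_phi hlt
  rw [h, vec_one] at hv
  have h0 : wv (x % 64) = 0 := ((S.M.lin_eq_zero (wv_lt _)).1 hv.symm)
  have h64 : x % 64 = 0 := by
    have := wc_wv' (k := x % 64) (Nat.mod_lt _ (by norm_num))
    rw [h0, wc, Rep.app_zero] at this
    exact this.symm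
  rcases (show x = 0 ∨ x = 64 by omega) with rfl | rfl
  · rfl
  · rw [F.phi_z] at h; exact absurd h S.D.z_ne

theorem phi_inj {x y : ℕ} (hx : x < 2048) (hy : y < 2048) (h : F.phi x = F.phi y) : x = y :=
  Nat.xor_eq_zero_iff.1 (F.phi_eq_one (Nat.xor_lt_two_pow (n := 11) hx hy)
    (by rw [F.phi_xor, h, F.phi_sq]))

/-- The elementary abelian group of order `2 ^ 11`. -/
def grp (F : Frame S) : Subgroup G where
  carrier := {g | ∃ x < 2048, F.phi x = g}
  one_mem' := ⟨0, by norm_num, F.phi_zero⟩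
  mul_mem' := by
    rintro _ _ ⟨a, ha, rfl⟩ ⟨b, hb, rfl⟩
    exact ⟨a ^^^ b, Nat.xor_lt_two_pow (n := 11) ha hb, F.phi_xor a b⟩
  inv_mem' := by
    rintro _ ⟨a, ha, rfl⟩
    exact ⟨a, ha, (inv_eq_of_mul_eq_one_right (F.phi_sq a)).symm⟩

theorem phi_mem {x : ℕ} (hx : x < 2048) : F.phi x ∈ F.grp := ⟨x, hx, rfl⟩

theorem z_mem_grp : z ∈ F.grp := ⟨64, by norm_num, F.phi_z⟩

theorem grp_le : F.grp ≤ centralizer ({z} : Set G) := by
  rintro _ ⟨x, -, rfl⟩; exact F.phi_mem_H x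

theorem grp_comm {a b : G} (ha : a ∈ F.grp) (hb : b ∈ F.grp) : Commute a b := by
  obtain ⟨x, -, rfl⟩ := ha
  obtain ⟨y, -, rfl⟩ := hb
  exact F.phi_comm x y

theorem grp_sq {a : G} (ha : a ∈ F.grp) : a * a = 1 := by
  obtain ⟨x, -, rfl⟩ := ha
  exact F.phi_sq x

theorem card_grp : Nat.card F.grp = 2 ^ 11 := by
  have hb : Function.Bijective fun x : Fin 2048 => (⟨F.phi x, F.phi_mem x.2⟩ : F.grp) := by
    refine ⟨fun a b h => Fin.ext (F.phi_inj a.2 b.2 (congrArg Subtype.val h)), ?_⟩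
    rintro ⟨_, x, hx, rfl⟩
    exact ⟨⟨x, hx⟩, rfl⟩
  rw [← Nat.card_congr (Equiv.ofBijective _ hb), Nat.card_fin]; norm_num

theorem isElementary : Cfsg.IsElementaryAbelian 2 F.grp := by
  refine ⟨⟨⟨fun a b => Subtype.ext (F.grp_comm a.2 b.2).eq⟩⟩, fun a ha => ?_⟩
  rw [pow_two]; exact F.grp_sq ha

/-- **Conjugation by an element of `E`, on codes.** -/
theorem conj_phi {e : G} {v x : ℕ} (he : e ∈ oc z) (hv : v < 4096)
    (hev : vec π e = Rep.lin B v) (hx : x < 2048) : e * F.phi x * e⁻¹ = F.phi (eAct v x) := by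
  have hm : x / 128 < 16 := by omega
  have hw : x % 64 < 64 := Nat.mod_lt _ (by norm_num)
  have hg := Sys.ql_good S (x / 128)
  obtain ⟨hbC, hbA⟩ := F.phi_high hm
  have hu : app (ql (x / 128)) v < 4096 := app_lt_of_good hg v
  have hd : v ^^^ app (ql (x / 128)) v < 4096 := Nat.xor_lt_two_pow (n := 12) hv hu
  have hin := inW_iff.1 (ql_comm' hm hv)
  -- the part in the fixed space
  have h1 : e * F.phi (x % 64) * e⁻¹ = F.phi (x % 64 ^^^ zbit (Orbits.bv v (wv (x % 64)))) := by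
    rw [F.phi_xor, F.phi_zbit, F.phi_low hw]
    exact S.conj_code he (F.cl_mem _) hv (wv_lt _) hev (F.vec_cl (wv_lt _))
  have h2 : e * F.phi (64 * (x / 64 % 2)) * e⁻¹ = F.phi (64 * (x / 64 % 2)) := by
    rcases Nat.mod_two_eq_zero_or_one (x / 64) with h | h <;> rw [h]
    · rw [Nat.mul_zero, F.phi_zero]; group
    · rw [Nat.mul_one, F.phi_z]; exact mul_inv_eq_iff_eq_mul.2 (S.D.comm_z (oc_le z he)).eq
  have hqb : Orbits.qb (app (ql (x / 128)) v) = Orbits.qb v := by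
    have hq := S.M.q_preserved (S.act_range (cSub_le_mSub z P hbC)) (Rep.lin B v)
    rw [hbA, S.M.q_code hu, S.M.q_code hv] at hq
    cases ha : Orbits.qb (app (ql (x / 128)) v) <;> cases hb' : Orbits.qb v <;> simp_all
  have h3 : e * F.phi (128 * (x / 128)) * e⁻¹ = F.phi (wc (v ^^^ app (ql (x / 128)) v) ^^^
      zbit (beta v (app (ql (x / 128)) v)) ^^^ zbit (Orbits.qb v) ^^^ 128 * (x / 128)) := by
    have hcl : ∀ c : G, c ∈ oc z → vec π c = Rep.lin B v →
        c * F.phi (128 * (x / 128)) * c⁻¹ =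
          F.cl v * F.phi (128 * (x / 128)) * (F.cl v)⁻¹ := by
      intro c hc hcv
      rcases S.D.vec_eq hc (F.cl_mem v) (hcv.trans (F.vec_cl hv).symm) with h | h <;> rw [h]
      calc F.cl v * z * F.phi (128 * (x / 128)) * (F.cl v * z)⁻¹
          = F.cl v * (z * F.phi (128 * (x / 128)) * z⁻¹) * (F.cl v)⁻¹ := by group
        _ = _ := by rw [(S.D.comm_z hbC.1).eq.symm, mul_inv_cancel_right]
    rw [hcl e he hev, F.phi_xor, F.phi_xor, F.phi_xor, F.phi_low (wc_lt _), hin, F.phi_zbit, F.phi_zbit]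
    set c := F.phi (128 * (x / 128))
    set u := app (ql (x / 128)) v
    have hc := F.cl_conj hbC hbA (v := v)
    change c * F.cl v * c⁻¹ = F.cl u at hc
    calc F.cl v * c * (F.cl v)⁻¹ = F.cl v * (c * F.cl v * c⁻¹)⁻¹ * c := by group
      _ = F.cl v * (F.cl u)⁻¹ * c := by rw [hc]
      _ = F.cl v * (F.cl u * zp z (Orbits.qb v)) * c := by
        congr 2
        refine inv_eq_of_mul_eq_one_right ?_
        rw [← mul_assoc, F.cl_sq hu, hqb, S.zp_mul, Bool.xor_self]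
        rfl
      _ = F.cl (v ^^^ u) * zp z (beta v u) * zp z (Orbits.qb v) * c := by
        rw [← mul_assoc (F.cl v), F.cl_mul hv hu]
  have key : ∀ a b c : G, e * (a * b * c) * e⁻¹ = (e * a * e⁻¹) * (e * b * e⁻¹) * (e * c * e⁻¹) :=
    fun a b c => by group
  rw [F.phi_split hx, key, h1, h2, h3, ← F.phi_xor, ← F.phi_xor]
  congr 1
  have zb : ∀ a b : Bool, zbit (Bool.xor a b) = zbit a ^^^ zbit b := by decide
  show _ = x ^^^ eShift v (x / 128) (x % 64)
  conv_rhs => lhs; rw [split_code x hx]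
  show _ = _ ^^^ (wc (v ^^^ app (ql (x / 128)) v) ^^^ _)
  rw [zb, zb]
  simp only [Nat.xor_assoc, Nat.xor_left_comm, Nat.xor_comm]

end Frame

end Cfsg.Agent.J4Type.V11
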