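import Cfsg.Agent.J4Type.Orbits.Normal
import Cfsg.Agent.LargeFischer.MatPerm
import Cfsg.Agent.J4Type.V11.Data

/-!
# Coordinates on the elementary abelian group of order `2 ^ 11`

A code below `2048` carries six bits for the fixed space of the hexad group, one bit for the
central involution and four bits for the hexad group.
-/

set_option autoImplicit false

namespace Cfsg.Agent.J4Type.V11

open Rep Orbits

/-- The map with the given number in the hexad group. -/
noncomputable def ql (m : ℕ) : List ℕ := QL.getD m idM

/-- The vector with the given coordinates. -/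
noncomputable def wv (k : ℕ) : ℕ := app Wb k

/-- The coordinates of a vector. -/
noncomputable def wc (r : ℕ) : ℕ := app Cm r

/-- Whether a vector lies in the fixed space. -/
noncomputable def inW (r : ℕ) : Bool := Nat.beq (wv (wc r)) r

/-- The sign between the product of two canonical lifts and the lift of the sum. -/
noncomputable def beta (v w : ℕ) : Bool := Orbits.bv (app Wm (app Wm v)) (app Wm w)

/-- The central bit. -/
noncomputable def zbit (b : Bool) : ℕ := cond b 64 0

/-- The shift of a code under conjugation by the canonical lift of a vector. -/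
noncomputable def eShift (v m w : ℕ) : ℕ :=
  Nat.xor (wc (Nat.xor v (app (ql m) v)))
    (zbit (Bool.xor (Orbits.bv v (wv w)) (Bool.xor (beta v (app (ql m) v)) (Orbits.qb v))))

/-- Conjugation by the canonical lift of a vector, on codes. -/
noncomputable def eAct (v x : ℕ) : ℕ := Nat.xor x (eShift v (x / 128) (x % 64))

/-- Whether a vector lies in the image with the given number of the fixed space. -/
noncomputable def inH (i r : ℕ) : Bool :=
  Nat.beq (app (HB.getD i []) (app (HC.getD i []) r)) r

/-- The sign bit of a coset in a configuration. -/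
noncomputable def cbit (conf m : ℕ) : ℕ :=
  Nat.rec (motive := fun _ => ℕ) 0
    (fun k r => cond (Nat.beq (nbm.getD k 0) m) (Nat.mod (Nat.shiftRight conf k) 2) r) 11

/-- The second class in the given configuration. -/
noncomputable def tB (conf x : ℕ) : Bool :=
  cond (Nat.beq (x / 128) 0) (bit T36M x)
    (bit ((clsM.getD (x / 128) []).getD (cbit conf (x / 128)) 0) (x % 128))

/-- The number of the orbit of a code in its coset. -/
noncomputable def orbId (m x : ℕ) : ℕ := Nat.mod (Nat.shiftRight (oid.getD m 0) (3 * x)) 8

/-- The vector moving the representative to a code. -/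
noncomputable def orbWit (m x : ℕ) : ℕ := Nat.mod (Nat.shiftRight (oWit.getD m 0) (12 * x)) 4096

/-- The parity of a pair of cosets in a configuration. -/
noncomputable def par (conf p : ℕ) : Bool :=
  Bool.xor (bit pOff p) (Nat.beq (Nat.mod (cbit conf (p / 16) + cbit conf (p % 16) +
    cbit conf (Nat.xor (p / 16) (p % 16))) 2) 1)

/-- Whether the parities are constant on the two kinds of pairs. -/
noncomputable def parOK (conf : ℕ) : Bool :=
  pTree.all fun t => t.2.all fun e => par conf e.1 == par conf e.2.1

/-- The number of neighbours of a code in the second class. -/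
noncomputable def nbCount (conf a : ℕ) : ℕ :=
  ((List.range 2048).filter fun b => tB conf b && tB conf (Nat.xor a b)).length

/-- The points reached in a tree from a seed, as bits. -/
noncomputable def reachBits (seed : ℕ) (t : List (ℕ × ℕ × ℕ)) : ℕ :=
  List.rec (motive := fun _ => ℕ → ℕ) (fun s => s)
    (fun e _ r s => r (cond (bit s e.2.1) (Nat.lor s (Nat.shiftLeft 1 e.1)) s)) t (Nat.shiftLeft 1 seed)

theorem reach_sound (Q : ℕ → Prop) : ∀ (t : List (ℕ × ℕ × ℕ)) (seen : ℕ),
    (∀ r, bit seen r = true → Q r) → (∀ e ∈ t, Q e.2.1 → Q e.1) →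
    ∀ r, bit (List.rec (motive := fun _ => ℕ → ℕ) (fun s => s)
      (fun e _ r s => r (cond (bit s e.2.1) (Nat.lor s (Nat.shiftLeft 1 e.1)) s)) t seen) r = true → Q r
  | [], _, hs, _, r, h => hs r h
  | e :: t, seen, hs, he, r, h => by
    refine reach_sound Q t _ (fun s hb => ?_) (fun a ha => he a (List.mem_cons_of_mem e ha)) r h
    cases hp : bit seen e.2.1 <;> rw [hp] at hb
    · exact hs s hb
    · rcases bit_insert.1 hb with h' | h'
      · exact hs s h'
      · rw [h']; exact he e List.mem_cons_self (hs _ hp)

theorem reachBits_sound (Q : ℕ → Prop) {seed : ℕ} {t : List (ℕ × ℕ × ℕ)} (h0 : Q seed)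
    (he : ∀ e ∈ t, Q e.2.1 → Q e.1) {r : ℕ} (h : bit (reachBits seed t) r = true) : Q r := by
  refine reach_sound Q t _ (fun s hs => ?_) he r h
  have h' := bit_insert (n := 0) (r := seed) (s := s)
  rw [show Nat.lor 0 (Nat.shiftLeft 1 seed) = Nat.shiftLeft 1 seed from Nat.zero_or _] at h'
  rw [(h'.1 hs).resolve_left (by simp [bit_iff])]
  exact h0

end Cfsg.Agent.J4Type.V11
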