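import Cfsg.Agent.J4Type.V11.Involutions

/-!
# The centraliser of an involution of the second kind

Let `L = C(t)` and `D` the conjugates `y` of `z` in the group with `t ∈ O₂(C(y))`. A conjugate of `z`
of this kind outside the normaliser would give, with an element of `D` or with one of two test elements,
dihedral groups whose central involutions have centralisers inside conjugates of the normaliser.
-/

set_option autoImplicit false

open Cfsg Subgroup

namespace Cfsg.Agent.J4Type.V11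

open LargeExtra (oc oc_le oc_conj_mem conj_mem_oc)
open LargeFischer (W11 pt pn IsDuad)
open Rep Orbits

section Dihedral

variable {G : Type*} [Group G] [Finite G] {a b : G}

theorem pow_inv_swap (ha : a * a = 1) (hb : b * b = 1) (k : ℕ) :
    a * (a * b) ^ k = ((a * b) ^ k)⁻¹ * a := by
  have hai : a⁻¹ = a := inv_eq_of_mul_eq_one_right ha
  have hbi : b⁻¹ = b := inv_eq_of_mul_eq_one_right hb
  have h : a * (a * b) * a⁻¹ = (a * b)⁻¹ := by rw [mul_inv_rev, hai, hbi, ← mul_assoc a a b, ha, one_mul]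
  have h' : a * (a * b) ^ k * a⁻¹ = ((a * b) ^ k)⁻¹ := by rw [← conj_pow, h, inv_pow]
  rw [← h', inv_mul_cancel_right]

/-- Two involutions with a product of odd order are conjugate by a power of the product. -/
theorem dihedral_odd (ha : a * a = 1) (hb : b * b = 1) (h : Odd (orderOf (a * b))) :
    ∃ k : ℕ, (a * b) ^ k * a * ((a * b) ^ k)⁻¹ = b := by
  obtain ⟨m, hm⟩ := h
  refine ⟨m, ?_⟩
  set r := a * b with hr
  have hb' : b = a * r := by rw [hr, ← mul_assoc, ha, one_mul]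
  have hinv : (r ^ m)⁻¹ = r ^ m * r := by
    refine inv_eq_of_mul_eq_one_right ?_
    rw [← mul_assoc, ← pow_add, ← pow_succ, show m + m + 1 = orderOf r by omega, pow_orderOf_eq_one]
  calc r ^ m * a * (r ^ m)⁻¹ = r ^ m * (a * r ^ m) * r := by rw [hinv, ← mul_assoc, mul_assoc (r ^ m) a]
    _ = b := by rw [hr, pow_inv_swap ha hb, ← hr, mul_inv_cancel_left, hb']

/-- Two involutions with a product of even order commute with the central involution. -/
theorem dihedral_even (ha : a * a = 1) (hb : b * b = 1) (h : ¬ Odd (orderOf (a * b))) :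
    ∃ h i, orderOf (a * b) = 2 * h ∧ i = (a * b) ^ h ∧ i * i = 1 ∧ i ≠ 1 ∧ Commute i a ∧ Commute i b := by
  rw [Nat.not_odd_iff_even] at h
  obtain ⟨k, hk⟩ := h
  set r := a * b with hr
  have hpos : 0 < orderOf r := orderOf_pos r
  have hii : r ^ k * r ^ k = 1 := by rw [← pow_add, ← hk, pow_orderOf_eq_one]
  have hca : Commute (r ^ k) a := by
    show r ^ k * a = a * r ^ k
    rw [hr, pow_inv_swap ha hb, ← hr, inv_eq_of_mul_eq_one_right hii]
  refine ⟨k, r ^ k, by omega, rfl, hii, fun h1 => ?_, hca, ?_⟩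
  · have := orderOf_le_of_pow_eq_one (show 0 < k by omega) h1
    omega
  · have hb' : b = a * r := by rw [hr, ← mul_assoc, ha, one_mul]
    rw [hb']
    exact hca.mul_right (Commute.pow_self r k)

/-- The product with the central involution is a conjugate of one of the two. -/
theorem dihedral_shift (ha : a * a = 1) (hb : b * b = 1) (h : ℕ) :
    ∃ k : ℕ, (Even h ∧ a * (a * b) ^ h = ((a * b) ^ k)⁻¹ * a * (a * b) ^ k) ∨
      (¬ Even h ∧ a * (a * b) ^ h = ((a * b) ^ k)⁻¹ * b * (a * b) ^ k) := by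
  set r := a * b with hr
  rcases Nat.even_or_odd h with ⟨s, hs⟩ | ⟨s, hs⟩
  · refine ⟨s, Or.inl ⟨⟨s, hs⟩, ?_⟩⟩
    rw [hs, pow_add, ← mul_assoc, hr, pow_inv_swap ha hb]
  · refine ⟨s, Or.inr ⟨Nat.not_even_iff_odd.2 ⟨s, hs⟩, ?_⟩⟩
    have hb' : b = a * r := by rw [hr, ← mul_assoc, ha, one_mul]
    rw [hb', ← mul_assoc (r ^ s)⁻¹, hr, ← pow_inv_swap ha hb, ← hr, mul_assoc (a * r ^ s) r, ← pow_succ',
      mul_assoc, ← pow_add, show s + (s + 1) = h by omega]

end Dihedral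

variable {G : Type*} [Group G] [Finite G] {z : G} {P : Subgroup G} {V : Type*} [AddCommGroup V]
  {π : ↥(oc z) →* Multiplicative V} {ρ : ↥(mSub z P) →* Equiv.Perm V} {q : V → ZMod 2} {B : List V}

theorem t0_lt : t0 < 2048 := by
  have h := t0_ok
  simp only [Bool.and_eq_true] at h
  rw [beq_nat h.1.1]; norm_num

namespace Frame

variable {S : Sys z P π ρ q B} (F : Frame S)

theorem sec_t0 : F.sec t0 := by
  have h := t0_ok
  simp only [Bool.and_eq_true] at h
  rw [beq_nat h.1.1]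
  exact F.sec_58

/-- The involution of the second kind. -/
noncomputable def tt (F : Frame S) : G := F.phi t0

/-- Its centraliser. -/
noncomputable def lc (F : Frame S) : Subgroup G := centralizer ({F.tt} : Set G)

theorem mem_lc {g : G} : g ∈ F.lc ↔ Commute g F.tt := mem_centralizer_singleton_iff

/-- Conjugates of `z` whose 2-core holds the involution. -/
def Dt (F : Frame S) (y : G) : Prop := IsConj z y ∧ F.tt ∈ oc y

theorem Dt.sq {y : G} (h : F.Dt y) : y * y = 1 := by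
  obtain ⟨g, hg⟩ := isConj_iff.1 h.1
  rw [← hg, show g * z * g⁻¹ * (g * z * g⁻¹) = g * (z * z) * g⁻¹ by group, S.D.zz]; group

theorem Dt.mem_lc {y : G} (h : F.Dt y) : y ∈ F.lc :=
  F.mem_lc.2 (mem_centralizer_singleton_iff.1 (oc_le y h.2)).symm

theorem Dt.conj {y g : G} (h : F.Dt y) (hg : g ∈ F.lc) : F.Dt (g * y * g⁻¹) := by
  refine ⟨(isConj_conj_iff z g y).2 h.1, ?_⟩
  have := conj_mem_oc (g := g) h.2
  rwa [mul_inv_eq_iff_eq_mul.2 (F.mem_lc.1 hg).eq] at this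

theorem Dt.conj' {y g : G} (h : F.Dt y) (hg : g ∈ F.lc) : F.Dt (g⁻¹ * y * g) := by
  simpa using h.conj F (inv_mem hg)

theorem inD_iff {x : ℕ} (hF : F.Good) (hx : x < 2048) :
    inD x = true ↔ x ≠ 0 ∧ ¬ F.sec x ∧ F.sec (x ^^^ t0) := by
  simp only [inD, Bool.and_eq_true, Bool.not_eq_true']
  rw [F.sec_iff hF hx, F.sec_iff hF (xor_lt_2048 hx t0_lt), Bool.not_eq_true,
    show Nat.xor x t0 = x ^^^ t0 from rfl]
  constructor
  · rintro ⟨⟨h0, h1⟩, h2⟩
    exact ⟨fun e => by rw [e] at h0; exact Bool.noConfusion h0, h1, h2⟩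
  · rintro ⟨h0, h1, h2⟩
    exact ⟨⟨Bool.eq_false_iff.2 fun e => h0 (beq_nat e), h1⟩, h2⟩

theorem dt_phi (hF : F.Good) {x : ℕ} (hx : x < 2048) : F.Dt (F.phi x) ↔ inD x = true := by
  rw [F.inD_iff hF hx]
  constructor
  · rintro ⟨hz, ht⟩
    have h0 : x ≠ 0 := fun e => by
      rw [e, F.phi_zero] at hz
      exact S.D.z_ne (isConj_one_left.1 hz)
    have hs : ¬ F.sec x := fun h => h.2 hz
    exact ⟨h0, hs, Nat.xor_comm t0 x ▸ (F.mem_oc_conj hF hx h0 hs t0_lt F.sec_t0).1 ht⟩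
  · rintro ⟨h0, hs, h2⟩
    exact ⟨not_not.1 fun e => hs ⟨h0, e⟩,
      (F.mem_oc_conj hF hx h0 hs t0_lt F.sec_t0).2 (Nat.xor_comm x t0 ▸ h2)⟩

/-- Such a conjugate in the normaliser lies in the group. -/
theorem dt_mem (hF : F.Good) {y : G} (h : F.Dt y) (hy : y ∈ F.nrm) :
    ∃ x < 2048, F.phi x = y ∧ inD x = true := by
  obtain ⟨x, hx, e⟩ := F.mem_grp_of_oc hF hy h.1 t0_lt F.sec_t0 h.2
  exact ⟨x, hx, e, (F.dt_phi hF hx).1 (e ▸ h)⟩

/-- Elements with controlled centraliser. -/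
theorem cent_good (hF : F.Good) {i : ℕ} (hi : i < 2048) (h0 : i ≠ 0) (hb : inBad i = false) {g : G}
    (hg : g ∈ F.lc) (hc : Commute g (F.phi i)) : g ∈ F.nrm := by
  have ht : Commute g (F.phi t0) := F.mem_lc.1 hg
  simp only [inBad, Bool.or_eq_false_iff, Bool.and_eq_false_iff] at hb
  obtain ⟨hb1, hb2⟩ := hb
  have hit : i ≠ t0 := fun e => by rw [e, Nat.beq_refl] at hb1; exact Bool.noConfusion hb1
  by_cases hs : F.sec i
  · have hlt := xor_lt_2048 hi t0_lt
    refine F.cent_le hF hlt (fun e => hit (Nat.xor_eq_zero_iff.1 e)) (fun h => ?_) t0_lt F.sec_t0 ?_ ht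
    · rw [F.sec_iff hF hlt] at h
      rw [F.sec_iff hF hi] at hs
      rcases hb2 with h' | h'
      · rw [hs] at h'; exact Bool.noConfusion h'
      · rw [show Nat.xor i t0 = i ^^^ t0 from rfl, h] at h'; exact Bool.noConfusion h'
    · rw [F.phi_xor]; exact hc.mul_right ht
  · exact F.cent_le hF hi h0 hs t0_lt F.sec_t0 hc ht

/-- Elements centralising one of the distinguished elements normalise the group. -/
theorem cent_D (hF : F.Good) {x : ℕ} (hx : x < 2048) (hD : inD x = true) {g : G} (hg : g ∈ F.lc)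
    (hc : Commute g (F.phi x)) : g ∈ F.nrm := by
  obtain ⟨h0, hs, -⟩ := (F.inD_iff hF hx).1 hD
  exact F.cent_le hF hx h0 hs t0_lt F.sec_t0 hc (F.mem_lc.1 hg)

theorem phi_lc {x : ℕ} : F.phi x ∈ F.lc := F.mem_lc.2 (F.phi_comm x t0)

theorem not_bad {a b : ℕ} (ha : a < 2048) (hb : b < 2048) (hDa : inD a = true) (hDb : inD b = true) :
    inBad (a ^^^ b) = false := by
  have h := List.all_eq_true.1 (List.all_eq_true.1 bad_sum a
    (List.mem_filter.2 ⟨List.mem_range.2 ha, hDa⟩)) b (List.mem_filter.2 ⟨List.mem_range.2 hb, hDb⟩)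
  rw [Bool.not_eq_true'] at h
  exact h

theorem pow_lc {a b : G} (ha : a ∈ F.lc) (hb : b ∈ F.lc) (k : ℕ) : (a * b) ^ k ∈ F.lc :=
  pow_mem (mul_mem ha hb) k

/-- Such a conjugate outside the normaliser is conjugate in the centraliser to every distinguished
element. -/
theorem conj_D (hF : F.Good) {y : G} (hy : F.Dt y) (hyN : y ∉ F.nrm) {x : ℕ} (hx : x < 2048)
    (hD : inD x = true) : ∃ l ∈ F.lc, l * y * l⁻¹ = F.phi x := by
  have hd : F.Dt (F.phi x) := (F.dt_phi hF hx).2 hD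
  have hd2 := hd.sq F
  have hy2 := hy.sq F
  have hdL := hd.mem_lc F
  have hyL := hy.mem_lc F
  by_cases hodd : Odd (orderOf (F.phi x * y))
  · obtain ⟨k, e⟩ := dihedral_odd hd2 hy2 hodd
    refine ⟨((F.phi x * y) ^ k)⁻¹, inv_mem (F.pow_lc hdL hyL k), ?_⟩
    set r := (F.phi x * y) ^ k
    calc r⁻¹ * y * r⁻¹⁻¹ = r⁻¹ * (r * F.phi x * r⁻¹) * r⁻¹⁻¹ := by rw [e]
      _ = F.phi x := by group
  exfalso
  obtain ⟨h, i, -, hi, -, hi1, hia, hib⟩ := dihedral_even hd2 hy2 hodd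
  have hiL : i ∈ F.lc := hi ▸ F.pow_lc hdL hyL h
  have hiN : i ∈ F.nrm := F.cent_D hF hx hD hiL hia
  -- the product of the element and the central involution is again of this kind
  have hdi : F.Dt (F.phi x * i) := by
    obtain ⟨k, ⟨-, e⟩ | ⟨-, e⟩⟩ := dihedral_shift hd2 hy2 h <;> rw [hi, e]
    · exact hd.conj' F (F.pow_lc hdL hyL k)
    · exact hy.conj' F (F.pow_lc hdL hyL k)
  obtain ⟨w, hw, ew, hwD⟩ := F.dt_mem hF hdi (mul_mem (F.grp_le_nrm (F.phi_mem hx)) hiN)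
  have ei : F.phi (x ^^^ w) = i := by rw [F.phi_xor, ew, ← mul_assoc, F.phi_sq, one_mul]
  refine hyN (F.cent_good hF (xor_lt_2048 hx hw) (fun e0 => hi1 ?_) (not_bad hx hw hD hwD) hyL
    (ei ▸ hib.symm))
  rw [← ei, e0, F.phi_zero]

theorem sel_four : ∀ a b : GolayPt, ∃ c d : GolayPt, c ≠ d ∧ c ≠ a ∧ c ≠ b ∧ d ≠ a ∧ d ≠ b := by
  decide +kernel

/-- Every involution of the normaliser in the centraliser centralises a distinguished element. -/
theorem exists_D (hF : F.Good) {s : G} (hsN : s ∈ F.nrm) (hsL : s ∈ F.lc) (hs2 : s * s = 1) :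
    ∃ x < 2048, inD x = true ∧ Commute s (F.phi x) := by
  set n : ↥F.nrm := ⟨s, hsN⟩
  set p : Equiv.Perm GolayPt := ((F.theta hF n : ↥M24) : Equiv.Perm GolayPt) with hp
  have hpp : ∀ i, p (p i) = i := fun i => by
    rw [← Equiv.Perm.mul_apply, hp, ← Subgroup.coe_mul, ← map_mul,
      show n * n = 1 from Subtype.ext hs2, map_one]
    rfl
  have hspec : ∀ i j, F.tau n (pt i + pt j) = pt (p i) + pt (p j) := F.perm_spec hF n
  have hd : IsDuad (F.vEquiv ⟨F.phi t0, F.phi_mem t0_lt⟩).toAdd := (F.isDuad_iff hF).2 (by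
    rw [F.codeOf_eq t0_lt rfl]; exact F.sec_t0)
  obtain ⟨a, b, hab, eab⟩ := hd
  have hfix : F.tau n (pt a + pt b) = pt a + pt b := by
    rw [← eab, F.tau_apply]
    have e0 : F.nHom n ⟨F.phi t0, F.phi_mem t0_lt⟩ = ⟨F.phi t0, F.phi_mem t0_lt⟩ :=
      Subtype.ext (show s * F.phi t0 * s⁻¹ = F.phi t0 from mul_inv_eq_iff_eq_mul.2 (F.mem_lc.1 hsL).eq)
    rw [e0]
  have hpab := LargeFischer.pair_eq (p.injective.ne hab) hab ((hspec a b).symm.trans hfix)
  obtain ⟨c, d, hcd, hca, hcb, hda, hdb, hp'⟩ : ∃ c d : GolayPt, c ≠ d ∧ c ≠ a ∧ c ≠ b ∧ d ≠ a ∧ d ≠ b ∧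
      ((p c = c ∧ p d = d) ∨ (p c = d ∧ p d = c)) := by
    by_cases h : ∃ c, c ≠ a ∧ c ≠ b ∧ p c ≠ c
    · obtain ⟨c, h1, h2, h3⟩ := h
      refine ⟨c, p c, Ne.symm h3, h1, h2, fun e => ?_, fun e => ?_, Or.inr ⟨rfl, hpp c⟩⟩
      · rcases hpab with ⟨h4, -⟩ | ⟨h4, -⟩
        · exact h1 (p.injective (e.trans h4.symm))
        · exact h2 (by rw [← hpp c, e, h4])
      · rcases hpab with ⟨-, h4⟩ | ⟨-, h4⟩
        · exact h2 (p.injective (e.trans h4.symm))
        · exact h1 (by rw [← hpp c, e, h4])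
    · push Not at h
      obtain ⟨c, d, h1, h2, h3, h4, h5⟩ := sel_four a b
      exact ⟨c, d, h1, h2, h3, h4, h5, Or.inl ⟨h c h2 h3, h d h4 h5⟩⟩
  obtain ⟨e, he⟩ := F.vEquiv.surjective (Multiplicative.ofAdd (pt a + pt b + (pt c + pt d)))
  have he' : (F.vEquiv e).toAdd = pt a + pt b + (pt c + pt d) := by rw [he]; rfl
  obtain ⟨hne, hnd⟩ := LargeFischer.four_ne hab hcd hca.symm hda.symm hcb.symm hdb.symm
  obtain ⟨hx, ex⟩ := F.codeOf_spec e
  set x := F.codeOf e
  refine ⟨x, hx, (F.inD_iff hF hx).2 ⟨fun h0 => hne ?_, fun h => hnd ?_, ?_⟩, ?_⟩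
  · rw [← he', show e = 1 from Subtype.ext (by rw [← ex, h0, F.phi_zero]; rfl), map_one]; rfl
  · rw [← he']; exact (F.isDuad_iff hF).2 h
  · have hmem := F.phi_mem (xor_lt_2048 hx t0_lt)
    have := (F.isDuad_iff hF (a := ⟨F.phi (x ^^^ t0), hmem⟩)).1 ?_
    · rwa [F.codeOf_eq (xor_lt_2048 hx t0_lt) rfl] at this
    · rw [show (⟨F.phi (x ^^^ t0), hmem⟩ : ↥F.grp) = e * ⟨F.phi t0, F.phi_mem t0_lt⟩ from
        Subtype.ext (show F.phi (x ^^^ t0) = (e : G) * F.phi t0 by rw [F.phi_xor, ex]), map_mul, toAdd_mul, he', eab]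
      exact ⟨c, d, hcd, by
        rw [show pt a + pt b + (pt c + pt d) + (pt a + pt b) = (pt a + pt b + (pt a + pt b)) + (pt c + pt d) by
          abel, LargeFischer.self11, zero_add]⟩
  · have hfix' : F.tau n (pt a + pt b + (pt c + pt d)) = pt a + pt b + (pt c + pt d) := by
      rw [map_add, hfix, hspec]
      rcases hp' with ⟨h1, h2⟩ | ⟨h1, h2⟩ <;> rw [h1, h2]
      rw [add_comm (pt d)]
    rw [← he', F.tau_apply] at hfix'
    have h' := congrArg Subtype.val (F.vEquiv.injective (Multiplicative.toAdd.injective hfix'))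
    rw [ex]
    exact mul_inv_eq_iff_eq_mul.1 h'

/-- A conjugate outside the normaliser does not commute with an involution in it whose centraliser goes
into the normaliser with it. -/
theorem no_transport (hF : F.Good) {y l i : G} (hy : F.Dt y) (hyN : y ∉ F.nrm) {x : ℕ} (hx : x < 2048)
    (hl : l ∈ F.lc) (hly : l * y * l⁻¹ = F.phi x) (hiN : i ∈ F.nrm)
    (hiL : i ∈ F.lc) (hi2 : i * i = 1) (hcent : ∀ g ∈ F.lc, Commute g (l * i * l⁻¹) → g ∈ F.nrm) :
    False := by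
  obtain ⟨x₁, hx₁, hD₁, hc₁⟩ := F.exists_D hF hiN hiL hi2
  have h1 : F.Dt (l * F.phi x₁ * l⁻¹) := ((F.dt_phi hF hx₁).2 hD₁).conj F hl
  have hN : l * F.phi x₁ * l⁻¹ ∈ F.nrm := hcent _ (h1.mem_lc F) (by
    show l * F.phi x₁ * l⁻¹ * (l * i * l⁻¹) = l * i * l⁻¹ * (l * F.phi x₁ * l⁻¹)
    calc _ = l * (F.phi x₁ * i) * l⁻¹ := by group
      _ = l * (i * F.phi x₁) * l⁻¹ := by rw [hc₁.eq]
      _ = _ := by group)
  obtain ⟨x₂, -, e₂, -⟩ := F.dt_mem hF h1 hN
  refine hyN (F.cent_D hF hx₁ hD₁ (hy.mem_lc F) ?_)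
  have h := (F.phi_comm x₂ x).eq
  rw [e₂, ← hly] at h
  show y * F.phi x₁ = F.phi x₁ * y
  calc y * F.phi x₁ = l⁻¹ * (l * y * l⁻¹ * (l * F.phi x₁ * l⁻¹)) * l := by group
    _ = l⁻¹ * (l * F.phi x₁ * l⁻¹ * (l * y * l⁻¹)) * l := by rw [← h]
    _ = F.phi x₁ * y := by group

/-- A test element gives an exceptional element commuting with the conjugate. -/
theorem exists_bad (hF : F.Good) {y : G} (hy : F.Dt y) (hyN : y ∉ F.nrm) {w : ℕ} (hw : w < 2048)
    (hw0 : w ≠ 0) (hwb : inBad w = false) (hwD : inD w = false) :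
    ∃ i < 2048, inBad i = true ∧ inD (w ^^^ i) = true ∧ Commute y (F.phi i) := by
  have hw2 := F.phi_sq w
  have hy2 := hy.sq F
  have hwL : F.phi w ∈ F.lc := F.phi_lc
  have hyL := hy.mem_lc F
  have hodd : ¬ Odd (orderOf (F.phi w * y)) := fun h => by
    obtain ⟨k, e⟩ := dihedral_odd hw2 hy2 h
    have hd : F.Dt (F.phi w) := by
      have := hy.conj' F (F.pow_lc hwL hyL k)
      set r := (F.phi w * y) ^ k
      rwa [show r⁻¹ * y * r = F.phi w by
        calc r⁻¹ * y * r = r⁻¹ * (r * F.phi w * r⁻¹) * r := by rw [e]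
          _ = F.phi w := by group] at this
    rw [(F.dt_phi hF hw).1 hd] at hwD
    exact Bool.noConfusion hwD
  obtain ⟨h, i, hord, hi, hi2, hi1, hia, hib⟩ := dihedral_even hw2 hy2 hodd
  have hiL : i ∈ F.lc := hi ▸ F.pow_lc hwL hyL h
  have hiN : i ∈ F.nrm := F.cent_good hF hw hw0 hwb hiL hia
  obtain ⟨k, hk⟩ := dihedral_shift hw2 hy2 h
  rcases hk with ⟨heven, -⟩ | ⟨-, e⟩
  · exfalso
    -- `y i` is also of this kind
    have hyi : F.Dt (y * i) := by
      have hyx : (y * F.phi w) ^ h = i := by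
        rw [show y * F.phi w = (F.phi w * y)⁻¹ by
          rw [mul_inv_rev, inv_eq_of_mul_eq_one_right hw2, inv_eq_of_mul_eq_one_right hy2], inv_pow, ← hi,
          inv_eq_of_mul_eq_one_right hi2]
      obtain ⟨k', hk'⟩ := dihedral_shift hy2 hw2 h
      rcases hk' with ⟨-, e'⟩ | ⟨hodd', -⟩
      · rw [← hyx, e']; exact hy.conj' F (F.pow_lc hyL hwL k')
      · exact absurd heven hodd'
    obtain ⟨x, hx, hD⟩ : ∃ x < 2048, inD x = true := by
      obtain ⟨x, hx, hD, -⟩ := F.exists_D hF hiN hiL hi2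
      exact ⟨x, hx, hD⟩
    obtain ⟨l, hl, hly⟩ := F.conj_D hF hy hyN hx hD
    have hli : l * (y * i) * l⁻¹ = F.phi x * (l * i * l⁻¹) := by rw [← hly]; group
    have hD' : F.Dt (F.phi x * (l * i * l⁻¹)) := hli ▸ hyi.conj F hl
    have hliL : l * i * l⁻¹ ∈ F.lc := mul_mem (mul_mem hl hiL) (inv_mem hl)
    have hcx : Commute (l * i * l⁻¹) (F.phi x) := by
      rw [← hly]
      show l * i * l⁻¹ * (l * y * l⁻¹) = l * y * l⁻¹ * (l * i * l⁻¹)
      calc _ = l * (i * y) * l⁻¹ := by group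
        _ = l * (y * i) * l⁻¹ := by rw [hib.eq]
        _ = _ := by group
    obtain ⟨v, hv, ev, hvD⟩ := F.dt_mem hF hD'
      (mul_mem (F.grp_le_nrm (F.phi_mem hx)) (F.cent_D hF hx hD hliL hcx))
    have ei : F.phi (x ^^^ v) = l * i * l⁻¹ := by rw [F.phi_xor, ev, ← mul_assoc, F.phi_sq, one_mul]
    refine F.no_transport hF hy hyN hx hl hly hiN hiL hi2 fun g hg hc =>
      F.cent_good hF (xor_lt_2048 hx hv) (fun e0 => hi1 ?_) (not_bad hx hv hD hvD) hg (ei ▸ hc)
    rw [e0, F.phi_zero] at ei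
    calc i = l⁻¹ * (l * i * l⁻¹) * l := by group
      _ = 1 := by rw [← ei]; group
  · rw [← hi] at e
    have hDt : F.Dt (F.phi w * i) := e ▸ hy.conj' F (F.pow_lc hwL hyL k)
    obtain ⟨u, hu, eu, huD⟩ := F.dt_mem hF hDt (mul_mem (F.grp_le_nrm (F.phi_mem hw)) hiN)
    have ei : F.phi (w ^^^ u) = i := by rw [F.phi_xor, eu, ← mul_assoc, F.phi_sq, one_mul]
    refine ⟨w ^^^ u, xor_lt_2048 hw hu, ?_, by rwa [← Nat.xor_assoc, Nat.xor_self, Nat.zero_xor],
      ei ▸ hib.symm⟩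
    cases hb : inBad (w ^^^ u)
    · refine absurd (F.cent_good hF (xor_lt_2048 hw hu) (fun e0 => hi1 ?_) hb hyL (ei ▸ hib.symm)) hyN
      rw [← ei, e0, F.phi_zero]
    · rfl

theorem w_spec {w : ℕ} (hw : w ∈ [w1, w2]) :
    w < 2048 ∧ w ≠ 0 ∧ inBad w = false ∧ inD w = false := by
  have h := test_ok
  simp only [Bool.and_eq_true] at h
  have h' := List.all_eq_true.1 h.1.2 w hw
  simp only [Bool.and_eq_true, Bool.not_eq_true'] at h'
  obtain ⟨⟨⟨h1, h2⟩, h3⟩, h4⟩ := h'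
  refine ⟨blt_nat h1, fun e => by rw [e] at h2; exact Bool.noConfusion h2, ?_, ?_⟩
  · simp only [inBad, h3, h4, Bool.false_and, Bool.or_false]
    refine Bool.eq_false_iff.2 fun e => ?_
    rw [beq_nat e, h.1.1.1] at h3
    exact Bool.noConfusion h3
  · simp only [inD, h4, Bool.and_false]

/-- **All these conjugates lie in the group.** -/
theorem dt_all (hF : F.Good) {y : G} (hy : F.Dt y) : y ∈ F.nrm := by
  by_contra hyN
  obtain ⟨a1, b1, c1, d1⟩ := w_spec (w := w1) (by simp)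
  obtain ⟨a2, b2, c2, d2⟩ := w_spec (w := w2) (by simp)
  obtain ⟨i, hi, hib, hiD, hic⟩ := F.exists_bad hF hy hyN a1 b1 c1 d1
  obtain ⟨j, hj, hjb, hjD, hjc⟩ := F.exists_bad hF hy hyN a2 b2 c2 d2
  have h := test_ok
  simp only [Bool.and_eq_true] at h
  have hm := List.all_eq_true.1 (List.all_eq_true.1 h.2 i (List.mem_filter.2 ⟨List.mem_range.2 hi, by
    rw [hib]; exact hiD⟩)) j (List.mem_filter.2 ⟨List.mem_range.2 hj, by rw [hjb]; exact hjD⟩)
  simp only [Bool.and_eq_true, Bool.not_eq_true'] at hm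
  refine hyN (F.cent_good hF (xor_lt_2048 hi hj) (fun e => ?_) hm.2 (hy.mem_lc F) ?_)
  · rw [Nat.xor_eq_zero_iff.1 e, Nat.beq_refl] at hm; exact Bool.noConfusion hm.1
  · rw [F.phi_xor]; exact hic.mul_right hjc

/-- **The centraliser of the involution lies in the normaliser.** -/
theorem cent_le_nrm (hF : F.Good) : F.lc ≤ F.nrm := by
  intro l hl
  refine F.mem_nrm_of fun g hg => ?_
  obtain ⟨x, hx, rfl⟩ := hg
  refine bitInd 11 (P := fun x => l * F.phi x * l⁻¹ ∈ F.grp) ?_ (fun a b _ _ h1 h2 => ?_) (fun i hi => ?_) x hx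
  · rw [F.phi_zero, mul_one, mul_inv_cancel]; exact one_mem _
  · rw [F.phi_xor, show l * (F.phi a * F.phi b) * l⁻¹ = l * F.phi a * l⁻¹ * (l * F.phi b * l⁻¹) by group]
    exact mul_mem h1 h2
  have h := all_range span_ok hi
  simp only [Bool.and_eq_true, List.all_eq_true] at h
  rw [← beq_nat h.1]
  have key : ∀ L : List ℕ, (∀ a ∈ L, Nat.blt a 2048 = true ∧ inD a = true) →
      l * F.phi (L.foldr (fun a b => Nat.xor a b) 0) * l⁻¹ ∈ F.grp := by
    intro L
    induction L with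
    | nil => intro _; rw [List.foldr_nil, F.phi_zero, mul_one, mul_inv_cancel]; exact one_mem _
    | cons a L ih =>
      intro hL
      obtain ⟨ha, hD⟩ := hL a List.mem_cons_self
      rw [List.foldr_cons, show Nat.xor a _ = a ^^^ _ from rfl, F.phi_xor, show ∀ p r : G,
        l * (p * r) * l⁻¹ = l * p * l⁻¹ * (l * r * l⁻¹) from fun p r => by group]
      refine mul_mem ?_ (ih fun b hb => hL b (List.mem_cons_of_mem a hb))
      have hDt := ((F.dt_phi hF (blt_nat ha)).2 hD).conj F hl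
      obtain ⟨u, hu, eu, -⟩ := F.dt_mem hF hDt (F.dt_all hF hDt)
      exact eu ▸ F.phi_mem hu
  exact key _ h.2

/-- The orbit of the second kind. -/
theorem ncard_orbit_t (hF : F.Good) : Set.ncard {v : G | ∃ n ∈ F.nrm, n * F.tt * n⁻¹ = v} = 276 := by
  have h : {v : G | ∃ n ∈ F.nrm, n * F.tt * n⁻¹ = v} =
      F.phi '' ↑((List.range 2048).filter (tB 370)).toFinset := by
    ext v
    simp only [Set.mem_ofPred_eq, Set.mem_image, Finset.mem_coe, List.mem_toFinset, List.mem_filter,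
      List.mem_range]
    constructor
    · rintro ⟨n, hn, rfl⟩
      obtain ⟨x, hx, e⟩ := F.exists_img hn t0_lt
      exact ⟨x, ⟨hx, (F.sec_iff hF hx).1 (F.sec_img t0_lt e F.sec_t0)⟩, e⟩
    · rintro ⟨x, ⟨hx, hT⟩, rfl⟩
      obtain ⟨n, hn, e⟩ := F.rel_all hx ((F.sec_iff hF hx).2 hT)
      refine ⟨n, hn, ?_⟩
      rw [e, tt, show t0 = 58 from rfl]
  rw [h, Set.InjOn.ncard_image, Set.ncard_coe_finset, List.toFinset_card_of_nodup (List.nodup_range.filter _),
    sec_count]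
  intro a ha b hb e
  simp only [Finset.mem_coe, List.mem_toFinset, List.mem_filter, List.mem_range] at ha hb
  exact F.phi_inj ha.1 hb.1 e

end Frame

end Cfsg.Agent.J4Type.V11
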