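import Mathlib.Data.Nat.Notation

/-! Generated data: the complement, the classes of involutions and the centraliser -/

set_option autoImplicit false
set_option maxRecDepth 100000

namespace Cfsg.Agent.J4Type.V11

/-- The three generators in the Sylow subgroup. -/
def rGen : List ℕ :=
    [5, 15, 38, 68, 62, 10]

/-- Conjugations into the normal group of order thirty-two. -/
def rConj : List (List ℕ × ℕ) :=
    [([], 13), ([0, 2, 1, 1, 0], 8), ([], 16), ([], 25), ([2, 1, 0, 2], 26), ([], 15)]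

/-- The sixteen elements. -/
def rEl : List ℕ :=
    [0, 38, 5, 68, 233, 159, 35, 55, 10, 56, 6, 48, 240, 164, 15, 62]

/-- A basis of the complementary space. -/
def Ub : List ℕ :=
    [1026, 1036, 1184, 1344, 1552, 3977]

/-- Its coordinates. -/
def Uc : List ℕ :=
    [32, 1, 2, 0, 16, 4, 8, 0, 0, 0, 0, 0]

/-- Vectors for the two classes of involutions. -/
def eVec : List ℕ :=
    [14, 43]

/-- Their permutations. -/
def ePerm : List ℕ :=
    [0xbd6d46c6467ae63729252410760820, 0xa20b76c0d24ae63709f6246a762801]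

/-- Conjugations to the standard representatives. -/
def eConj : List ℕ :=
    [0x7c18e4daf391d741c4c25550d09480, 0x526ce42cf5688b28c0d3a5c6f09180]

/-- The conjugates of the involution that are used, with words. -/
def eUse : List (ℕ × List ℕ) :=
    [(13, [0, 1, 2, 1, 0, 2, 1, 0]), (34, [0, 0, 1, 2, 0, 1, 2, 1]), (47, [0, 1, 1, 0, 2, 1])]

/-- The fixed elements outside the space, each as a product in the intersection. -/
def eCert0 : List (ℕ × ℕ × List ℕ) :=
    [(1152, 0, [128, 1024]), (1153, 2, [1153]), (1154, 1, [114, 2, 16, 1250]), (1155, 0, [3, 128, 1024]), (1164, 2,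
    [46, 1, 50, 16, 1153]), (1165, 0, [14, 3, 128, 1024]), (1166, 0, [14, 128, 1024]), (1167, 1, [114, 29, 2,
    1250]), (1168, 0, [29, 14, 3, 128, 1024]), (1169, 2, [16, 1153]), (1170, 1, [114, 2, 1250]), (1171, 0, [29, 14,
    128, 1024]), (1180, 2, [46, 1, 50, 1153]), (1181, 0, [29, 128, 1024]), (1182, 0, [29, 3, 128, 1024]), (1183, 1,
    [114, 29, 2, 16, 1250]), (1184, 1, [50, 114, 2, 1250]), (1185, 0, [50, 29, 14, 128, 1024]), (1186, 0, [50, 29,
    14, 3, 128, 1024]), (1187, 2, [50, 16, 1153]), (1196, 0, [50, 29, 3, 128, 1024]), (1197, 1, [50, 114, 29, 2,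
    16, 1250]), (1198, 2, [46, 1, 1153]), (1199, 0, [50, 29, 128, 1024]), (1200, 1, [50, 114, 2, 16, 1250]), (1201,
    0, [50, 3, 128, 1024]), (1202, 0, [50, 128, 1024]), (1203, 2, [50, 1153]), (1212, 0, [50, 14, 128, 1024]),
    (1213, 1, [50, 114, 29, 2, 1250]), (1214, 2, [46, 1, 16, 1153]), (1215, 0, [50, 14, 3, 128, 1024]), (1216, 0,
    [50, 114, 128, 1024]), (1217, 2, [46, 110, 1153]), (1218, 1, [50, 2, 16, 1250]), (1219, 0, [50, 114, 3, 128,
    1024]), (1228, 2, [110, 1, 50, 16, 1153]), (1229, 0, [50, 114, 14, 3, 128, 1024]), (1230, 0, [50, 114, 14, 128,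
    1024]), (1231, 1, [50, 29, 2, 1250]), (1232, 0, [50, 114, 29, 14, 3, 128, 1024]), (1233, 2, [46, 110, 16,
    1153]), (1234, 1, [50, 2, 1250]), (1235, 0, [50, 114, 29, 14, 128, 1024]), (1244, 2, [110, 1, 50, 1153]),
    (1245, 0, [50, 114, 29, 128, 1024]), (1246, 0, [50, 114, 29, 3, 128, 1024]), (1247, 1, [50, 29, 2, 16, 1250]),
    (1248, 1, [2, 1250]), (1249, 0, [114, 29, 14, 128, 1024]), (1250, 0, [114, 29, 14, 3, 128, 1024]), (1251, 2,
    [46, 110, 50, 16, 1153]), (1260, 0, [114, 29, 3, 128, 1024]), (1261, 1, [29, 2, 16, 1250]), (1262, 2, [110, 1,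
    1153]), (1263, 0, [114, 29, 128, 1024]), (1264, 1, [2, 16, 1250]), (1265, 0, [114, 3, 128, 1024]), (1266, 0,
    [114, 128, 1024]), (1267, 2, [46, 110, 50, 1153]), (1276, 0, [114, 14, 128, 1024]), (1277, 1, [29, 2, 1250]),
    (1278, 2, [110, 1, 16, 1153]), (1279, 0, [114, 14, 3, 128, 1024])]

/-- The fixed elements outside the space, each as a product in the intersection. -/
def eCert1 : List (ℕ × ℕ × List ℕ) :=
    []

/-- The isolated pair. -/
def t0 : ℕ :=
    58

/-- A first test element. -/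
def w1 : ℕ :=
    6

/-- A second test element. -/
def w2 : ℕ :=
    130

/-- Each unit as a product of elements used for the span. -/
def dCert : List (List ℕ) :=
    [[15, 20, 26], [5, 19, 20], [5, 15, 20, 26], [15, 19, 20], [5, 15, 26], [5, 15, 19, 26, 35], [64],
    [5, 19, 150], [5, 19, 20, 258], [15, 20, 26, 513], [5, 19, 20, 1026]]

end Cfsg.Agent.J4Type.V11
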