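import Cfsg.Agent.J4Type.V11.SylDefs
import Cfsg.Agent.J4Type.V11.CentData
import Cfsg.Agent.Compute.Classes

/-!
# Codes used for the complement, the classes of involutions and the centraliser
-/

set_option autoImplicit false

namespace Cfsg.Agent.J4Type.V11

open Rep Orbits

/-- The image of a point of the code quotient under conjugation by the lift of a vector. -/
noncomputable def eQuot (v n : ℕ) : ℕ := app Lm (eAct v (app Li n))

/-- An element of the class of the involution that is good for the fixed pair. -/
noncomputable def inD (x : ℕ) : Bool :=
  !(Nat.beq x 0) && !(tB 370 x) && tB 370 (Nat.xor x t0)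

/-- An element whose centraliser is not controlled directly. -/
noncomputable def inBad (x : ℕ) : Bool :=
  Nat.beq x t0 || (tB 370 x && tB 370 (Nat.xor x t0))

/-- A certificate that a fixed code lies with the vector in the core of one central conjugate. -/
noncomputable def covOK (v : ℕ) (e : ℕ × ℕ × List ℕ) : Bool :=
  Nat.blt e.2.1 eUse.length &&
    e.2.2.all (fun t => Nat.blt t 2048 && tB 370 t &&
      tB 370 (Nat.xor t (eUse.getD e.2.1 (0, [])).1)) &&
    Nat.beq (e.2.2.foldr (fun a b => Nat.xor a b) 0) e.1 &&
    kList.any (fun k => Nat.beq (app (code (eUse.getD e.2.1 (0, [])).2) k) v)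

end Cfsg.Agent.J4Type.V11
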