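import Cfsg.Agent.J4Type.V11.Frame

/-!
# The group of order `2 ^ 11` is self-centralising
-/

set_option autoImplicit false

open Cfsg Subgroup

namespace Cfsg.Agent.J4Type.V11

open LargeExtra (oc oc_le oc_conj_mem)
open Rep Orbits

variable {G : Type*} [Group G] [Finite G] {z : G} {P : Subgroup G} {V : Type*} [AddCommGroup V]
  {π : ↥(oc z) →* Multiplicative V} {ρ : ↥(mSub z P) →* Equiv.Perm V} {q : V → ZMod 2} {B : List V}

theorem seven_coord : wv (wc 7) = 7 := by decide +kernel

namespace Sys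

variable (S : Sys z P π ρ q B)
include S

theorem lin_range {h : G} (hh : h ∈ centralizer ({z} : Set G)) : lin ρ h ∈ ρ.range := S.D.lin_mem hh

/-- The maps fixing the space of the hexad group pointwise. -/
theorem code_of_fixW {γ : Equiv.Perm V} (hγ : γ ∈ ρ.range)
    (hfix : ∀ k < 64, γ (Rep.lin B (wv k)) = Rep.lin B (wv k)) :
    ∃ m < 16, Orbits.PActs B γ (ql m) := by
  have h7 : γ (Rep.lin B Short.v0) = Rep.lin B Short.v0 := by
    have := hfix (wc 7) (wc_lt 7)
    rwa [seven_coord] at this
  have key : ∀ M, goodM M = true → Orbits.PActs B γ M →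
      ((List.range 6).all fun i => Nat.beq (app M (wv (2 ^ i))) (wv (2 ^ i))) = true := by
    intro M hM hact
    refine List.all_eq_true.2 fun i hi => ?_
    rw [S.lin_lt_inj (app_lt_of_good hM _) (wv_lt _) (by
      rw [← hact, hfix]
      exact lt_of_lt_of_le (Nat.pow_lt_pow_right (by norm_num) (List.mem_range.1 hi)) (by norm_num))]
    exact Nat.beq_refl _
  by_cases h0 : γ ∈ gammaZero ρ
  · obtain ⟨M, hM, hact⟩ := short.stab_inner S.M h0 h7
    have h := List.all_eq_true.1 pointwise_in M hM
    rw [key M (good_stabIn hM) hact, Bool.not_true, Bool.false_or, List.any_eq_true] at h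
    obtain ⟨Q, hQ, e⟩ := h
    rw [eqM_iff] at e
    obtain ⟨m, hm, rfl⟩ := List.getElem_of_mem hQ
    refine ⟨m, hm, ?_⟩
    rw [ql, List.getD_eq_getElem _ _ hm, ← e]
    exact hact
  · obtain ⟨M, hM, hact⟩ := short.stab_outer S.M hγ h0 h7
    have h := List.all_eq_true.1 pointwise_out M hM
    rw [key M (good_stabOut hM) hact] at h
    exact Bool.noConfusion h

end Sys

namespace Frame

variable {S : Sys z P π ρ q B} (F : Frame S)

/-- An element of `H` centralising the part in `E` lies in the group. -/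
theorem mem_grp_of_comm {h : G} (hh : h ∈ centralizer ({z} : Set G))
    (hc : ∀ k < 64, Commute h (F.phi k)) : h ∈ F.grp := by
  have hfix : ∀ k < 64, lin ρ h (Rep.lin B (wv k)) = Rep.lin B (wv k) := by
    intro k hk
    have hv := F.vec_phi (k := k) (by omega)
    rw [Nat.mod_eq_of_lt hk] at hv
    rw [← hv, ← S.D.vec_conj_lin hh (F.phi_oc (by omega)), mul_inv_eq_iff_eq_mul.2 (hc k hk).eq]
  obtain ⟨m, hm, hact⟩ := S.code_of_fixW (S.lin_range hh) hfix
  obtain ⟨hbC, hbA⟩ := F.phi_high hm
  have hbM := cSub_le_mSub z P hbC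
  have hb : lin ρ (F.phi (128 * m)) = lin ρ h := by
    rw [(S.D.lin_mSub hbM).1]
    exact S.M.acts_eq hbA hact
  have he : h * F.phi (128 * m) ∈ oc z := by
    refine (S.D.lin_eq_one (mul_mem hh hbC.1)).1 ?_
    rw [(S.D.lin_mul hh hbC.1).1, ← hb, ← (S.D.lin_mul hbC.1 hbC.1).1, F.phi_sq]
    exact (S.D.lin_oc (one_mem _)).1
  obtain ⟨r, hr, hv⟩ := S.M.code_cases (vec π (h * F.phi (128 * m)))
  have hin : inW r = true := by
    have hp := List.all_eq_true.1 w_perp r (List.mem_range.2 hr)
    rw [Bool.or_eq_true, List.any_eq_true] at hp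
    refine hp.resolve_right ?_
    rintro ⟨i, hi, hbv⟩
    have hi : i < 6 := List.mem_range.1 hi
    have hlt : 2 ^ i < 64 := lt_of_lt_of_le (Nat.pow_lt_pow_right (by norm_num) hi) (by norm_num)
    have hcm : Commute (h * F.phi (128 * m)) (F.phi (2 ^ i)) := (hc _ hlt).mul_left (F.phi_comm _ _)
    have := (S.D.polar_eq he (F.phi_oc (by omega))).2 hcm
    rw [← hv, F.vec_phi (by omega), Nat.mod_eq_of_lt hlt, S.M.polar_code hr (wv_lt _), hbv] at this
    exact absurd this (by decide)
  have hvr : vec π (F.phi (wc r)) = Rep.lin B r := by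
    rw [F.vec_phi (by have := wc_lt r; omega), Nat.mod_eq_of_lt (wc_lt r), inW_iff.1 hin]
  have hw : wc r < 2048 := by have := wc_lt r; omega
  have hg : h * F.phi (128 * m) ∈ F.grp := by
    rcases S.D.vec_eq he (F.phi_oc (by have := wc_lt r; omega)) (hv.symm.trans hvr.symm) with e | e <;>
      rw [e]
    · exact F.phi_mem hw
    · exact mul_mem (F.phi_mem hw) F.z_mem_grp
  have := mul_mem hg (F.phi_mem (x := 128 * m) (by omega))
  rwa [mul_assoc, F.phi_sq, mul_one] at this

/-- **The group contains its centraliser.** -/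
theorem centralizer_grp : centralizer (F.grp : Set G) ≤ F.grp := by
  intro h hh
  have hc : ∀ a ∈ F.grp, Commute h a := fun a ha => (mem_centralizer_iff.1 hh a ha).symm
  exact F.mem_grp_of_comm (mem_centralizer_singleton_iff.2 (hc z F.z_mem_grp).eq)
    fun k hk => hc _ (F.phi_mem (by omega))

end Frame

end Cfsg.Agent.J4Type.V11
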