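import Cfsg.Agent.J4Type.V11.Defs

/-!
# Finite checks on the hexad and the coordinates
-/

set_option autoImplicit false
set_option Elab.async false
set_option maxRecDepth 100000

namespace Cfsg.Agent.J4Type.V11

open Rep Orbits

theorem shape_ok : (Nat.beq Wb.length 6 && Nat.beq QL.length 16 && Nat.beq Cm.length 12 &&
    Wb.all (fun r => Nat.blt r 4096) && Cm.all (fun r => Nat.blt r 64) &&
    QL.all goodM && Nat.beq HB.length 77 && Nat.beq HC.length 77 &&
    eqM (HB.getD 0 []) Wb && eqM (HC.getD 0 []) Cm && bit Short.orbBits 7) = true := by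
  decide +kernel

theorem wc_wv : ((List.range 64).all fun k => Nat.beq (wc (wv k)) k) = true := by decide +kernel

theorem wm_sum : ((List.range 12).all fun i =>
    Nat.beq (Nat.xor (app Wm (2 ^ i)) (app Wm (app Wm (2 ^ i)))) (2 ^ i)) = true := by decide +kernel

theorem w_flat : ((List.range 64).all fun a => (List.range 64).all fun b =>
    !(Orbits.bv (wv a) (wv b)) && !(beta (wv a) (wv b))) = true := by decide +kernel

theorem w_perp : ((List.range 4096).all fun r =>
    inW r || (List.range 6).any fun i => Orbits.bv r (wv (2 ^ i))) = true := by decide +kernel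

theorem ql_fix : (eqM (ql 0) idM && (List.range 16).all fun m => (List.range 6).all fun i =>
    Nat.beq (app (ql m) (wv (2 ^ i))) (wv (2 ^ i))) = true := by decide +kernel

theorem ql_comm : ((List.range 16).all fun m => (List.range 12).all fun i =>
    inW (Nat.xor (2 ^ i) (app (ql m) (2 ^ i)))) = true := by decide +kernel

theorem ql_mul : ((List.range 16).all fun m => (List.range 16).all fun i =>
    eqM (comp (ql i) (ql m)) (ql (Nat.xor i m))) = true := by decide +kernel

theorem ql_distinct : distinctB eqM QL = true := by decide +kernel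

theorem ql_stab : ((List.range 16).all fun m =>
    Nat.blt (qlIdx.getD m (0, 0)).1 Short.codesA.length &&
    Nat.blt (qlIdx.getD m (0, 0)).2 Short.codesB.length &&
    eqM (comp (Short.codesA.getD (qlIdx.getD m (0, 0)).1 []) (Short.codesB.getD (qlIdx.getD m (0, 0)).2 []))
      (ql m)) = true := by decide +kernel

theorem ql_conj : ((List.range 16).all fun m => Nat.blt (qlConj.getD m ([], 0)).2 qList.length &&
    eqM (comp (ql m) (code (qlConj.getD m ([], 0)).1))
      (comp (code (qlConj.getD m ([], 0)).1) (qList.getD (qlConj.getD m ([], 0)).2 []))) = true := by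
  decide +kernel

theorem pointwise_in : (stabIn.all fun s =>
    !((List.range 6).all fun i => Nat.beq (app s (wv (2 ^ i))) (wv (2 ^ i))) || QL.any (eqM s)) = true := by
  decide +kernel

theorem pointwise_out : (stabOut.all fun s =>
    !((List.range 6).all fun i => Nat.beq (app s (wv (2 ^ i))) (wv (2 ^ i)))) = true := by
  decide +kernel

theorem hex_images : ((List.range 77).all fun i =>
    Nat.beq (HB.getD i []).length 6 && (HB.getD i []).all (fun r => Nat.blt r 4096) &&
    ((List.range 64).all fun k => Nat.beq (app (HC.getD i []) (app (HB.getD i []) k)) k) &&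
    ((List.range 4).all fun g => Nat.blt ((HI.getD i []).getD g 77) 77 &&
      (HB.getD i []).all fun b =>
        inH ((HI.getD i []).getD g 77) (app ([Xm, Ym, F0, Sg].getD g []) b))) = true := by
  decide +kernel

theorem hex_pair : ((List.range 77).all fun i => Nat.beq i 0 ||
    T36.all fun x => !(inH i (wv (x % 64)))) = true := by decide +kernel

theorem hex_fix : ((List.range 77).all fun i => Nat.beq i 0 || (List.range 16).all fun m => Nat.beq m 0 ||
    !((HB.getD i []).all fun b => Nat.beq (app (ql m) b) b)) = true := by decide +kernel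

theorem hex_kernel : ((List.range 77).all fun i => inH i 7 ||
    ((kList.all fun k => !(inH i k) || !(bit Long.orbBits k)) &&
      qList.all fun q => eqM q idM || !((HB.getD i []).all fun b => Nat.beq (app q b) b))) = true := by
  decide +kernel

theorem t36_spec : ((List.range 128).all fun x => (bit T36M x ==
      (bit Long.orbBits (wv (x % 64)))) && (T36.any (Nat.beq x) == bit T36M x) &&
    (bit T36M x || Nat.beq (x % 64) 0 || bit Short.orbBits (wv (x % 64))) &&
    (!(bit T36M x) || !(bit Short.orbBits (wv (x % 64))))) = true := by decide +kernel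

theorem orb_ok : ((List.range 16).all fun m => Nat.beq m 0 || (List.range 128).all fun x =>
    Nat.blt (orbId m x) 5 &&
    Nat.beq (eAct (orbWit m x) (128 * m + (oRep.getD m []).getD (orbId m x) 0)) (128 * m + x)) = true := by
  decide +kernel

theorem flip_ok : ((List.range 36).all fun k => Nat.blt (flipV.getD k 0) 4096 &&
    Nat.beq (eAct (flipV.getD k 0) (T36.getD k 0)) (Nat.xor (T36.getD k 0) 64)) = true := by decide +kernel

theorem gen_stab : (Nat.beq gCode.length gIdx.length && (List.range gIdx.length).all fun k =>
    goodM (gCode.getD k []) && Nat.blt (gIdx.getD k ([], 0, 0)).2.1 Short.codesA.length &&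
    Nat.blt (gIdx.getD k ([], 0, 0)).2.2 Short.codesB.length &&
    eqM (comp (code (gIdx.getD k ([], 0, 0)).1) (comp (Short.codesA.getD (gIdx.getD k ([], 0, 0)).2.1 [])
      (Short.codesB.getD (gIdx.getD k ([], 0, 0)).2.2 []))) (gCode.getD k []) &&
    ((List.range 6).all fun i => inW (app (gCode.getD k []) (wv (2 ^ i)))) &&
    ((List.range 16).all fun m => Nat.blt ((gPerm.getD k []).getD m 16) 16 &&
      eqM (comp (gCode.getD k []) (ql m)) (comp (ql ((gPerm.getD k []).getD m 16)) (gCode.getD k [])))) = true := by
  decide +kernel

end Cfsg.Agent.J4Type.V11
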