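import Cfsg.Agent.J4Type.V11.Defs

/-!
# Finite checks that determine the second class in the elementary group
-/

set_option autoImplicit false
set_option Elab.async false
set_option maxRecDepth 100000

namespace Cfsg.Agent.J4Type.V11

open Rep Orbits

/-- The part of a coset selected by the orbit numbers. -/
noncomputable def selCount (m b : ℕ) : ℕ :=
  ((List.range 128).filter fun x => bit b (orbId m x)).length

theorem sel_ok : ((List.range 16).all fun m => Nat.beq m 0 || (List.range 32).all fun b =>
    Nat.beq (selCount m b % 16) 0 && (!(Nat.beq (selCount m b) 112) ||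
      Nat.beq b (31 - 2 ^ orbId m 0) || Nat.beq b (31 - 2 ^ orbId m 64))) = true := by decide +kernel

theorem cls_ok : ((List.range 16).all fun m => Nat.beq m 0 || (List.range 2).all fun f =>
    ((clsL.getD m []).getD f []).all (fun x => Nat.blt x 128) &&
    (List.range 128).all fun x => ((((clsL.getD m []).getD f []).any (Nat.beq x)) ==
      bit ((clsM.getD m []).getD f 0) x) &&
      (Nat.beq (orbId m x) (orbId m (64 * f)) == bit ((clsM.getD m []).getD f 0) x)) = true := by
  decide +kernel

theorem par_ok : ((List.range 256).all fun p => !(Nat.blt 0 (p / 16) && Nat.blt (p / 16) (p % 16)) ||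
    (List.range 8).all fun fgh =>
      (((clsL.getD (p / 16) []).getD (fgh % 2) []).any fun x =>
        ((clsL.getD (p % 16) []).getD (fgh / 2 % 2) []).any fun y =>
          bit ((clsM.getD (Nat.xor (p / 16) (p % 16)) []).getD (fgh / 4) 0) (Nat.xor x y)) ==
      Bool.xor (bit pOff p) (Nat.beq ((fgh % 2 + fgh / 2 % 2 + fgh / 4) % 2) 1)) = true := by
  decide +kernel

theorem pTree_ok : (pTree.all fun t => t.2.all fun e => Nat.blt e.2.2 gPerm.length &&
    Nat.blt 0 (e.1 / 16) && Nat.blt (e.1 / 16) (e.1 % 16) &&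
    Nat.blt 0 (e.2.1 / 16) && Nat.blt (e.2.1 / 16) (e.2.1 % 16) &&
    ((Nat.beq ((gPerm.getD e.2.2 []).getD (e.2.1 / 16) 0) (e.1 / 16) &&
      Nat.beq ((gPerm.getD e.2.2 []).getD (e.2.1 % 16) 0) (e.1 % 16)) ||
    (Nat.beq ((gPerm.getD e.2.2 []).getD (e.2.1 / 16) 0) (e.1 % 16) &&
      Nat.beq ((gPerm.getD e.2.2 []).getD (e.2.1 % 16) 0) (e.1 / 16)))) = true := by decide +kernel

theorem conf_ok : ((List.range 2048).all fun c =>
    !(parOK c) || Nat.beq c 0 || Nat.beq c 370 || Nat.beq c 1207 || Nat.beq c 1477) = true := by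
  decide +kernel

theorem count_ok : (([0, 1207, 1477].all fun c => !(Nat.beq (nbCount c 58) (nbCount c
      (128 + ((clsL.getD 1 []).getD (cbit c 1) []).getD 0 0))))) = true := by decide +kernel

theorem conf_bits : (Nat.beq (cbit 370 1) 0 && Nat.beq (cbit 370 2) 0 && Nat.beq (cbit 370 4) 0 &&
    Nat.beq (cbit 370 8) 0 && (List.range 11).all fun k => Nat.blt 0 (nbm.getD k 0) &&
      Nat.blt (nbm.getD k 0) 16) = true := by decide +kernel

theorem mTree_ok : (mTree.all fun e => Nat.blt e.2.2 gPerm.length &&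
    Nat.beq ((gPerm.getD e.2.2 []).getD e.2.1 16) e.1 &&
    Nat.blt e.1 16 && Nat.blt e.2.1 16) = true := by decide +kernel

theorem vTree_ok : (vTree.all fun e => Nat.blt e.2.2 gCode.length && Nat.blt e.1 64 && Nat.blt e.2.1 64 &&
    Nat.beq (app (gCode.getD e.2.2 []) (wv e.2.1)) (wv e.1)) = true := by decide +kernel

theorem reach_ok : (((List.range 16).all fun m => Nat.beq m 0 || bit (reachBits 1 mTree) m) &&
    (T36.all fun x => bit (reachBits 58 vTree) (x % 64)) &&
    (List.range 256).all fun p => !(Nat.blt 0 (p / 16) && Nat.blt (p / 16) (p % 16)) ||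
      pTree.any fun t => bit (reachBits t.1 t.2) p) = true := by decide +kernel

theorem duad_ok : ((List.range 2048).all fun x =>
    (tB 370 x == bit LargeFischer.tmask (app Lm x)) && Nat.blt (app Lm x) 2048 &&
    Nat.blt (app Li x) 2048 && Nat.beq (app Li (app Lm x)) x && Nat.beq (app Lm (app Li x)) x) = true := by
  decide +kernel

end Cfsg.Agent.J4Type.V11
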