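import Cfsg.Agent.J4Type.V11.Fusion
import Cfsg.Agent.J4Type.V11.ConfChecks
import Cfsg.Agent.CoOneType.Orbit
import Mathlib.GroupTheory.Perm.Cycle.Type

/-!
# The conjugates of `z` in each coset of the part in the 2-core
-/

set_option autoImplicit false

open Cfsg Subgroup

namespace Cfsg.Agent.J4Type.V11

open LargeExtra (oc oc_le oc_conj_mem)
open Rep Orbits

variable {G : Type*} [Group G] [Finite G] {z : G} {P : Subgroup G} {V : Type*} [AddCommGroup V]
  {π : ↥(oc z) →* Multiplicative V} {ρ : ↥(mSub z P) →* Equiv.Perm V} {q : V → ZMod 2} {B : List V}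

theorem selCount_card (m b : ℕ) :
    selCount m b = ((Finset.range 128).filter fun x => bit b (orbId m x) = true).card := by
  rw [selCount, ← List.toFinset_card_of_nodup (List.nodup_range.filter _)]
  refine congrArg Finset.card (Finset.ext fun x => ?_)
  simp

/-- A prime that rules out any other size of the class of `z` in a coset. -/
theorem count_cases {c : ℕ} (hc : c ≤ 128) (h16 : c % 16 = 0) (hne : c ≠ 112) :
    ∃ r, r.Prime ∧ r ≠ 2 ∧ r ∣ 91 + 15 * c ∧ ∀ k < 12, 1 ≤ k → ¬ r ∣ 2 ^ k - 1 := by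
  rcases (show c = 0 ∨ c = 16 ∨ c = 32 ∨ c = 48 ∨ c = 64 ∨ c = 80 ∨ c = 96 ∨ c = 128 by omega) with
    rfl | rfl | rfl | rfl | rfl | rfl | rfl | rfl
  · exact ⟨13, by norm_num, by norm_num, by norm_num, by decide⟩
  · exact ⟨331, by norm_num, by norm_num, by norm_num, by decide⟩
  · exact ⟨571, by norm_num, by norm_num, by norm_num, by decide⟩
  · exact ⟨811, by norm_num, by norm_num, by norm_num, by decide⟩
  · exact ⟨1051, by norm_num, by norm_num, by norm_num, by decide⟩
  · exact ⟨1291, by norm_num, by norm_num, by norm_num, by decide⟩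
  · exact ⟨1531, by norm_num, by norm_num, by norm_num, by decide⟩
  · exact ⟨2011, by norm_num, by norm_num, by norm_num, by decide⟩

namespace Frame

variable {S : Sys z P π ρ q B} (F : Frame S)

open scoped _root_.Classical in
/-- The conjugates of `z` in a coset. -/
noncomputable def cls (F : Frame S) (m : ℕ) : Finset ℕ :=
  (Finset.range 128).filter fun x => IsConj z (F.phi (128 * m + x))

theorem mem_cls {m x : ℕ} : x ∈ F.cls m ↔ x < 128 ∧ IsConj z (F.phi (128 * m + x)) := by
  simp [cls]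

theorem conj_orb {m x : ℕ} (hm : 1 ≤ m) (hm' : m < 16) (hx : x < 128) :
    IsConj z (F.phi (128 * m + x)) ↔ IsConj z (F.phi (128 * m + (oRep.getD m []).getD (orbId m x) 0)) := by
  have h := all_range (all_range orb_ok hm' |> fun h => (Bool.or_eq_true_iff.1 h).resolve_left
    (fun e => by have := beq_nat e; omega)) hx
  simp only [Bool.and_eq_true] at h
  set r := 128 * m + (oRep.getD m []).getD (orbId m x) 0
  by_cases hr : r < 2048
  · obtain ⟨n, -, hn⟩ := F.rel_oc (x := r) hr (v := orbWit m x) (Nat.mod_lt _ (by norm_num))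
    rw [beq_nat h.2] at hn
    rw [hn, isConj_conj_iff]
  · exfalso
    have h1 : eAct (orbWit m x) r / 128 = r / 128 := by
      show (r ^^^ eShift _ _ _) / 128 = _
      rw [xor_high, Nat.div_eq_of_lt (eShift_lt _ _ _), Nat.xor_zero]
    rw [beq_nat h.2] at h1
    omega

theorem exists_select {m : ℕ} (hm : 1 ≤ m) (hm' : m < 16) : ∃ b < 32, ∀ x < 128,
    (IsConj z (F.phi (128 * m + x)) ↔ bit b (orbId m x) = true) := by
  classical
  obtain ⟨b, hb⟩ := select5 fun i =>
    decide (IsConj z (F.phi (128 * m + (oRep.getD m []).getD i.val 0)))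
  refine ⟨b, b.2, fun x hx => ?_⟩
  have h := all_range (all_range orb_ok hm' |> fun h => (Bool.or_eq_true_iff.1 h).resolve_left
    (fun e => by have := beq_nat e; omega)) hx
  simp only [Bool.and_eq_true] at h
  rw [F.conj_orb hm hm' hx, hb ⟨_, blt_nat h.1⟩, decide_eq_true_iff]

theorem card_cls_dvd {m : ℕ} (hm : 1 ≤ m) (hm' : m < 16) : (F.cls m).card % 16 = 0 ∧
    ∀ b, (∀ x < 128, (IsConj z (F.phi (128 * m + x)) ↔ bit b (orbId m x) = true)) → b < 32 →
      (F.cls m).card = selCount m b := by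
  have key : ∀ b, (∀ x < 128, (IsConj z (F.phi (128 * m + x)) ↔ bit b (orbId m x) = true)) →
      (F.cls m).card = selCount m b := by
    intro b hb
    rw [selCount_card]
    refine congrArg Finset.card (Finset.ext fun x => ?_)
    rw [F.mem_cls, Finset.mem_filter, Finset.mem_range]
    exact and_congr_right fun hx => hb x hx
  obtain ⟨b, hb, hbb⟩ := F.exists_select hm hm'
  refine ⟨?_, fun b hb _ => key b hb⟩
  rw [key b hbb]
  have h := all_range ((Bool.or_eq_true_iff.1 (all_range sel_ok hm')).resolve_left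
    (fun e => by have := beq_nat e; omega)) hb
  rw [Bool.and_eq_true] at h
  exact beq_nat h.1

theorem card_cls_zero : (F.cls 0).card = 91 := by
  rw [← low_count, ← List.toFinset_card_of_nodup (List.nodup_range.filter _)]
  refine congrArg Finset.card (Finset.ext fun x => ?_)
  simp only [F.mem_cls, Nat.mul_zero, Nat.zero_add, List.mem_toFinset, List.mem_filter, List.mem_range,
    Bool.and_eq_true, Bool.not_eq_true']
  refine and_congr_right fun hx => ?_
  by_cases h0 : x = 0
  · subst h0
    refine iff_of_false (fun h => S.D.z_ne ?_) (fun h => by simp at h)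
    rw [F.phi_zero] at h
    exact isConj_one_left.1 h
  · rw [F.conj_low hx h0]
    exact ⟨fun h => ⟨Bool.eq_false_iff.2 fun e => h0 (beq_nat e), h⟩, fun h => h.2⟩

theorem card_le_of_moves {n : G} {m m' : ℕ} (h : F.Moves n m m') (hm : m < 16) (hm' : m' < 16) :
    (F.cls m).card ≤ (F.cls m').card := by
  choose! y hy hye using fun x (hx : x < 2048) => F.exists_img h.2.1 hx
  refine Finset.card_le_card_of_injOn (fun x => y (128 * m + x) % 128) (fun x hx => ?_) (fun a ha b hb e => ?_)
  · obtain ⟨hx, hc⟩ := F.mem_cls.1 hx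
    have hlt : 128 * m + x < 2048 := by omega
    have hd := F.img_coset h hm' hlt (by omega) (hy _ hlt) (hye _ hlt)
    refine F.mem_cls.2 ⟨Nat.mod_lt _ (by norm_num), ?_⟩
    rw [show 128 * m' + y (128 * m + x) % 128 = y (128 * m + x) by omega, hye _ hlt, isConj_conj_iff]
    exact hc
  · obtain ⟨ha, -⟩ := F.mem_cls.1 ha
    obtain ⟨hb, -⟩ := F.mem_cls.1 hb
    have hla : 128 * m + a < 2048 := by omega
    have hlb : 128 * m + b < 2048 := by omega
    have hda := F.img_coset h hm' hla (by omega) (hy _ hla) (hye _ hla)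
    have hdb := F.img_coset h hm' hlb (by omega) (hy _ hlb) (hye _ hlb)
    have e' : y (128 * m + a) = y (128 * m + b) := by simp only at e; omega
    have := hye _ hla
    rw [e', hye _ hlb] at this
    have := F.phi_inj hla hlb (mul_left_cancel (mul_right_cancel this)).symm
    omega

theorem card_cls_eq {m : ℕ} (hm : 1 ≤ m) (hm' : m < 16) : (F.cls m).card = (F.cls 1).card := by
  have h := reach_ok
  simp only [Bool.and_eq_true] at h
  have hb := (Bool.or_eq_true_iff.1 (all_range h.1.1 hm')).resolve_left (fun e => by have := beq_nat e; omega)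
  refine reachBits_sound (fun r => (F.cls r).card = (F.cls 1).card) rfl (fun e he hq => ?_) hb
  have ht := List.all_eq_true.1 mTree_ok e he
  simp only [Bool.and_eq_true] at ht
  obtain ⟨⟨⟨hk, hp⟩, h1⟩, h2⟩ := ht
  obtain ⟨n, -, hn⟩ := F.exists_gen (show e.2.2 < gCode.length from blt_nat hk)
  have hn := (hn e.2.1 (blt_nat h2)).1
  rw [beq_nat hp] at hn
  rw [← hq]
  exact le_antisymm (F.card_le_of_moves hn.inv (blt_nat h1) (blt_nat h2))
    (F.card_le_of_moves hn (blt_nat h2) (blt_nat h1))

open scoped _root_.Classical in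
/-- The codes of the conjugates of `z` in the group. -/
noncomputable def zSet (F : Frame S) : Finset ℕ :=
  (Finset.range 2048).filter fun x => IsConj z (F.phi x)

theorem mem_zSet {x : ℕ} : x ∈ F.zSet ↔ x < 2048 ∧ IsConj z (F.phi x) := by
  simp [zSet]

/-- The conjugates of `z` in the group. -/
theorem card_class : F.zSet.card = 91 + 15 * (F.cls 1).card := by
  classical
  set W := F.zSet with hW
  have hfib : ∀ m ∈ Finset.range 16, (W.filter fun x => x / 128 = m).card = (F.cls m).card := by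
    intro m hm
    rw [Finset.mem_range] at hm
    refine Finset.card_nbij' (fun x => x % 128) (fun x => 128 * m + x) (fun x hx => ?_) (fun x hx => ?_)
      (fun x hx => ?_) (fun x hx => ?_)
    · simp only [hW, Finset.mem_coe, Finset.mem_filter, F.mem_zSet] at hx
      refine F.mem_cls.2 ⟨Nat.mod_lt _ (by norm_num), ?_⟩
      rw [show 128 * m + x % 128 = x by omega]
      exact hx.1.2
    · obtain ⟨hx, hc⟩ := F.mem_cls.1 hx
      simp only [hW, Finset.mem_coe, Finset.mem_filter, F.mem_zSet]
      exact ⟨⟨by omega, hc⟩, by omega⟩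
    · simp only [hW, Finset.mem_coe, Finset.mem_filter, F.mem_zSet] at hx
      show 128 * m + x % 128 = x
      omega
    · obtain ⟨hx, -⟩ := F.mem_cls.1 hx
      show (128 * m + x) % 128 = x
      omega
  rw [Finset.card_eq_sum_card_fiberwise (f := fun x => x / 128) (t := Finset.range 16)
    (fun x hx => Finset.mem_range.2 (show x / 128 < 16 by have := (F.mem_zSet.1 hx).1; omega)),
    Finset.sum_congr rfl hfib, Finset.sum_range_succ', F.card_cls_zero,
    Finset.sum_congr rfl (fun m hm => F.card_cls_eq (m := m + 1) (by omega)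
      (by have := Finset.mem_range.1 hm; omega)),
    Finset.sum_const, Finset.card_range, smul_eq_mul]
  omega

/-- **The orbit of `z` under the normaliser is its class inside the group.** -/
theorem orbit_z : {v : G | ∃ n ∈ F.nrm, n * z * n⁻¹ = v} = F.phi '' ↑F.zSet := by
  ext v
  simp only [Set.mem_ofPred_eq, Set.mem_image, Finset.mem_coe, F.mem_zSet]
  constructor
  · rintro ⟨n, hn, rfl⟩
    obtain ⟨x, hx, e⟩ := F.conj_mem hn F.z_mem_grp
    exact ⟨x, ⟨hx, by rw [e]; exact isConj_iff.2 ⟨n, rfl⟩⟩, e⟩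
  · rintro ⟨x, ⟨hx, hc⟩, rfl⟩
    exact F.fusion F.z_mem_grp (F.phi_mem hx) hc

theorem ncard_orbit_z : Set.ncard {v : G | ∃ n ∈ F.nrm, n * z * n⁻¹ = v} = 91 + 15 * (F.cls 1).card := by
  rw [F.orbit_z, Set.InjOn.ncard_image, Set.ncard_coe_finset, F.card_class]
  intro a ha b hb e
  simp only [Finset.mem_coe, F.mem_zSet] at ha hb
  exact F.phi_inj ha.1 hb.1 e

theorem dvd_two_pow_sub {p : ℕ} (hp : p.Prime) (hodd : p ≠ 2) (h : p ∣ Nat.card F.nrm) :
    ∃ k, k ≤ 11 ∧ 1 ≤ k ∧ p ∣ 2 ^ k - 1 := by
  classical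
  have := Fact.mk hp
  have : Fintype G := Fintype.ofFinite G
  obtain ⟨⟨n, hn⟩, hord⟩ := exists_prime_orderOf_dvd_card' (G := ↥F.nrm) p h
  rw [Subgroup.orderOf_mk] at hord
  let φ : ↥(normalizer (F.grp : Set G)) →* MulAut ↥F.grp := F.grp.normalizerMonoidHom
  let f : Function.End ↥F.grp := MulAction.toEndHom (φ ⟨n, hn⟩)
  have hpow : (⟨n, hn⟩ : ↥(normalizer (F.grp : Set G))) ^ p ^ 1 = 1 := by
    rw [pow_one]
    exact Subtype.ext (by rw [SubgroupClass.coe_pow, ← hord]; exact pow_orderOf_eq_one n)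
  have hf : f ^ p ^ 1 = 1 := by
    rw [← map_pow, ← map_pow, hpow, map_one, map_one]
  have hmod := Equiv.Perm.card_fixedPoints_modEq hf
  set K := F.grp ⊓ centralizer ({n} : Set G) with hK
  have hfix : Nat.card f.fixedPoints = Nat.card K := by
    refine Nat.card_congr
      { toFun := fun a => ⟨a.1.1, a.1.2, mem_centralizer_singleton_iff.2 ?_⟩
        invFun := fun a => ⟨⟨a.1, a.2.1⟩, ?_⟩
        left_inv := fun a => rfl
        right_inv := fun a => rfl }
    · exact (mul_inv_eq_iff_eq_mul.1 (congrArg Subtype.val a.2)).symm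
    · exact Subtype.ext (mul_inv_eq_iff_eq_mul.2 (mem_centralizer_singleton_iff.1 a.2.2).symm)
  rw [Fintype.card_eq_nat_card, Fintype.card_eq_nat_card, F.card_grp, hfix] at hmod
  obtain ⟨j, hj, hjK⟩ := (Nat.dvd_prime_pow Nat.prime_two).1
    (F.card_grp ▸ card_dvd_of_le (inf_le_left : K ≤ F.grp))
  have hj' : j < 11 := by
    refine lt_of_le_of_ne hj fun e => ?_
    have hle : K = F.grp := eq_of_le_of_card_ge inf_le_left (by rw [hjK, F.card_grp, e])
    have hnA : n ∈ F.grp := F.centralizer_grp (mem_centralizer_iff.2 fun a ha =>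
      mem_centralizer_singleton_iff.1 ((hle.ge ha).2))
    have h2 : orderOf n ∣ 2 := orderOf_dvd_of_pow_eq_one (by rw [pow_two]; exact F.grp_sq hnA)
    rw [hord] at h2
    exact hodd ((Nat.prime_dvd_prime_iff_eq hp Nat.prime_two).1 h2)
  rw [hjK] at hmod
  refine ⟨11 - j, by omega, by omega, ?_⟩
  have hd := (Nat.modEq_iff_dvd' (Nat.pow_le_pow_right (by norm_num) hj'.le)).1 hmod.symm
  have e : 2 ^ 11 - 2 ^ j = 2 ^ j * (2 ^ (11 - j) - 1) := by
    rw [Nat.mul_sub, mul_one, ← pow_add, Nat.add_sub_cancel' hj'.le]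
  rw [e] at hd
  exact (hp.dvd_mul.1 hd).resolve_left fun h' =>
    hodd ((Nat.prime_dvd_prime_iff_eq hp Nat.prime_two).1 (hp.dvd_of_dvd_pow h'))

/-- **Every coset holds 112 conjugates of `z`.** -/
theorem card_cls {m : ℕ} (hm : 1 ≤ m) (hm' : m < 16) : (F.cls m).card = 112 := by
  rw [F.card_cls_eq hm hm']
  set c := (F.cls 1).card with hc
  by_contra hne
  have hc128 : c ≤ 128 := (Finset.card_le_card (fun x hx => Finset.mem_range.2 (F.mem_cls.1 hx).1)).trans_eq
    (Finset.card_range 128)
  set t := 91 + 15 * c with ht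
  have hdvd : t ∣ Nat.card F.nrm := by
    have h := CoOneType.card_conj_orbit F.nrm z {v | ∃ n ∈ F.nrm, n * z * n⁻¹ = v} (fun y => Iff.rfl)
    rw [Nat.card_coe_set_eq, F.ncard_orbit_z] at h
    exact ⟨_, h⟩
  obtain ⟨r, hr, hr2, hrd, hbad⟩ := count_cases hc128 (F.card_cls_dvd (m := 1) le_rfl (by norm_num)).1 hne
  obtain ⟨k, hk, hk1, hkd⟩ := F.dvd_two_pow_sub hr hr2 (hrd.trans hdvd)
  exact hbad k (by omega) hk1 hkd

/-- In each coset exactly one orbit is not conjugate to `z`. -/
theorem exists_sign {m : ℕ} (hm : 1 ≤ m) (hm' : m < 16) : ∃ f < 2, ∀ x < 128,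
    (IsConj z (F.phi (128 * m + x)) ↔ bit ((clsM.getD m []).getD f 0) x = false) := by
  obtain ⟨b, hb, hbb⟩ := F.exists_select hm hm'
  have h := all_range ((Bool.or_eq_true_iff.1 (all_range sel_ok hm')).resolve_left
    (fun e => by have := beq_nat e; omega)) hb
  rw [← (F.card_cls_dvd hm hm').2 b hbb hb, F.card_cls hm hm'] at h
  simp only [Nat.beq_refl, Bool.not_true, Bool.false_or, Bool.and_eq_true, Bool.or_eq_true] at h
  obtain ⟨f, hf, e⟩ : ∃ f < 2, b = 31 - 2 ^ orbId m (64 * f) := by
    rcases h.2 with e | e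
    · exact ⟨0, by norm_num, beq_nat e⟩
    · exact ⟨1, by norm_num, beq_nat e⟩
  refine ⟨f, hf, fun x hx => ?_⟩
  have hcl := all_range ((Bool.or_eq_true_iff.1 (all_range cls_ok hm')).resolve_left
    (fun e => by have := beq_nat e; omega)) hf
  rw [Bool.and_eq_true] at hcl
  have hx' := all_range hcl.2 hx
  simp only [Bool.and_eq_true, beq_iff_eq] at hx'
  have ho := (Bool.or_eq_true_iff.1 (all_range orb_ok hm')).resolve_left (fun e => by have := beq_nat e; omega)
  have h1 := all_range ho hx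
  have h2 := all_range ho (show 64 * f < 128 by omega)
  rw [Bool.and_eq_true] at h1 h2
  have h3 := all_range (all_range all_but_one (blt_nat h2.1)) (blt_nat h1.1)
  rw [beq_iff_eq, ← e] at h3
  rw [hbb x hx, h3, hx'.2]
  simp

end Frame

end Cfsg.Agent.J4Type.V11
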