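import Cfsg.Agent.J4Type.V11.Defs

/-!
# Small checks for the orbits of the normaliser
-/

set_option autoImplicit false
set_option Elab.async false
set_option maxRecDepth 100000

namespace Cfsg.Agent.J4Type.V11

open Rep Orbits

theorem orb_apart : ((List.range 16).all fun m => Nat.beq m 0 || !(Nat.beq (orbId m 0) (orbId m 64))) = true := by
  decide +kernel

theorem w_pair : ((List.range 64).all fun k => Nat.beq k 0 ||
    (List.range 12).any fun i => Orbits.bv (2 ^ i) (wv k)) = true := by decide +kernel

theorem low_count : ((List.range 128).filter fun x => !(Nat.beq x 0) && !(bit T36M x)).length = 91 := by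
  decide +kernel

theorem cbit_eq : ((List.range 2048).all fun c => (List.range 11).all fun k =>
    Nat.beq (cbit c (nbm.getD k 0)) (Nat.mod (Nat.shiftRight c k) 2)) = true := by decide +kernel

theorem nbm_cover : ((List.range 16).all fun m => Nat.beq m 0 || Nat.beq m 1 || Nat.beq m 2 || Nat.beq m 4 ||
    Nat.beq m 8 || (List.range 11).any fun k => Nat.beq (nbm.getD k 0) m) = true := by decide +kernel

theorem cbit_base : ((List.range 2048).all fun c => [1, 2, 4, 8].all fun m => Nat.beq (cbit c m) 0) = true := by
  decide +kernel

theorem seed_ok : ((List.range 2).all fun f =>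
    Nat.blt (((clsL.getD 1 []).getD f []).getD 0 0) 128 &&
    bit ((clsM.getD 1 []).getD f 0) (((clsL.getD 1 []).getD f []).getD 0 0)) = true := by decide +kernel

theorem seed_low : (bit T36M 58 && bit T36M 122 && Nat.beq (Nat.xor 58 122) 64) = true := by decide +kernel

theorem tree_pts : (Nat.beq pTree.length 2 && mTree.all fun e => Nat.blt 0 e.1 && Nat.blt 0 e.2.1) = true := by
  decide +kernel

theorem sec_count : ((List.range 2048).filter (tB 370)).length = 276 := by decide +kernel

/-- Any selection of five things is given by bits. -/
theorem select5 : ∀ f : Fin 5 → Bool, ∃ b : Fin 32, ∀ i : Fin 5, bit b.val i.val = f i := by decide +kernel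

theorem all_but_one : ((List.range 5).all fun o => (List.range 5).all fun i =>
    bit (31 - 2 ^ o) i == !(Nat.beq i o)) = true := by decide +kernel

end Cfsg.Agent.J4Type.V11
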