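import Cfsg.Agent.J4Type.V11.Unique
import Cfsg.Agent.J4Type.V11.OrbitChecks

/-!
# The normaliser of the group of order `2 ^ 11`, fusion in it, and the classes inside `O₂(C(z))`
-/

set_option autoImplicit false

open Cfsg Subgroup

namespace Cfsg.Agent.J4Type.V11

open LargeExtra (oc oc_le oc_conj_mem)
open Rep Orbits

variable {G : Type*} [Group G] [Finite G] {z : G} {P : Subgroup G} {V : Type*} [AddCommGroup V]
  {π : ↥(oc z) →* Multiplicative V} {ρ : ↥(mSub z P) →* Equiv.Perm V} {q : V → ZMod 2} {B : List V}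

theorem xor_high {a b : ℕ} : (a ^^^ b) / 128 = a / 128 ^^^ b / 128 := Nat.xor_div_two_pow (n := 7)

theorem xor_low {a b : ℕ} : (a ^^^ b) % 128 = a % 128 ^^^ b % 128 := Nat.xor_mod_two_pow (n := 7)

theorem xor_lt_2048 {a b : ℕ} (ha : a < 2048) (hb : b < 2048) : a ^^^ b < 2048 :=
  Nat.xor_lt_two_pow (n := 11) ha hb

theorem zbit_lt (b : Bool) : zbit b < 128 := by cases b <;> decide

theorem eShift_lt (v m w : ℕ) : eShift v m w < 128 :=
  Nat.xor_lt_two_pow (n := 7) (lt_trans (wc_lt _) (by norm_num)) (zbit_lt _)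

theorem eAct_lt {v x : ℕ} (hx : x < 2048) : eAct v x < 2048 :=
  xor_lt_2048 hx (lt_trans (eShift_lt _ _ _) (by norm_num))

theorem isConj_conj_iff {H : Type*} [Group H] (a n x : H) : IsConj a (n * x * n⁻¹) ↔ IsConj a x :=
  ⟨fun h => h.trans (isConj_iff.2 ⟨n, rfl⟩).symm, fun h => h.trans (isConj_iff.2 ⟨n, rfl⟩)⟩

namespace Frame

variable {S : Sys z P π ρ q B} (F : Frame S)

/-- The normaliser of the group. -/
def nrm (F : Frame S) : Subgroup G := normalizer (F.grp : Set G)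

theorem mem_nrm_of {n : G} (h : ∀ a ∈ F.grp, n * a * n⁻¹ ∈ F.grp) : n ∈ F.nrm :=
  mem_normalizer_fintype (S := (F.grp : Set G)) h

theorem conj_mem {n a : G} (hn : n ∈ F.nrm) (ha : a ∈ F.grp) : n * a * n⁻¹ ∈ F.grp :=
  (mem_normalizer_iff.1 hn a).1 ha

theorem exists_img {n : G} (hn : n ∈ F.nrm) {x : ℕ} (hx : x < 2048) :
    ∃ y < 2048, F.phi y = n * F.phi x * n⁻¹ := F.conj_mem hn (F.phi_mem hx)

theorem oc_nrm {e : G} (he : e ∈ oc z) : e ∈ F.nrm := by
  refine F.mem_nrm_of fun a ha => ?_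
  obtain ⟨x, hx, rfl⟩ := ha
  obtain ⟨r, hr, hv⟩ := S.M.code_cases (vec π e)
  rw [F.conj_phi he hr hv.symm hx]
  exact F.phi_mem (eAct_lt hx)

theorem inv_conj {n : G} {x y : ℕ} (h : F.phi y = n * F.phi x * n⁻¹) :
    F.phi x = n⁻¹ * F.phi y * n⁻¹⁻¹ := by rw [h]; group

/-- Conjugacy under the normaliser, on codes. -/
def Rel (F : Frame S) (a b : ℕ) : Prop := ∃ n ∈ F.nrm, F.phi b = n * F.phi a * n⁻¹

theorem Rel.refl (a : ℕ) : F.Rel a a := ⟨1, one_mem _, by group⟩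

theorem Rel.symm {a b : ℕ} : F.Rel a b → F.Rel b a := fun ⟨n, hn, h⟩ => ⟨n⁻¹, inv_mem hn, F.inv_conj h⟩

theorem Rel.trans {a b c : ℕ} : F.Rel a b → F.Rel b c → F.Rel a c :=
  fun ⟨n, hn, h⟩ ⟨m, hm, h'⟩ => ⟨m * n, mul_mem hm hn, by rw [h', h]; group⟩

theorem rel_oc {x v : ℕ} (hx : x < 2048) (hv : v < 4096) : F.Rel x (eAct v x) := by
  obtain ⟨e, he, hev⟩ := S.exists_code v
  exact ⟨e, F.oc_nrm he, (F.conj_phi he hv hev hx).symm⟩

/-- The second kind of elements of the group. -/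
def sec (F : Frame S) (x : ℕ) : Prop := x ≠ 0 ∧ ¬ IsConj z (F.phi x)

theorem img_ne_zero {n : G} {x y : ℕ} (hx : x < 2048) (h : F.phi y = n * F.phi x * n⁻¹) (h0 : x ≠ 0) :
    y ≠ 0 := fun e => h0 (F.phi_eq_one hx (by
  rw [e, F.phi_zero] at h
  calc F.phi x = n⁻¹ * (n * F.phi x * n⁻¹) * n := by group
    _ = 1 := by rw [← h]; group))

theorem sec_img {n : G} {x y : ℕ} (hx : x < 2048) (h : F.phi y = n * F.phi x * n⁻¹) (hs : F.sec x) :
    F.sec y := ⟨F.img_ne_zero hx h hs.1, by rw [h, isConj_conj_iff]; exact hs.2⟩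

theorem img_xor {n : G} {a b a' b' : ℕ} (ha : F.phi a' = n * F.phi a * n⁻¹)
    (hb : F.phi b' = n * F.phi b * n⁻¹) : F.phi (a' ^^^ b') = n * F.phi (a ^^^ b) * n⁻¹ := by
  rw [F.phi_xor, F.phi_xor, ha, hb]; group

/-- **Fusion inside the group is done by the normaliser.** -/
theorem fusion {x y : G} (hx : x ∈ F.grp) (hy : y ∈ F.grp) (h : IsConj x y) :
    ∃ n ∈ F.nrm, n * x * n⁻¹ = y := by
  have := Fact.mk Nat.prime_two
  obtain ⟨g, rfl⟩ := isConj_iff.1 h
  set c : G ≃* G := MulAut.conj g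
  set Y := F.grp.map c.toMonoidHom with hY
  set C := centralizer ({g * x * g⁻¹} : Set G)
  have hA : F.grp ≤ C := fun a ha => mem_centralizer_singleton_iff.2 (F.grp_comm ha hy).eq
  have hB : Y ≤ C := by
    rintro _ ⟨a, ha, rfl⟩
    refine mem_centralizer_singleton_iff.2 ?_
    show g * a * g⁻¹ * (g * x * g⁻¹) = g * x * g⁻¹ * (g * a * g⁻¹)
    calc g * a * g⁻¹ * (g * x * g⁻¹) = g * (a * x) * g⁻¹ := by group
      _ = g * (x * a) * g⁻¹ := by rw [(F.grp_comm ha hx).eq]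
      _ = _ := by group
  have hYc : Nat.card Y = 2 ^ 11 := by rw [hY, card_map_of_injective c.injective, F.card_grp]
  obtain ⟨S₁, h₁⟩ := ((IsPGroup.of_card F.card_grp).comap_subtype (K := C)).exists_le_sylow
  obtain ⟨S₂, h₂⟩ := ((IsPGroup.of_card hYc).comap_subtype (K := C)).exists_le_sylow
  obtain ⟨d, hd⟩ := MulAction.exists_smul_eq ↥C S₂ S₁
  obtain ⟨T, hT⟩ := (S₁.2.map C.subtype).exists_le_sylow
  set c' : G ≃* G := MulAut.conj ((d : G) * g)
  have e : F.grp.map c'.toMonoidHom = F.grp := by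
    refine (S.unique T).unique ⟨?_, ?_, ?_⟩ ⟨?_, F.isElementary, F.card_grp⟩
    · rintro _ ⟨a, ha, rfl⟩
      have ha' : g * a * g⁻¹ ∈ Y := ⟨a, ha, rfl⟩
      have hm : d * ⟨_, hB ha'⟩ * d⁻¹ ∈ (S₁ : Subgroup ↥C) := by
        rw [← hd, Sylow.coe_subgroup_smul]
        exact Subgroup.smul_mem_pointwise_smul _ (MulAut.conj d) _ (h₂ ha')
      refine hT ⟨_, hm, ?_⟩
      show (d : G) * (g * a * g⁻¹) * (d : G)⁻¹ = (d : G) * g * a * ((d : G) * g)⁻¹
      group
    · exact elem_map c' F.isElementary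
    · rw [card_map_of_injective c'.injective, F.card_grp]
    · exact fun a ha => hT ⟨⟨a, hA ha⟩, h₁ (show (⟨a, hA ha⟩ : C) ∈ F.grp.comap C.subtype from ha), rfl⟩
  refine ⟨(d : G) * g, F.mem_nrm_of fun a ha => e.le ⟨a, ha, rfl⟩, ?_⟩
  calc (d : G) * g * x * ((d : G) * g)⁻¹ = (d : G) * (g * x * g⁻¹) * (d : G)⁻¹ := by group
    _ = g * x * g⁻¹ := by rw [mem_centralizer_singleton_iff.1 d.2]; group

/-- Both elements over a non-zero vector of the fixed space are conjugate under the normaliser. -/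
theorem rel_flip {k : ℕ} (hk : k < 128) (h0 : k % 64 ≠ 0) : F.Rel k (k ^^^ 64) := by
  have h := all_range w_pair (Nat.mod_lt k (by norm_num : 64 > 0))
  rw [Bool.or_eq_true, List.any_eq_true] at h
  obtain ⟨i, hi, hbv⟩ := h.resolve_left fun e => h0 (beq_nat e)
  have hlt : 2 ^ i < 4096 :=
    lt_of_lt_of_le (Nat.pow_lt_pow_right (by norm_num) (List.mem_range.1 hi)) (le_refl (2 ^ 12))
  obtain ⟨e, he, hev⟩ := S.exists_code (2 ^ i)
  refine ⟨e, F.oc_nrm he, ?_⟩
  rw [F.phi_xor, F.phi_z, S.conj_code he (F.phi_oc hk) hlt (wv_lt _) hev (F.vec_phi hk), hbv]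
  rfl

theorem oc_code {e : G} (he : e ∈ oc z) {k : ℕ} (hk : k < 64) (hv : vec π e = Rep.lin B (wv k)) :
    F.phi k = e ∨ F.phi (k ^^^ 64) = e := by
  have hv' := F.vec_phi (k := k) (by omega)
  rw [Nat.mod_eq_of_lt hk] at hv'
  rcases S.D.vec_eq he (F.phi_oc (by omega)) (hv.trans hv'.symm) with h | h
  · exact Or.inl h.symm
  · right; rw [F.phi_xor, F.phi_z, ← h]

/-- **The classes inside the 2-core.** -/
theorem conj_low {x : ℕ} (hx : x < 128) (h0 : x ≠ 0) : IsConj z (F.phi x) ↔ bit T36M x = false := by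
  have ht := all_range t36_spec hx
  simp only [Bool.and_eq_true, Bool.or_eq_true, beq_iff_eq, Bool.not_eq_true'] at ht
  obtain ⟨⟨⟨-, -⟩, hshort⟩, hlong⟩ := ht
  by_cases h64 : x % 64 = 0
  · obtain rfl : x = 64 := by omega
    rw [F.phi_z]
    exact ⟨fun _ => by decide +kernel, fun _ => IsConj.refl z⟩
  have hw : wv (x % 64) < 4096 := wv_lt _
  obtain ⟨f₀, L⟩ := S.L
  constructor
  · intro hc
    by_contra hT
    rw [Bool.not_eq_false] at hT
    have hns : bit Short.orbBits (wv (x % 64)) = false := hlong.resolve_left (by rw [hT]; decide)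
    obtain ⟨g, hg⟩ := isConj_iff.1 hc
    have hconf : Conf z (F.phi x) := ⟨F.phi_oc hx, fun e => h64 (by
      have := F.phi_inj (x := x) (y := 64) (by omega) (by norm_num) (e.trans F.phi_z.symm)
      omega), g, hg⟩
    obtain ⟨γ, hγ, hγv, -⟩ := L.stab _ (hconf.vec_ne S.D) (hconf.vec_sing S.D) (xImage S.D (F.phi x))
      (hconf.image_le S.D) (hconf.image_fix S.D) (hconf.image_normal S.D) (hconf.image_sq S.D)
      (hconf.image_big S.D)
    obtain ⟨s, hs, hsb, e⟩ := short.invariant S.M (inv_mem hγ) short.v₀_lt short.base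
    rw [← hγv, ← Equiv.Perm.mul_apply, inv_mul_cancel, Equiv.Perm.one_apply, F.vec_phi hx] at e
    rw [S.lin_lt_inj hw hs e, hsb] at hns
    exact Bool.noConfusion hns
  · intro hT
    rcases hshort with (h | h) | h
    · rw [hT] at h; exact Bool.noConfusion h
    · exact absurd (beq_nat h) h64
    obtain ⟨u, N⟩ := S.nconf
    obtain ⟨γ, hγ, hγv⟩ := short.reach S.M h
    obtain ⟨n, hn, rfl⟩ := S.lift_zero hγ
    have hz : IsConj z (n * u * n⁻¹) := by
      obtain ⟨g, hg⟩ := N.conf.conj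
      rw [isConj_conj_iff]
      exact isConj_iff.2 ⟨g, hg⟩
    have hv : vec π (n * u * n⁻¹) = Rep.lin B (wv (x % 64)) := by
      rw [S.D.vec_conj (cSub_le_mSub z P hn) N.conf.mem, N.vec_u, hγv]
    rcases F.oc_code (oc_conj_mem hn.1 N.conf.mem) (Nat.mod_lt _ (by norm_num)) hv with e | e <;>
      rw [← e] at hz
    all_goals
      obtain ⟨n', -, he⟩ := F.rel_flip (k := x % 64) (by omega) (by rwa [Nat.mod_mod])
      have key : IsConj z (F.phi (x % 64 ^^^ 64)) ↔ IsConj z (F.phi (x % 64)) := by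
        rw [he, isConj_conj_iff]
      have hz' : IsConj z (F.phi (x % 64)) ∧ IsConj z (F.phi (x % 64 ^^^ 64)) := by tauto
      rcases (show x / 64 = 0 ∨ x / 64 = 1 by omega) with h' | h'
      · rw [show x = x % 64 by omega]; exact hz'.1
      · rw [show x = x % 64 ^^^ 64 by
          conv_lhs => rw [split_code x (by omega), h', show x / 128 = 0 by omega]
          simp]
        exact hz'.2

/-- The normaliser element maps one coset of the part in the 2-core into another. -/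
def Moves (F : Frame S) (n : G) (m m' : ℕ) : Prop :=
  n ∈ centralizer ({z} : Set G) ∧ n ∈ F.nrm ∧
    lin ρ n * lin ρ (F.phi (128 * m)) = lin ρ (F.phi (128 * m')) * lin ρ n

theorem Moves.inv {n : G} {m m' : ℕ} (h : F.Moves n m m') : F.Moves n⁻¹ m' m := by
  refine ⟨inv_mem h.1, inv_mem h.2.1, ?_⟩
  rw [S.D.lin_inv h.1, inv_mul_eq_iff_eq_mul, ← mul_assoc, h.2.2, mul_inv_cancel_right]

theorem lin_high {m : ℕ} (hm : m < 16) : Orbits.PActs B (lin ρ (F.phi (128 * m))) (ql m) := by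
  have := F.lin_phi (x := 128 * m) (by omega)
  rwa [Nat.mul_div_cancel_left _ (by norm_num : (0 : ℕ) < 128)] at this

theorem img_coset {n : G} {m m' x y : ℕ} (h : F.Moves n m m') (hm' : m' < 16) (hx : x < 2048)
    (hxm : x / 128 = m) (hy : y < 2048) (e : F.phi y = n * F.phi x * n⁻¹) : y / 128 = m' := by
  have hm : m < 16 := by omega
  have hl : lin ρ (F.phi x) = lin ρ (F.phi (128 * m)) :=
    S.M.acts_eq (hxm ▸ F.lin_phi hx) (F.lin_high hm)
  have h1 : lin ρ (F.phi y) = lin ρ (F.phi (128 * m')) := by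
    rw [e, (S.D.lin_mul (mul_mem h.1 (F.phi_mem_H x)) (inv_mem h.1)).1,
      (S.D.lin_mul h.1 (F.phi_mem_H x)).1, S.D.lin_inv h.1, hl, h.2.2, mul_inv_cancel_right]
  exact ql_inj (by omega) hm' (S.M.code_unique (h1 ▸ F.lin_phi hy) (F.lin_high hm')
    (Sys.ql_good S _) (Sys.ql_good S _))

/-- An element of `H` respecting the part in the 2-core normalises the group. -/
theorem nrm_of_low {n : G} (hn : n ∈ centralizer ({z} : Set G))
    (h : ∀ k < 128, ∃ j < 128, F.phi j = n * F.phi k * n⁻¹) : n ∈ F.nrm := by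
  choose! σ hσ hσe using h
  have hinj : Function.Injective fun k : Fin 128 => (⟨σ k, hσ k k.2⟩ : Fin 128) := fun a b e => by
    have h1 := hσe a a.2
    rw [show σ a = σ b from congrArg Fin.val e, hσe b b.2] at h1
    exact Fin.ext (F.phi_inj (by omega) (by omega) (mul_left_cancel (mul_right_cancel h1)).symm)
  refine F.mem_nrm_of fun a ha => ?_
  obtain ⟨x, hx, rfl⟩ := ha
  refine F.mem_grp_of_comm (mul_mem (mul_mem hn (F.phi_mem_H x)) (inv_mem hn)) fun k hk => ?_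
  obtain ⟨j, hj⟩ := (Finite.injective_iff_surjective.1 hinj) ⟨k, by omega⟩
  have e : F.phi k = n * F.phi j * n⁻¹ := by rw [← hσe j j.2, show σ j = k from congrArg Fin.val hj]
  show n * F.phi x * n⁻¹ * F.phi k = F.phi k * (n * F.phi x * n⁻¹)
  rw [e]
  calc n * F.phi x * n⁻¹ * (n * F.phi j * n⁻¹) = n * (F.phi x * F.phi j) * n⁻¹ := by group
    _ = n * (F.phi j * F.phi x) * n⁻¹ := by rw [(F.phi_comm x j).eq]
    _ = _ := by group

theorem pow_two_lt_64 {i : ℕ} (hi : i < 6) : 2 ^ i < 64 :=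
  lt_of_lt_of_le (Nat.pow_lt_pow_right (by norm_num) hi) (le_refl (2 ^ 6))

/-- The lifts of the elements fixing the fixed space. -/
theorem exists_gen {k : ℕ} (hk : k < gCode.length) : ∃ n : G,
    (∀ v < 64, ∃ w < 64, wv w = app (gCode.getD k []) (wv v) ∧
      vec π (n * F.phi v * n⁻¹) = Rep.lin B (wv w) ∧ n * F.phi v * n⁻¹ ∈ oc z) ∧
    ∀ m < 16, F.Moves n m ((gPerm.getD k []).getD m 16) ∧ (gPerm.getD k []).getD m 16 < 16 := by
  have h := gen_stab
  simp only [Bool.and_eq_true] at h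
  have hlen := beq_nat h.1
  have h' := all_range h.2 (hlen ▸ hk)
  simp only [Bool.and_eq_true, eqM_iff] at h'
  obtain ⟨⟨⟨⟨⟨hgood, ha⟩, hb⟩, e⟩, hW⟩, hP⟩ := h'
  have ha := blt_nat ha
  have hb := blt_nat hb
  rw [List.getD_eq_getElem _ _ ha, List.getD_eq_getElem _ _ hb] at e
  obtain ⟨γ, hγ, hγM, -⟩ := short.exists_of_mem S.M
    (Orbits.mem_prodList.2 ⟨_, List.getElem_mem ha, _, List.getElem_mem hb, rfl⟩)
  obtain ⟨n₁, hn₁, hn₁w⟩ := S.lift_word (gIdx.getD k ([], 0, 0)).1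
  obtain ⟨n₂, hn₂, rfl⟩ := S.lift_zero hγ
  have hnC : n₁ * n₂ ∈ cSub z P := mul_mem hn₁ hn₂
  have hnM := cSub_le_mSub z P hnC
  have hact : Orbits.PActs B (act ρ (n₁ * n₂)) (gCode.getD k []) := by
    rw [act_mul (cSub_le_mSub z P hn₁) (cSub_le_mSub z P hn₂), ← e]
    exact hn₁w.mul hγM
  set n := n₁ * n₂
  set M := gCode.getD k []
  have hWall : ∀ v < 64, wv (wc (app M (wv v))) = app M (wv v) := by
    refine bitInd 6 (P := fun v => wv (wc (app M (wv v))) = app M (wv v)) ?_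
      (fun a b _ _ h1 h2 => ?_) (fun i hi => inW_iff.1 (all_range hW hi))
    · simp only [wv_zero, Rep.app_zero, wc, wv]
    · simp only [wv_xor, app_xor, wc_xor, h1, h2]
  have hlow : ∀ v < 128, vec π (n * F.phi v * n⁻¹) = Rep.lin B (app M (wv (v % 64))) ∧
      n * F.phi v * n⁻¹ ∈ oc z := fun v hv =>
    ⟨S.vec_conj_code hnM hact (F.phi_oc hv) (F.vec_phi hv), oc_conj_mem hnC.1 (F.phi_oc hv)⟩
  have hnrm : n ∈ F.nrm := F.nrm_of_low hnC.1 fun v hv => by
    obtain ⟨hvv, hmem⟩ := hlow v hv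
    rw [← hWall (v % 64) (Nat.mod_lt _ (by norm_num))] at hvv
    have hlt := wc_lt (app M (wv (v % 64)))
    rcases F.oc_code hmem hlt hvv with h | h
    · exact ⟨_, by omega, h⟩
    · exact ⟨_, Nat.xor_lt_two_pow (n := 7) (by omega) (by norm_num), h⟩
  refine ⟨n, fun v hv => ⟨_, wc_lt _, hWall v hv, ?_, (hlow v (by omega)).2⟩, fun m hm => ?_⟩
  · rw [(hlow v (by omega)).1, Nat.mod_eq_of_lt hv, hWall v hv]
  have hp := all_range hP hm
  simp only [Bool.and_eq_true, eqM_iff] at hp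
  have hp1 := blt_nat hp.1
  refine ⟨⟨hnC.1, hnrm, ?_⟩, hp1⟩
  have h2 := (F.lin_high hp1).mul hact
  rw [← hp.2] at h2
  rw [(S.D.lin_mSub hnM).1]
  exact S.M.acts_eq (hact.mul (F.lin_high hm)) h2

end Frame

end Cfsg.Agent.J4Type.V11
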