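import Cfsg.Agent.J4Type.V11.Orbit

/-!
# The stabiliser of the fixed space in `C(z)`
-/

set_option autoImplicit false

open Cfsg Subgroup

namespace Cfsg.Agent.J4Type.V11

open LargeExtra (oc oc_le oc_conj_mem)
open Rep Orbits
open scoped Pointwise

variable {G : Type*} [Group G] [Finite G] {z : G} {P : Subgroup G} {V : Type*} [AddCommGroup V]
  {π : ↥(oc z) →* Multiplicative V} {ρ : ↥(mSub z P) →* Equiv.Perm V} {q : V → ZMod 2} {B : List V}

/-- The fixed space as a set of vectors. -/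
def wSet (B : List V) : Set V := {v | ∃ k < 64, Rep.lin B (wv k) = v}

/-- An image of the fixed space. -/
def hSet (B : List V) (i : ℕ) : Set V := {v | ∃ k < 64, Rep.lin B (app (HB.getD i []) k) = v}

/-- The maps preserving the fixed space. -/
def wStab (B : List V) (Γ : Subgroup (Equiv.Perm V)) : Subgroup (Equiv.Perm V) :=
  Γ ⊓ MulAction.stabilizer (Equiv.Perm V) (wSet B)

namespace Sys

variable (S : Sys z P π ρ q B)
include S

theorem wSet_card : (wSet B).ncard = 64 := by
  have h : wSet B = (fun k => Rep.lin B (wv k)) '' ↑(Finset.range 64) := by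
    ext v; simp [wSet]
  rw [h, Set.InjOn.ncard_image, Set.ncard_coe_finset, Finset.card_range]
  intro a ha b hb e
  simp only [Finset.mem_coe, Finset.mem_range] at ha hb
  rw [← wc_wv' ha, ← wc_wv' hb, S.lin_lt_inj (wv_lt _) (wv_lt _) e]

theorem hex_step {i g : ℕ} (hi : i < 77) (hg : g < 4) : (HI.getD i []).getD g 77 < 77 ∧ ∀ k < 64,
    ∃ l < 64, app (HB.getD ((HI.getD i []).getD g 77) []) l =
      app ([Xm, Ym, F0, Sg].getD g []) (app (HB.getD i []) k) := by
  have h := all_range hex_images hi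
  simp only [Bool.and_eq_true] at h
  obtain ⟨⟨⟨hlen, -⟩, hinv⟩, hstep⟩ := h
  have hlen := beq_nat hlen
  have hs := all_range hstep hg
  rw [Bool.and_eq_true] at hs
  refine ⟨blt_nat hs.1, ?_⟩
  set j := (HI.getD i []).getD g 77
  set M := [Xm, Ym, F0, Sg].getD g []
  refine fun k hk => ⟨app (HC.getD j []) (app M (app (HB.getD i []) k)), ?_, ?_⟩
  · refine app_lt (n := 6) ?_ _
    have hl : HC.all (fun l => l.all fun a => Nat.blt a 64) = true := by decide +kernel
    intro a ha
    rcases Nat.lt_or_ge j HC.length with h | h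
    · rw [List.getD_eq_getElem _ _ h] at ha
      exact blt_nat (List.all_eq_true.1 (List.all_eq_true.1 hl _ (List.getElem_mem h)) a ha)
    · rw [List.getD_eq_default _ _ h] at ha
      exact absurd ha (List.not_mem_nil)
  refine bitInd 6 (P := fun k => app (HB.getD j []) (app (HC.getD j []) (app M (app (HB.getD i []) k))) =
    app M (app (HB.getD i []) k)) ?_ (fun a b _ _ h1 h2 => ?_) (fun t ht => ?_) k hk
  · simp only [Rep.app_zero]
  · simp only [app_xor, h1, h2]
  · rw [app_two_pow _ t (by omega)]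
    exact beq_nat (List.all_eq_true.1 hs.2 _ (List.getElem_mem _))

theorem exists_hex {γ : Equiv.Perm V} (hγ : γ ∈ ρ.range) : ∃ i < 77, γ '' wSet B ⊆ hSet B i := by
  have hγ' : γ ∈ Submonoid.closure {γ | ∃ M ∈ allGens, PActs B γ M} := by
    rw [S.M.gen] at hγ
    exact S.M.mem_closure_gens hγ
  clear hγ
  induction hγ' using Submonoid.closure_induction_left with
  | one =>
    refine ⟨0, by norm_num, fun v hv => ?_⟩
    obtain ⟨w, ⟨k, hk, rfl⟩, rfl⟩ := hv
    have h := shape_ok
    simp only [Bool.and_eq_true, eqM_iff] at h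
    exact ⟨k, hk, by rw [h.1.1.2]; rfl⟩
  | mul_left x hx y _ ih =>
    obtain ⟨M, hM, hx⟩ := hx
    obtain ⟨i, hi, hy⟩ := ih
    obtain ⟨g, hg, rfl⟩ := List.getElem_of_mem hM
    have hg4 : g < 4 := hg
    obtain ⟨hj, hstep⟩ := S.hex_step hi hg4
    refine ⟨_, hj, ?_⟩
    rintro _ ⟨v, hv, rfl⟩
    obtain ⟨k, hk, e⟩ := hy ⟨v, hv, rfl⟩
    obtain ⟨l, hl, el⟩ := hstep k hk
    refine ⟨l, hl, ?_⟩
    rw [el, Equiv.Perm.mul_apply, ← e, hx, ← List.getD_eq_getElem _ [] hg]
    rfl

theorem hex_eq {γ : Equiv.Perm V} (hγ : γ ∈ ρ.range) : ∃ i < 77, γ '' wSet B = hSet B i := by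
  have := S.M.fin
  obtain ⟨i, hi, hsub⟩ := S.exists_hex hγ
  refine ⟨i, hi, Set.eq_of_subset_of_ncard_le hsub ?_ (Set.toFinite _)⟩
  rw [Set.ncard_image_of_injective _ (Equiv.injective _), S.wSet_card]
  have h : hSet B i = (fun k => Rep.lin B (app (HB.getD i []) k)) '' ↑(Finset.range 64) := by
    ext v; simp [hSet]
  rw [h]
  exact (Set.ncard_image_le (Finset.finite_toSet _)).trans (by simp)

theorem card_wStab : 34560 ≤ Nat.card ↥(wStab B ρ.range) := by
  classical
  have := S.M.fin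
  choose f hf hfull using fun γ : ↥ρ.range => S.hex_eq γ.2
  set K := (wStab B ρ.range).subgroupOf ρ.range
  have hidx : K.index ≤ 77 := by
    rw [index, ← Nat.card_fin 77]
    refine Nat.card_le_card_of_injective (fun c => (⟨f c.out, hf _⟩ : Fin 77)) fun a b e => ?_
    have e : f a.out = f b.out := congrArg Fin.val e
    rw [← QuotientGroup.out_eq' a, ← QuotientGroup.out_eq' b]
    refine QuotientGroup.eq.2 ?_
    refine ⟨(a.out⁻¹ * b.out).2, ?_⟩
    show (_ : Equiv.Perm V) ∈ MulAction.stabilizer (Equiv.Perm V) (wSet B)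
    rw [MulAction.mem_stabilizer_iff]
    show ((a.out : Equiv.Perm V)⁻¹ * (b.out : Equiv.Perm V)) • wSet B = wSet B
    rw [mul_smul, inv_smul_eq_iff]
    show (b.out : Equiv.Perm V) '' wSet B = (a.out : Equiv.Perm V) '' wSet B
    rw [hfull, hfull, e]
  have h := K.card_mul_index
  rw [S.card_range, Nat.card_congr (subgroupOfEquivOfLe (show wStab B ρ.range ≤ ρ.range from inf_le_left)).toEquiv] at h
  have : Nat.card ↥(wStab B ρ.range) * K.index ≤ Nat.card ↥(wStab B ρ.range) * 77 := Nat.mul_le_mul_left _ hidx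
  omega

end Sys

namespace Frame

variable {S : Sys z P π ρ q B} (F : Frame S)

theorem stab_le : ((wStab B ρ.range).comap (ActData.linHom S.D)).map (centralizer ({z} : Set G)).subtype ≤
    F.nrm ⊓ centralizer ({z} : Set G) := by
  rintro _ ⟨⟨h, hh⟩, hl, rfl⟩
  refine ⟨F.nrm_of_low hh fun k hk => ?_, hh⟩
  have hK : lin ρ h • wSet B = wSet B := (Subgroup.mem_inf.1 hl).2
  obtain ⟨j, hj, e⟩ : lin ρ h (Rep.lin B (wv (k % 64))) ∈ wSet B := by
    rw [← hK]
    exact ⟨_, ⟨k % 64, Nat.mod_lt _ (by norm_num), rfl⟩, rfl⟩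
  rcases F.oc_code (oc_conj_mem hh (F.phi_oc hk)) hj
    ((S.D.vec_conj_lin hh (F.phi_oc hk)).trans (by rw [F.vec_phi hk]; exact e.symm)) with e' | e'
  · exact ⟨j, by omega, e'⟩
  · exact ⟨_, Nat.xor_lt_two_pow (n := 7) (by omega) (by norm_num), e'⟩

theorem card_nrm_z : 2 ^ 13 * 34560 ≤ Nat.card ↥(F.nrm ⊓ centralizer ({z} : Set G)) := by
  refine le_trans ?_ (card_le_of_le F.stab_le)
  rw [S.card_comap (show wStab B ρ.range ≤ ρ.range from inf_le_left)]
  exact Nat.mul_le_mul_left _ S.card_wStab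

end Frame

end Cfsg.Agent.J4Type.V11
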