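import Cfsg.Agent.J4Type.V11.Complement

/-!
# Involutions of the normaliser and the 2-cores of the conjugates of `z` inside the group
-/

set_option autoImplicit false

open Cfsg Subgroup

namespace Cfsg.Agent.J4Type.V11

open LargeExtra (oc oc_le oc_conj_mem conj_mem_oc)
open LargeFischer (W11 pt pn IsDuad)
open Rep Orbits

variable {G : Type*} [Group G] [Finite G] {z : G} {P : Subgroup G} {V : Type*} [AddCommGroup V]
  {π : ↥(oc z) →* Multiplicative V} {ρ : ↥(mSub z P) →* Equiv.Perm V} {q : V → ZMod 2} {B : List V}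

namespace Sys

variable (S : Sys z P π ρ q B)
include S

/-- An orthogonal conjugate is moved by an element of `N_H(P)` to a normalised one. -/
theorem nconf_of {y : G} (hc : Conf z y) : ∃ n ∈ mSub z P,
    NConf S.D (Rep.lin B Short.v0) (qSub B) (n * y * n⁻¹) := by
  obtain ⟨f₀, L⟩ := S.L
  obtain ⟨γ, hγ, hγv, -⟩ := L.stab _ (hc.vec_ne S.D) (hc.vec_sing S.D) _ (hc.image_le S.D)
    (hc.image_fix S.D) (hc.image_normal S.D) (hc.image_sq S.D) (hc.image_big S.D)
  obtain ⟨n, hn, rfl⟩ := S.lift hγ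
  refine ⟨n, hn, ?_⟩
  obtain ⟨g, hg⟩ := hc.conj
  have hc' : Conf z (n * y * n⁻¹) := ⟨oc_conj_mem hn.1 hc.mem, fun h => hc.ne (by
    have := mul_inv_eq_iff_eq_mul.1 h
    rw [(S.D.comm_z hn.1).eq.symm] at this
    exact mul_left_cancel this), ⟨n * g, by rw [← hg]; group⟩⟩
  have hv : vec π (n * y * n⁻¹) = Rep.lin B Short.v0 := by rw [S.D.vec_conj hn hc.mem, hγv]
  refine ⟨hc', hv, ?_⟩
  obtain ⟨δ, hδ, hδv, hδa⟩ := L.stab _ (hc'.vec_ne S.D) (hc'.vec_sing S.D) _ (hc'.image_le S.D)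
    (hc'.image_fix S.D) (hc'.image_normal S.D) (hc'.image_sq S.D) (hc'.image_big S.D)
  have := S.M.fin
  refine eq_of_le_of_card_ge (fun a ha => ?_) (by rw [L.Q_card]; exact hc'.image_big S.D)
  have hinv : δ⁻¹ (vec π (n * y * n⁻¹)) = vec π (n * y * n⁻¹) := by
    conv_lhs => arg 2; rw [hv, ← hδv]
    rw [Equiv.Perm.inv_def, Equiv.symm_apply_apply]
  have h1 := hδa _ (hc'.image_normal S.D δ⁻¹ (inv_mem hδ) hinv a ha)
  rwa [inv_inv, show δ * (δ⁻¹ * a * δ) * δ⁻¹ = a by group] at h1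

theorem inH_of_mem {i r : ℕ} (hi : i < 77) (hr : r < 4096) (h : Rep.lin B r ∈ hSet B i) :
    inH i r = true := by
  obtain ⟨k, hk, e⟩ := h
  have h' := all_range hex_images hi
  simp only [Bool.and_eq_true] at h'
  obtain ⟨⟨⟨-, hb⟩, hinv⟩, -⟩ := h'
  rw [← S.lin_lt_inj (app_lt (n := 12) (fun a ha => blt_nat (List.all_eq_true.1 hb a ha)) k) hr e, inH,
    beq_nat (all_range hinv hk)]
  exact Nat.beq_refl _

theorem hSet_zero : hSet B 0 = wSet B := by
  have h := shape_ok
  simp only [Bool.and_eq_true, eqM_iff] at h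
  rw [hSet, h.1.1.2]
  rfl

end Sys

theorem hb_get {i : ℕ} (hi : i < 77) {b : ℕ} (hb : b ∈ HB.getD i []) :
    ∃ k < 64, app (HB.getD i []) k = b := by
  have h' := all_range hex_images hi
  simp only [Bool.and_eq_true] at h'
  have hl := beq_nat h'.1.1.1
  obtain ⟨t, ht, rfl⟩ := List.getElem_of_mem hb
  exact ⟨2 ^ t, lt_of_lt_of_le (Nat.pow_lt_pow_right (by norm_num) (show t < 6 by omega)) (le_refl (2 ^ 6)),
    app_two_pow _ t ht⟩

namespace Frame

variable {S : Sys z P π ρ q B} (F : Frame S)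

/-- **Elements centralising `z` and an element of the second kind normalise the group.** -/
theorem cent_z_le (hF : F.Good) {x : ℕ} (hx : x < 2048) (hs : F.sec x) {h : G}
    (hh : h ∈ centralizer ({z} : Set G)) (hc : Commute h (F.phi x)) : h ∈ F.nrm := by
  have hΓ := S.lin_range hh
  obtain ⟨i, hi, hfull⟩ := S.hex_eq hΓ
  by_cases hi0 : i = 0
  · subst hi0
    rw [S.hSet_zero] at hfull
    exact (F.stab_le ⟨⟨h, hh⟩, ⟨hΓ, hfull⟩, rfl⟩).1
  exfalso
  have himg : ∀ k < 64, lin ρ h (Rep.lin B (wv k)) ∈ hSet B i := fun k hk => by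
    rw [← hfull]; exact ⟨_, ⟨k, hk, rfl⟩, rfl⟩
  by_cases hlow : x < 128
  · have hT := (F.sec_low hlow).1 hs
    have hk : x % 64 < 64 := Nat.mod_lt _ (by norm_num)
    have hfix : lin ρ h (Rep.lin B (wv (x % 64))) = Rep.lin B (wv (x % 64)) := by
      rw [← F.vec_phi hlow, ← S.D.vec_conj_lin hh (F.phi_oc hlow), mul_inv_eq_iff_eq_mul.2 hc.eq]
    have hm := hfix ▸ himg _ hk
    have h36 := all_range t36_spec hlow
    simp only [Bool.and_eq_true, beq_iff_eq] at h36
    rw [← h36.1.1.2, List.any_eq_true] at hT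
    obtain ⟨y, hy, e⟩ := hT
    have := List.all_eq_true.1 ((Bool.or_eq_true_iff.1 (all_range hex_pair hi)).resolve_left
      fun e => hi0 (beq_nat e)) y hy
    rw [← beq_nat e, S.inH_of_mem hi (wv_lt _) hm] at this
    exact Bool.noConfusion this
  · have hm : x / 128 < 16 := by omega
    have hcomm : lin ρ h * lin ρ (F.phi x) = lin ρ (F.phi x) * lin ρ h := by
      rw [← (S.D.lin_mul hh (F.phi_mem_H x)).1, ← (S.D.lin_mul (F.phi_mem_H x) hh).1, hc.eq]
    have := (Bool.or_eq_true_iff.1 (all_range ((Bool.or_eq_true_iff.1 (all_range hex_fix hi)).resolve_left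
      fun e => hi0 (beq_nat e)) hm)).resolve_left fun e => by have := beq_nat e; omega
    rw [Bool.not_eq_true', ← Bool.not_eq_true, List.all_eq_true] at this
    apply this
    intro b hb
    obtain ⟨k, hk, rfl⟩ := hb_get hi hb
    obtain ⟨v, ⟨l, hl, rfl⟩, e⟩ : Rep.lin B (app (HB.getD i []) k) ∈ lin ρ h '' wSet B := by
      rw [hfull]; exact ⟨k, hk, rfl⟩
    have hlt : app (HB.getD i []) k < 4096 := by
      have h' := all_range hex_images hi
      simp only [Bool.and_eq_true] at h'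
      exact app_lt (n := 12) (fun a ha => blt_nat (List.all_eq_true.1 h'.1.1.2 a ha)) k
    rw [S.lin_lt_inj (app_lt_of_good (Sys.ql_good S _) _) hlt (show
      Rep.lin B (app (ql (x / 128)) (app (HB.getD i []) k)) = Rep.lin B (app (HB.getD i []) k) by
      rw [← F.lin_phi hx, ← e, ← Equiv.Perm.mul_apply, ← hcomm, Equiv.Perm.mul_apply, F.lin_phi hx,
        ql_fix' hm hl])]
    exact Nat.beq_refl _

/-- The same for any two elements of the two kinds. -/
theorem cent_le (hF : F.Good) {x y : ℕ} (hx : x < 2048) (hx0 : x ≠ 0) (hxs : ¬ F.sec x) (hy : y < 2048)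
    (hys : F.sec y) {h : G} (h1 : Commute h (F.phi x)) (h2 : Commute h (F.phi y)) : h ∈ F.nrm := by
  have hcz : IsConj z (F.phi x) := not_not.1 fun e => hxs ⟨hx0, e⟩
  obtain ⟨n, hn, e⟩ := F.fusion F.z_mem_grp (F.phi_mem hx) hcz
  obtain ⟨y', hy', ey⟩ := F.exists_img (inv_mem hn) hy
  have key : ∀ {a : G}, Commute h a → Commute (n⁻¹ * h * n) (n⁻¹ * a * n⁻¹⁻¹) := fun {a} ha => by
    show n⁻¹ * h * n * (n⁻¹ * a * n⁻¹⁻¹) = n⁻¹ * a * n⁻¹⁻¹ * (n⁻¹ * h * n)
    calc _ = n⁻¹ * (h * a) * n := by group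
      _ = n⁻¹ * (a * h) * n := by rw [ha.eq]
      _ = _ := by group
  have hz : Commute (n⁻¹ * h * n) z := by
    have := key h1
    rwa [← e, show n⁻¹ * (n * z * n⁻¹) * n⁻¹⁻¹ = z by group] at this
  have hm := F.cent_z_le hF hy' (F.sec_img hy ey hys) (mem_centralizer_singleton_iff.2 hz.eq) (ey ▸ key h2)
  have := mul_mem (mul_mem hn hm) (inv_mem hn)
  rwa [show n * (n⁻¹ * h * n) * n⁻¹ = h by group] at this

/-- An element of the group whose product with a conjugate of `z` in it is of the second kind lies, if it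
is of the second kind, in the 2-core of that conjugate. -/
theorem mem_oc_conj (hF : F.Good) {u t : ℕ} (hu : u < 2048) (hu0 : u ≠ 0) (hus : ¬ F.sec u)
    (ht : t < 2048) (hts : F.sec t) : F.phi t ∈ oc (F.phi u) ↔ F.sec (t ^^^ u) := by
  obtain ⟨n, hn, e⟩ := F.fusion F.z_mem_grp (F.phi_mem hu) (not_not.1 fun e => hus ⟨hu0, e⟩)
  obtain ⟨t', ht', et⟩ := F.exists_img (inv_mem hn) ht
  have hts' := F.sec_img ht et hts
  have hu' : F.phi 64 = n⁻¹ * F.phi u * n⁻¹⁻¹ := by rw [F.phi_z, ← e]; group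
  have hx := F.img_xor et hu'
  have key : F.phi t ∈ oc (F.phi u) ↔ t' < 128 := by
    rw [← F.phi_oc_iff ht', et]
    constructor
    · intro h
      have := conj_mem_oc (g := n⁻¹) h
      rwa [show n⁻¹ * F.phi u * n⁻¹⁻¹ = z by rw [← e]; group] at this
    · intro h
      have := conj_mem_oc (g := n) h
      rwa [e, show n * (n⁻¹ * F.phi t * n⁻¹⁻¹) * n⁻¹ = F.phi t by group] at this
  rw [key]
  constructor
  · intro hlt
    refine F.sec_img (n := n) (xor_lt_2048 ht' (by norm_num)) (y := t ^^^ u) (x := t' ^^^ 64) ?_ ?_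
    · rw [hx]; group
    · have h : ∀ x < 128, bit T36M x = bit T36M (x ^^^ 64) := by decide +kernel
      rw [F.sec_low (Nat.xor_lt_two_pow (n := 7) hlt (by norm_num)), ← h t' hlt]
      exact (F.sec_low hlt).1 hts'
  · intro hs
    have hs' := F.sec_img (xor_lt_2048 ht hu) hx hs
    rw [F.sec_iff hF ht'] at hts'
    rw [F.sec_iff hF (xor_lt_2048 ht' (by norm_num))] at hs'
    by_contra hge
    have := all_range high_ok ht'
    simp only [hts', show Nat.xor t' 64 = t' ^^^ 64 from rfl, hs', Bool.not_true, Bool.or_false] at this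
    exact hge (blt_nat this)

theorem theta_eVec (hF : F.Good) {j : ℕ} (hj : j < 2) : ∃ e : ↥F.nrm, (e : G) ∈ oc z ∧ (e : G) * e = 1 ∧
    vec π (e : G) = Rep.lin B (eVec.getD j 0) ∧
    ((F.theta hF e : ↥M24) : Equiv.Perm GolayPt) = Compute.rep24.den (ePerm.getD j 0) := by
  have h := all_range eperm_ok hj
  simp only [Bool.and_eq_true] at h
  obtain ⟨⟨⟨⟨⟨-, hok⟩, -⟩, hv⟩, hq⟩, hact⟩ := h
  have hv := blt_nat hv
  rw [Bool.not_eq_true'] at hq
  obtain ⟨e, he, hev⟩ := S.exists_code (eVec.getD j 0)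
  have hsq : e * e = 1 := by rw [S.sq_code he hv hev, hq]; rfl
  refine ⟨⟨e, F.oc_nrm he⟩, he, hsq, hev, LargeFischer.perm_unique fun i k => ?_⟩
  set p := ePerm.getD j 0
  have hOk := Compute.rep24.okb_sound _ hok
  set n : ↥F.nrm := ⟨e, F.oc_nrm he⟩
  have hl : ∀ u, LargeFischer.vp24 u < 2048 := fun u => LargeFischer.pn_e24 u ▸ LargeFischer.pn_lt _
  have step : ∀ a : Fin 24, F.tau n (pt (Compute.e24 a) + pt (Compute.e24 23)) =
      pt (Compute.rep24.den p (Compute.e24 a)) + pt (Compute.rep24.den p (Compute.e24 23)) := by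
    intro a
    set k := LargeFischer.vp24 a ^^^ LargeFischer.vp24 23
    have hk : k < 2048 := xor_lt_2048 (hl _) (hl _)
    obtain ⟨-, -, hli, -, hinv⟩ := duad_ok' hk
    have himg : F.phi (eAct (eVec.getD j 0) (app Li k)) = e * F.phi (app Li k) * e⁻¹ :=
      (F.conj_phi he hv hev hli).symm
    have hpt : ∀ b : Fin 24, pt (Compute.e24 b) = LargeFischer.bv (LargeFischer.vp24 b) := fun b => by
      rw [pt, LargeFischer.pn_e24]
    have hden : ∀ b : Fin 24, Compute.rep24.den p (Compute.e24 b) =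
        Compute.e24 (Fin.ofNat 24 (Compute.rep24.act p b)) := fun b => by
      have hlt := Compute.rep24.act_lt p _ hOk b.2
      rw [← Compute.rep24_pt b.2, ← Equiv.Perm.smul_def, Compute.rep24.act_spec p _ hOk b.2,
        Compute.rep24_pt hlt]
      exact congrArg Compute.e24 (Fin.ext (Nat.mod_eq_of_lt hlt).symm)
    have hc := beq_nat (all_range hact a.2)
    rw [show Fin.ofNat 24 a.val = a from Fin.ext (Nat.mod_eq_of_lt a.2), eQuot] at hc
    have e1 : pt (Compute.e24 a) + pt (Compute.e24 23) =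
        (F.vEquiv ⟨F.phi (app Li k), F.phi_mem hli⟩).toAdd := by
      rw [F.vEquiv_phi hli, hinv, hpt, hpt, ← LargeFischer.bv_xor]; rfl
    rw [e1, F.tau_apply, show F.nHom n ⟨F.phi (app Li k), F.phi_mem hli⟩ =
      ⟨F.phi (eAct (eVec.getD j 0) (app Li k)), F.phi_mem (eAct_lt hli)⟩ from Subtype.ext himg.symm,
      F.vEquiv_phi (eAct_lt hli), toAdd_ofAdd, hden, hden, hpt, hpt, ← LargeFischer.bv_xor]
    exact congrArg LargeFischer.bv hc
  rw [show F.theta hF n = F.perm hF n from rfl, ← F.perm_spec hF n]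
  obtain ⟨a, rfl⟩ := Compute.e24.surjective i
  obtain ⟨b, rfl⟩ := Compute.e24.surjective k
  have split : pt (Compute.e24 a) + pt (Compute.e24 b) =
      (pt (Compute.e24 a) + pt (Compute.e24 23)) + (pt (Compute.e24 b) + pt (Compute.e24 23)) := by
    rw [show ∀ p q r : W11, p + r + (q + r) = p + q + (r + r) from fun p q r => by abel,
      LargeFischer.self11, add_zero]
  rw [split, map_add, step, step, show ∀ p q r : W11, p + r + (q + r) = p + q + (r + r) from
    fun p q r => by abel, LargeFischer.self11, add_zero]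

/-- The 2-core of a conjugate in the group holds the vector with its certificate. -/
theorem cov_mem (hF : F.Good) {v a : ℕ} {e : G} (he : e ∈ oc z) (hev : vec π e = Rep.lin B v)
    {c : ℕ × ℕ × List ℕ} (hca : c.1 = a) (hc : covOK v c = true) :
    ∃ n ∈ F.nrm, n * (e * F.phi a) * n⁻¹ ∈ oc z := by
  simp only [covOK, Bool.and_eq_true, List.all_eq_true] at hc
  obtain ⟨⟨⟨hi, hts⟩, hfold⟩, hk⟩ := hc
  have hi := blt_nat hi
  rw [List.getD_eq_getElem _ _ hi] at hts hk
  have hu := List.all_eq_true.1 use_ok _ (List.getElem_mem hi)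
  set u := eUse[c.2.1].1
  set w := eUse[c.2.1].2
  simp only [Bool.and_eq_true, Bool.not_eq_true'] at hu
  obtain ⟨⟨⟨hu128, huT⟩, hu64⟩, hw⟩ := hu
  have hu128 := blt_nat hu128
  have hu0 : u % 64 ≠ 0 := fun h => by rw [h] at hu64; exact Bool.noConfusion hu64
  have hus : ¬ F.sec u := fun h => by
    rw [F.sec_iff hF (by omega), huT] at h; exact Bool.noConfusion h
  obtain ⟨k, hkm, hk⟩ := List.any_eq_true.1 hk
  obtain ⟨f₀, L⟩ := S.L
  obtain ⟨u₀, N⟩ := S.nconf
  obtain ⟨n, hn, hnw⟩ := S.lift_word w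
  have hnM := cSub_le_mSub z P hn
  -- a map carrying the base conjugate to the given one
  obtain ⟨g, hg, hgu, hgv⟩ : ∃ g ∈ centralizer ({z} : Set G), g * u₀ * g⁻¹ = F.phi u ∧
      ∀ f ∈ oc z, vec π (g * f * g⁻¹) = act ρ n (vec π f) := by
    have h64 : u % 64 < 64 := Nat.mod_lt _ (by norm_num)
    have hv : vec π (n * u₀ * n⁻¹) = Rep.lin B (wv (u % 64)) := by
      rw [S.D.vec_conj hnM N.conf.mem, N.vec_u, hnw, show Short.v0 = 7 from rfl, beq_nat hw]
    have hv' := F.vec_phi hu128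
    rcases S.D.vec_eq (oc_conj_mem hn.1 N.conf.mem) (F.phi_oc hu128) (hv.trans hv'.symm) with h | h
    · exact ⟨n, hn.1, h, fun f hf => S.D.vec_conj hnM hf⟩
    · obtain ⟨i, hi12, hbv⟩ := List.any_eq_true.1 ((Bool.or_eq_true_iff.1 (all_range w_pair h64)).resolve_left
        fun e => hu0 (beq_nat e))
      have hlt : 2 ^ i < 4096 :=
        lt_of_lt_of_le (Nat.pow_lt_pow_right (by norm_num) (List.mem_range.1 hi12)) (le_refl (2 ^ 12))
      obtain ⟨d, hd, hdv⟩ := S.exists_code (2 ^ i)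
      refine ⟨d * n, mul_mem (oc_le z hd) hn.1, ?_, fun f hf => ?_⟩
      · calc d * n * u₀ * (d * n)⁻¹ = d * (F.phi u * z) * d⁻¹ := by rw [← h]; group
          _ = d * F.phi u * d⁻¹ * (d * z * d⁻¹) := by group
          _ = F.phi u * zp z true * z := by
            rw [S.conj_code hd (F.phi_oc hu128) hlt (wv_lt _) hdv hv', hbv,
              mul_inv_eq_iff_eq_mul.2 (S.D.comm_z (oc_le z hd)).eq]
          _ = F.phi u := by rw [mul_assoc, show zp z true * z = 1 from S.D.zz, mul_one]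
      · rw [show d * n * f * (d * n)⁻¹ = d * (n * f * n⁻¹) * d⁻¹ by group,
          S.D.vec_conj_lin (oc_le z hd) (oc_conj_mem hn.1 hf), (S.D.lin_oc hd).1,
          S.D.vec_conj hnM hf]
        rfl
  have hz : z ∈ oc (F.phi u) := by
    have := conj_mem_oc (g := g) (N.conf.z_mem S.D)
    rwa [hgu, mul_inv_eq_iff_eq_mul.2 (S.D.comm_z hg).eq] at this
  have heu : e ∈ oc (F.phi u) := by
    obtain ⟨f, hf, hfv⟩ := S.exists_code k
    have hfu : f ∈ oc u₀ := ((N.mem_inter_iff L hf).2 (by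
      rw [S.M.kernelSet_qSub]; exact ⟨k, hkm, hfv.symm⟩)).2
    have hm : g * f * g⁻¹ ∈ oc (F.phi u) := hgu ▸ conj_mem_oc hfu
    rcases S.D.vec_eq he (oc_conj_mem hg hf) (by rw [hev, hgv f hf, hfv, hnw, beq_nat hk]) with h | h <;>
      rw [h]
    · exact hm
    · exact mul_mem hm hz
  have ha : F.phi a ∈ oc (F.phi u) := by
    rw [← hca, ← beq_nat hfold]
    have key : ∀ l : List ℕ, (∀ t ∈ l, (Nat.blt t 2048 = true ∧ tB 370 t = true) ∧
        tB 370 (Nat.xor t u) = true) → F.phi (l.foldr (fun a b => Nat.xor a b) 0) ∈ oc (F.phi u) := by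
      intro l
      induction l with
      | nil => intro _; rw [List.foldr_nil, F.phi_zero]; exact one_mem _
      | cons t l ih =>
        intro h
        obtain ⟨⟨h1, h2⟩, h3⟩ := h t List.mem_cons_self
        have h1 := blt_nat h1
        rw [List.foldr_cons]
        show F.phi (t ^^^ _) ∈ _
        rw [F.phi_xor]
        exact mul_mem ((F.mem_oc_conj hF (by omega) (fun e => hu0 (by omega)) hus h1
          ((F.sec_iff hF h1).2 h2)).2 ((F.sec_iff hF (xor_lt_2048 h1 (by omega))).2 h3))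
          (ih fun b hb => h b (List.mem_cons_of_mem t hb))
    exact key _ hts
  obtain ⟨m, hm, em⟩ := F.fusion (F.phi_mem (x := u) (by omega)) F.z_mem_grp
    (not_not.1 fun e => hus ⟨fun h => hu0 (by omega), fun h => e h⟩ : IsConj z (F.phi u)).symm
  refine ⟨m, hm, ?_⟩
  have h := conj_mem_oc (g := m) (mul_mem heu ha)
  rwa [em] at h

/-- **An involution of the normaliser outside the group is conjugate into `O₂(C(z))`.** -/
theorem conj_into (hF : F.Good) {x : G} (hx : x ∈ F.nrm) (hx2 : x * x = 1) (hxA : x ∉ F.grp) :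
    ∃ n ∈ F.nrm, n * x * n⁻¹ ∈ oc z := by
  set g : ↥M24 := F.theta hF ⟨x, hx⟩ with hg
  have hg1 : g ≠ 1 := fun h => hxA (by
    have := (F.theta_ker hF).le (MonoidHom.mem_ker.2 h)
    exact this)
  have hord : orderOf (g : Equiv.Perm GolayPt) = 2 := by
    refine orderOf_eq_prime ?_ fun h => hg1 (Subtype.ext h)
    rw [pow_two, ← Subgroup.coe_mul, hg, ← map_mul, show (⟨x, hx⟩ : ↥F.nrm) * ⟨x, hx⟩ = 1 from
      Subtype.ext hx2, map_one]
    rfl
  obtain ⟨j, hj, k, hk, hkg⟩ := Compute.exists_conj_involution g.2 hord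
  have h := all_range eperm_ok hj
  simp only [Bool.and_eq_true] at h
  obtain ⟨⟨⟨⟨⟨hcM, hpok⟩, hmul⟩, hv⟩, -⟩, -⟩ := h
  obtain ⟨hcok, hcmem⟩ := Compute.mem_M24_of_check hcM
  have hr := (List.all_eq_true.1 Compute.classReps_facts.1) (Compute.syl2Reps.getD j Compute.rep24.one) (by
    refine List.mem_append_left _ ?_
    rw [List.getD_eq_getElem _ _ (show j < Compute.syl2Reps.length from hj)]
    exact List.getElem_mem _)
  obtain ⟨hrok, -⟩ := Compute.mem_M24_of_check hr
  obtain ⟨e, he, he2, hev, hθe⟩ := F.theta_eVec hF hj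
  have hrep : Compute.syl2Reps.getD j Compute.rep24.one = Compute.syl2Reps.getD j 0 := by
    have hl : j < Compute.syl2Reps.length := hj
    rw [List.getD_eq_getElem _ _ hl, List.getD_eq_getElem _ _ hl]
  have hden := congrArg Compute.rep24.den (beq_nat hmul)
  rw [Compute.rep24.den_mul _ _ hcok (Compute.rep24.okb_sound _ hpok),
    Compute.rep24.den_mul _ _ (hrep ▸ hrok) hcok, ← hrep, ← hkg] at hden
  obtain ⟨m, hm⟩ := F.theta_surjective hF ((⟨_, hcmem⟩ : ↥M24)⁻¹ * ⟨k, hk⟩)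
  have hθ : F.theta hF (m * ⟨x, hx⟩ * m⁻¹) = F.theta hF e := by
    rw [map_mul, map_mul, map_inv, hm, ← hg]
    refine Subtype.ext ?_
    rw [hθe]
    show (Compute.rep24.den (eConj.getD j 0))⁻¹ * k * g * ((Compute.rep24.den (eConj.getD j 0))⁻¹ * k)⁻¹ = _
    rw [← mul_right_inj (Compute.rep24.den (eConj.getD j 0)), hden]
    group
  have hkerA : e⁻¹ * (m * ⟨x, hx⟩ * m⁻¹) ∈ F.grp.subgroupOf F.nrm := by
    rw [← F.theta_ker hF, MonoidHom.mem_ker, map_mul, map_inv, hθ, inv_mul_cancel]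
  obtain ⟨a, ha, ea⟩ := (mem_subgroupOf.1 hkerA : _ ∈ F.grp)
  have hxa : (m : G) * x * (m : G)⁻¹ = (e : G) * F.phi a := by
    rw [ea, Subgroup.coe_mul, Subgroup.coe_inv, mul_inv_cancel_left]
    rfl
  have hfix : (e : G) * F.phi a * (e : G)⁻¹ = F.phi a := by
    have h1 : (e : G) * F.phi a * ((e : G) * F.phi a) = 1 := by
      rw [← hxa, show (m : G) * x * (m : G)⁻¹ * ((m : G) * x * (m : G)⁻¹) = (m : G) * (x * x) * (m : G)⁻¹ by group,
        hx2]; group
    rw [inv_eq_of_mul_eq_one_right he2]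
    calc (e : G) * F.phi a * e = (e : G) * F.phi a * ((e : G) * F.phi a) * F.phi a := by
          rw [mul_assoc _ _ (F.phi a), mul_assoc (e : G) (F.phi a) (F.phi a), F.phi_sq, mul_one]
      _ = F.phi a := by rw [h1, one_mul]
  by_cases hlow : a < 128
  · exact ⟨m, m.2, by rw [hxa]; exact mul_mem he (F.phi_oc hlow)⟩
  have hfix' : Nat.beq (eAct (eVec.getD j 0) a) a = true := by
    rw [F.conj_phi he (blt_nat hv) hev ha] at hfix
    rw [F.phi_inj (eAct_lt ha) ha hfix]
    exact Nat.beq_refl _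
  have hcov := (Bool.or_eq_true_iff.1 (all_range cov_ok ha)).resolve_left fun e => hlow (blt_nat e)
  rw [Bool.and_eq_true] at hcov
  obtain ⟨c, hc1, hc2⟩ : ∃ c : ℕ × ℕ × List ℕ, c.1 = a ∧ covOK (eVec.getD j 0) c = true := by
    have get : ∀ {L : List (ℕ × ℕ × List ℕ)} {v : ℕ},
        (!(Nat.beq (eAct v a) a) || L.any fun e => Nat.beq e.1 a && covOK v e) = true →
        Nat.beq (eAct v a) a = true → ∃ c : ℕ × ℕ × List ℕ, c.1 = a ∧ covOK v c = true := by
      intro L v h hb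
      rw [hb, Bool.not_true, Bool.false_or, List.any_eq_true] at h
      obtain ⟨c, -, hc⟩ := h
      rw [Bool.and_eq_true] at hc
      exact ⟨c, beq_nat hc.1, hc.2⟩
    rcases (show j = 0 ∨ j = 1 by omega) with rfl | rfl
    exacts [get hcov.1 hfix', get hcov.2 hfix']
  obtain ⟨n, hn, hmem⟩ := F.cov_mem hF he hev hc1 hc2
  refine ⟨n * m, mul_mem hn m.2, ?_⟩
  rwa [show n * (m : G) * x * (n * (m : G))⁻¹ = n * ((m : G) * x * (m : G)⁻¹) * n⁻¹ by group, hxa]

/-- A conjugate of `z` in the normaliser whose 2-core holds an element of the second kind lies in the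
group. -/
theorem mem_grp_of_oc (hF : F.Good) {y : G} (hy : y ∈ F.nrm) (hyz : IsConj z y) {x : ℕ} (hx : x < 2048)
    (hxs : F.sec x) (hxy : F.phi x ∈ oc y) : y ∈ F.grp := by
  obtain ⟨g, hg⟩ := isConj_iff.1 hyz
  have hy2 : y * y = 1 := by rw [← hg, show g * z * g⁻¹ * (g * z * g⁻¹) = g * (z * z) * g⁻¹ by group, S.D.zz]; group
  by_contra hyA
  obtain ⟨n₀, hn₀, hyE⟩ := F.conj_into hF hy hy2 hyA
  obtain ⟨x', hx', ex⟩ := F.exists_img hn₀ hx
  have hxs' := F.sec_img hx ex hxs
  set y' := n₀ * y * n₀⁻¹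
  have hy'A : y' ∉ F.grp := fun h => hyA (by
    have := F.conj_mem (inv_mem hn₀) h
    rwa [show n₀⁻¹ * (n₀ * y * n₀⁻¹) * n₀⁻¹⁻¹ = y by group] at this)
  have hconf : Conf z y' := ⟨hyE, fun h => hy'A (h ▸ F.z_mem_grp), ⟨n₀ * g, by
    show _ = n₀ * y * n₀⁻¹
    rw [← hg]; group⟩⟩
  obtain ⟨n, hn, N⟩ := S.nconf_of hconf
  obtain ⟨f₀, L⟩ := S.L
  have hnΓ := S.act_range hn
  obtain ⟨i, hi, hfull⟩ := S.hex_eq hnΓ
  have hker := all_range hex_kernel hi
  simp only [Bool.or_eq_true, Bool.and_eq_true] at hker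
  rcases hker with h7 | ⟨hk, hq⟩
  · apply hy'A
    have hm : Rep.lin B 7 ∈ hSet B i := by
      rw [inH, Nat.beq_eq] at h7
      refine ⟨app (HC.getD i []) 7, ?_, by rw [h7]⟩
      refine app_lt (n := 6) ?_ _
      have hl : HC.all (fun l => l.all fun a => Nat.blt a 64) = true := by decide +kernel
      intro a ha
      rcases Nat.lt_or_ge i HC.length with h | h
      · rw [List.getD_eq_getElem _ _ h] at ha
        exact blt_nat (List.all_eq_true.1 (List.all_eq_true.1 hl _ (List.getElem_mem h)) a ha)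
      · rw [List.getD_eq_default _ _ h] at ha
        exact absurd ha List.not_mem_nil
    rw [← hfull] at hm
    obtain ⟨v, ⟨k, hk', rfl⟩, e⟩ := hm
    have hv : vec π y' = Rep.lin B (wv k) := by
      apply (act ρ n).injective
      rw [← S.D.vec_conj hn hyE, N.vec_u, e]
      rfl
    rcases F.oc_code hyE hk' hv with h | h
    · exact h ▸ F.phi_mem (by omega)
    · exact h ▸ F.phi_mem (xor_lt_2048 (by omega) (by norm_num))
  have ht : n * F.phi x' * n⁻¹ ∈ oc (n * y' * n⁻¹) := by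
    refine conj_mem_oc ?_
    rw [ex]
    exact conj_mem_oc hxy
  have hnz := hn.1
  by_cases hlow : x' < 128
  · have hT := (F.sec_low hlow).1 hxs'
    have h36 := all_range t36_spec hlow
    simp only [Bool.and_eq_true, beq_iff_eq] at h36
    rw [hT] at h36
    have hlong := h36.1.1.1.symm
    have hv := N.vec_mem_kernel L (k := n * F.phi x' * n⁻¹) ⟨oc_conj_mem hnz (F.phi_oc hlow), ht⟩
    rw [S.M.kernelSet_qSub, S.D.vec_conj hn (F.phi_oc hlow), F.vec_phi hlow] at hv
    obtain ⟨k, hkm, ek⟩ := hv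
    have hk4 : k < 4096 := blt_nat (List.all_eq_true.1 kList_lt k hkm)
    obtain ⟨s, hs, hsb, es⟩ := long.invariant S.M hnΓ (wv_lt (x' % 64)) hlong
    have hks : k = s := S.lin_lt_inj hk4 hs (ek.trans es)
    have hin : inH i k = true := S.inH_of_mem hi hk4 (by
      rw [ek, ← hfull]; exact ⟨_, ⟨x' % 64, Nat.mod_lt _ (by norm_num), rfl⟩, rfl⟩)
    have := List.all_eq_true.1 hk k hkm
    rw [hin, hks, hsb] at this
    exact Bool.noConfusion this
  · have htX : n * F.phi x' * n⁻¹ ∈ xSub z (n * y' * n⁻¹) :=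
      ⟨ht, (centralizer _).mul_mem ((centralizer _).mul_mem hnz (F.phi_mem_H x'))
        ((centralizer _).inv_mem hnz)⟩
    obtain ⟨M, hM, hact⟩ := S.M.mem_qSub.1 (N.lin_mem_Q htX)
    have hlin : lin ρ (n * F.phi x' * n⁻¹) = act ρ n * lin ρ (F.phi x') * (act ρ n)⁻¹ := by
      rw [(S.D.lin_mul (mul_mem hnz (F.phi_mem_H x')) (inv_mem hnz)).1,
        (S.D.lin_mul hnz (F.phi_mem_H x')).1, S.D.lin_inv hnz, (S.D.lin_mSub hn).1]
    have := List.all_eq_true.1 hq M hM
    simp only [Bool.or_eq_true, Bool.not_eq_true'] at this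
    rcases this with h | h
    · have h1 : lin ρ (F.phi x') = 1 := by
        have : lin ρ (n * F.phi x' * n⁻¹) = 1 := S.M.acts_eq (eqM_iff.1 h ▸ hact) S.M.acts_idM
        rw [hlin, mul_inv_eq_one, mul_eq_left] at this
        exact this
      exact hlow ((F.phi_oc_iff hx').1 ((S.D.lin_eq_one (F.phi_mem_H x')).1 h1))
    · rw [← Bool.not_eq_true, List.all_eq_true] at h
      apply h
      intro b hb
      obtain ⟨k, hk', rfl⟩ := hb_get hi hb
      obtain ⟨v, ⟨l, hl, rfl⟩, e⟩ : Rep.lin B (app (HB.getD i []) k) ∈ act ρ n '' wSet B := by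
        rw [hfull]; exact ⟨k, hk', rfl⟩
      have hlt : app (HB.getD i []) k < 4096 := by
        have h' := all_range hex_images hi
        simp only [Bool.and_eq_true] at h'
        exact app_lt (n := 12) (fun a ha => blt_nat (List.all_eq_true.1 h'.1.1.2 a ha)) k
      obtain ⟨-, -, -, hd, -, -⟩ := S.M.mem_qSub_acts hM
      have hgood : goodM M = true := by
        have hl : (qList.all goodM) = true := by decide +kernel
        exact List.all_eq_true.1 hl M hM
      rw [S.lin_lt_inj (app_lt_of_good hgood _) hlt (show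
        Rep.lin B (app M (app (HB.getD i []) k)) = Rep.lin B (app (HB.getD i []) k) by
        rw [← hact, hlin, ← e]
        simp only [Equiv.Perm.mul_apply, Equiv.Perm.inv_def, Equiv.symm_apply_apply]
        rw [F.lin_phi hx', ql_fix' (by omega) hl])]
      exact Nat.beq_refl _

end Frame

end Cfsg.Agent.J4Type.V11
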