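import Cfsg.Agent.J4Type.Cover
import Cfsg.Agent.J4Type.V11.Checks
import Cfsg.Agent.J4Type.Orbits.Fusion

/-!
# The setting, lifts of the maps of the model and the squares of lifts of involutions
-/

set_option autoImplicit false

open Cfsg Subgroup

namespace Cfsg.Agent.J4Type.V11

open LargeExtra (oc oc_le oc_conj_mem conj_mem_oc)
open Rep Orbits

variable {G : Type*} [Group G] [Finite G]

/-- A group of Janko-four type with coordinates and an orthogonal conjugate. -/
structure Sys (z : G) (P : Subgroup G) {V : Type*} [AddCommGroup V]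
    (π : ↥(oc z) →* Multiplicative V) (ρ : ↥(mSub z P) →* Equiv.Perm V) (q : V → ZMod 2)
    (B : List V) : Prop where
  D : ActData z P π ρ q
  M : Orbits.Model B ρ.range (gammaZero ρ) q
  L : ∃ f₀, LinFacts ρ.range (gammaZero ρ) q (Rep.lin B Short.v0) f₀ (qSub B)
  conf : ∃ u, Conf z u

variable {z : G} {P : Subgroup G} {V : Type*} [AddCommGroup V]
  {π : ↥(oc z) →* Multiplicative V} {ρ : ↥(mSub z P) →* Equiv.Perm V} {q : V → ZMod 2} {B : List V}

/-- A power of the central involution. -/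
def zp (z : G) (b : Bool) : G := cond b z 1

theorem all_range {n : ℕ} {f : ℕ → Bool} (h : (List.range n).all f = true) {i : ℕ} (hi : i < n) :
    f i = true := List.all_eq_true.1 h i (List.mem_range.2 hi)

theorem beq_nat {a b : ℕ} (h : Nat.beq a b = true) : a = b := Nat.eq_of_beq_eq_true h

theorem blt_nat {a b : ℕ} (h : Nat.blt a b = true) : a < b := by simpa [Nat.blt_eq] using h

theorem blt_iff {a b : ℕ} : Nat.blt a b = true ↔ a < b := ⟨blt_nat, fun h => by simpa [Nat.blt_eq] using h⟩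

namespace Sys

variable (S : Sys z P π ρ q B)
include S

theorem lin_lt_inj {a b : ℕ} (ha : a < 4096) (hb : b < 4096) (h : Rep.lin B a = Rep.lin B b) :
    a = b := S.M.lin_inj ha hb h

theorem zp_mem (b : Bool) : zp z b ∈ oc z := by
  cases b
  · exact one_mem _
  · exact S.D.z_mem

theorem zp_comm {x : G} (hx : x ∈ centralizer ({z} : Set G)) (b : Bool) : Commute x (zp z b) := by
  cases b
  · exact Commute.one_right x
  · exact S.D.comm_z hx

theorem zp_mul (a b : Bool) : zp z a * zp z b = zp z (Bool.xor a b) := by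
  cases a <;> cases b <;> simp [zp, S.D.zz]

theorem act_range {m : G} (hm : m ∈ mSub z P) : act ρ m ∈ ρ.range := by
  rw [act_of_mem hm]
  exact ⟨_, rfl⟩

theorem lift_zero {γ : Equiv.Perm V} (hγ : γ ∈ gammaZero ρ) : ∃ n ∈ cSub z P, act ρ n = γ := by
  obtain ⟨c, hc, rfl⟩ := hγ
  exact ⟨(c : G), hc, act_of_mem c.2⟩

theorem lift {γ : Equiv.Perm V} (hγ : γ ∈ ρ.range) : ∃ n ∈ mSub z P, act ρ n = γ := by
  obtain ⟨c, rfl⟩ := hγ
  exact ⟨(c : G), c.2, act_of_mem c.2⟩

/-- The lift of a word. -/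
theorem lift_word (w : List ℕ) : ∃ n ∈ cSub z P, Orbits.PActs B (act ρ n) (code w) := by
  obtain ⟨γ, hγ, hγw⟩ := S.M.word w
  obtain ⟨n, hn, rfl⟩ := S.lift_zero hγ
  exact ⟨n, hn, hγw⟩

theorem vec_conj_code {m e : G} {M : List ℕ} {r : ℕ} (hm : m ∈ mSub z P)
    (hM : Orbits.PActs B (act ρ m) M) (he : e ∈ oc z) (hv : vec π e = Rep.lin B r) :
    vec π (m * e * m⁻¹) = Rep.lin B (app M r) := by
  rw [S.D.vec_conj hm he, hv, hM]

theorem exists_code (r : ℕ) : ∃ e ∈ oc z, vec π e = Rep.lin B r := S.D.exists_vec _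

theorem sq_code {e : G} {r : ℕ} (he : e ∈ oc z) (hr : r < 4096) (hv : vec π e = Rep.lin B r) :
    e * e = zp z (Orbits.qb r) := by
  have hq := S.M.q_code hr
  rw [← hv, vec_of_mem he] at hq
  have h := S.D.square ⟨e, he⟩
  cases hb : Orbits.qb r <;> rw [hb] at hq
  · exact h.1 hq
  · exact h.2 (by rw [hq]; decide)

theorem conj_code {e f : G} {a b : ℕ} (he : e ∈ oc z) (hf : f ∈ oc z) (ha : a < 4096) (hb : b < 4096)
    (hva : vec π e = Rep.lin B a) (hvb : vec π f = Rep.lin B b) :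
    e * f * e⁻¹ = f * zp z (Orbits.bv a b) := by
  have hp := S.D.polar_eq he hf
  rw [hva, hvb, S.M.polar_code ha hb] at hp
  rcases S.D.comm_cases he hf with h | h <;> cases hbv : Orbits.bv a b <;>
    simp only [hbv, Bool.false_eq_true, if_false, if_true, true_iff] at hp
  · rw [h]; exact (mul_one f).symm
  · exact absurd (mul_inv_eq_iff_eq_mul.1 h) (fun hc => absurd (hp.2 hc) (by decide))
  · exfalso
    rw [hp.eq, mul_inv_cancel_right, left_eq_mul] at h
    exact S.D.z_ne h
  · exact h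

/-- Some element of the normalised configuration. -/
theorem nconf : ∃ u, NConf S.D (Rep.lin B Short.v0) (qSub B) u := by
  obtain ⟨f₀, L⟩ := S.L
  obtain ⟨u, hu⟩ := S.conf
  exact exists_nconf L S.D hu

/-- Lifts of elements of the normal subgroup of order 32 square to one. -/
theorem sq_qSub {m : G} (hm : m ∈ mSub z P) (hq : act ρ m ∈ qSub B) : m * m = 1 := by
  obtain ⟨f₀, L⟩ := S.L
  obtain ⟨u, N⟩ := S.nconf
  obtain ⟨F, hF, hsplit⟩ := N.split L
  have hk : vec π (1 : G) ∈ kernelSet q (qSub B) (Rep.lin B Short.v0) :=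
    N.vec_mem_kernel L (one_mem (oc z ⊓ oc u))
  have hX := N.mem_split L hF hsplit (one_mem (oc z)) hk hm hq
  rw [one_mul] at hX
  obtain ⟨M, hM, hact⟩ := S.M.mem_qSub.1 hq
  have hmm : m * m = 1 ∨ m * m = z := by
    refine (S.D.act_eq_one (mul_mem hm hm)).1 ?_
    have hs := qList_sq
    simp only [List.all_eq_true, Bool.and_eq_true, eqM_iff] at hs
    rw [act_mul hm hm]
    exact S.M.acts_eq ((hs M hM).1 ▸ hact.mul hact) S.M.acts_idM
  have hzc : F⁻¹ * z * F = z := by
    rw [(S.D.comm_z (inv_mem (oc_le z hF))).eq, mul_assoc, inv_mul_cancel, mul_one]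
  have hsq : F⁻¹ * m * F * (F⁻¹ * m * F) = m * m := by
    rw [show F⁻¹ * m * F * (F⁻¹ * m * F) = F⁻¹ * (m * m) * F by group]
    rcases hmm with h | h <;> rw [h]
    · group
    · exact hzc
  rcases N.conf.sq_cases_u S.D hX.1 with h | h <;> rw [hsq] at h
  · exact h
  · rcases hmm with h' | h' <;> rw [h'] at h
    · exact absurd h.symm (N.conf.ne_one S.D)
    · exact absurd h.symm N.conf.ne

/-- Lifts of the conjugates of such elements square to one as well. -/
theorem sq_of_conj {m : G} {M : List ℕ} {w : List ℕ} {k : ℕ} (hm : m ∈ mSub z P)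
    (hM : Orbits.PActs B (act ρ m) M) (hk : k < qList.length)
    (h : eqM (comp M (code w)) (comp (code w) (qList.getD k [])) = true) : m * m = 1 := by
  obtain ⟨n, hn, hnw⟩ := S.lift_word w
  have hnM : n ∈ mSub z P := cSub_le_mSub z P hn
  rw [List.getD_eq_getElem _ _ hk] at h
  obtain ⟨δ, -, -, hd, -, -⟩ := S.M.mem_qSub_acts (List.getElem_mem hk)
  have hm' : n⁻¹ * m * n ∈ mSub z P := mul_mem (mul_mem (inv_mem hnM) hm) hnM
  have e : act ρ m * act ρ n = act ρ n * δ :=
    S.M.acts_eq (eqM_iff.1 h ▸ hM.mul hnw) (hnw.mul hd)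
  have hq : act ρ (n⁻¹ * m * n) ∈ qSub B := by
    rw [act_mul (mul_mem (inv_mem hnM) hm) hnM, act_mul (inv_mem hnM) hm, act_inv hnM, mul_assoc, e,
      inv_mul_cancel_left]
    exact S.M.mem_qSub.2 ⟨_, List.getElem_mem hk, hd⟩
  have h1 := S.sq_qSub hm' hq
  calc m * m = n * (n⁻¹ * m * n * (n⁻¹ * m * n)) * n⁻¹ := by group
    _ = 1 := by rw [h1]; group

end Sys

end Cfsg.Agent.J4Type.V11
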