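import Cfsg.Agent.J4Type.V11.Count

/-!
# The two orbits of the normaliser on the group of order `2 ^ 11`
-/

set_option autoImplicit false

open Cfsg Subgroup

namespace Cfsg.Agent.J4Type.V11

open LargeExtra (oc oc_le oc_conj_mem)
open Rep Orbits

variable {G : Type*} [Group G] [Finite G] {z : G} {P : Subgroup G} {V : Type*} [AddCommGroup V]
  {π : ↥(oc z) →* Multiplicative V} {ρ : ↥(mSub z P) →* Equiv.Perm V} {q : V → ZMod 2} {B : List V}

theorem cbit_lt (c m : ℕ) : cbit c m < 2 := by
  have key : ∀ n, Nat.rec (motive := fun _ => ℕ) 0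
      (fun k r => cond (Nat.beq (nbm.getD k 0) m) (Nat.mod (Nat.shiftRight c k) 2) r) n < 2 := by
    intro n
    induction n with
    | zero => norm_num
    | succ n ih =>
      show cond _ _ _ < 2
      cases Nat.beq (nbm.getD n 0) m
      · exact ih
      · exact Nat.mod_lt _ (by norm_num)
  exact key 11

theorem clsL_iff {m f x : ℕ} (hm : 1 ≤ m) (hm' : m < 16) (hf : f < 2) :
    x ∈ (clsL.getD m []).getD f [] ↔ x < 128 ∧ bit ((clsM.getD m []).getD f 0) x = true := by
  have h := all_range ((Bool.or_eq_true_iff.1 (all_range cls_ok hm')).resolve_left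
    (fun e => by have := beq_nat e; omega)) hf
  rw [Bool.and_eq_true, List.all_eq_true] at h
  constructor
  · intro hx
    have hlt := blt_nat (h.1 x hx)
    have h2 := all_range h.2 hlt
    simp only [Bool.and_eq_true, beq_iff_eq] at h2
    exact ⟨hlt, h2.1 ▸ List.any_eq_true.2 ⟨x, hx, Nat.beq_refl x⟩⟩
  · rintro ⟨hlt, hb⟩
    have h2 := all_range h.2 hlt
    simp only [Bool.and_eq_true, beq_iff_eq] at h2
    rw [← h2.1] at hb
    obtain ⟨y, hy, e⟩ := List.any_eq_true.1 hb
    rw [beq_nat e]
    exact hy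

namespace Frame

variable {S : Sys z P π ρ q B} (F : Frame S)

theorem sec_low {x : ℕ} (hx : x < 128) : F.sec x ↔ bit T36M x = true := by
  by_cases h0 : x = 0
  · subst h0
    exact iff_of_false (fun h => h.1 rfl) (by decide +kernel)
  rw [sec, and_iff_right h0, F.conj_low hx h0, Bool.not_eq_false]

theorem phi_top (i : Fin 4) : F.phi (128 * 2 ^ i.val) = F.b i := by
  have e : 128 * 2 ^ i.val = 2 ^ (7 + i.val) := by rw [pow_add]; norm_num
  rw [e, F.phi_two_pow (by omega)]
  fin_cases i <;> rfl

theorem sign_spec {m : ℕ} (hm : 1 ≤ m) (hm' : m < 16) {f : ℕ} (hf : f < 2)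
    (hF : f = 1 ↔ IsConj z (F.phi (128 * m))) {x : ℕ} (hx : x < 128) :
    F.sec (128 * m + x) ↔ bit ((clsM.getD m []).getD f 0) x = true := by
  obtain ⟨g, hg, hgx⟩ := F.exists_sign hm hm'
  have h := (Bool.or_eq_true_iff.1 (all_range cls_ok hm')).resolve_left (fun e => by have := beq_nat e; omega)
  have h0 : ∀ f < 2, (Nat.beq (orbId m 0) (orbId m (64 * f))) = bit ((clsM.getD m []).getD f 0) 0 :=
    fun f hf => by
      have := all_range h hf
      rw [Bool.and_eq_true] at this
      have := all_range this.2 (show 0 < 128 by norm_num)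
      simp only [Bool.and_eq_true, beq_iff_eq] at this
      exact this.2
  have ha := (Bool.or_eq_true_iff.1 (all_range orb_apart hm')).resolve_left (fun e => by have := beq_nat e; omega)
  have hgf : g = f := by
    have h1 := hgx 0 (by norm_num)
    rw [Nat.add_zero, ← h0 g hg, ← hF] at h1
    rcases (show g = 0 ∨ g = 1 by omega) with rfl | rfl
    · rw [Nat.mul_zero, Nat.beq_refl] at h1
      by_contra hne
      exact Bool.noConfusion (h1.1 (by omega))
    · rw [Nat.mul_one] at h1
      rw [Bool.not_eq_true'] at ha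
      exact (h1.2 ha).symm
  rw [sec, and_iff_right (by omega), hgx x hx, hgf, Bool.not_eq_false]

/-- A frame with the four lifts outside the class of `z`. -/
def Good (F : Frame S) : Prop := ∀ i, ¬ IsConj z (F.b i)

theorem exists_good (S : Sys z P π ρ q B) : ∃ F : Frame S, F.Good := by
  classical
  obtain ⟨F⟩ := S.exists_frame
  have hzC : z ∈ cSub z P := ⟨mem_centralizer_singleton_iff.2 rfl,
    ((S.D.hJ.2.2.2.2.2.2.1).ge (mem_zpowers z)).2⟩
  have hzM := cSub_le_mSub z P hzC
  let F' : Frame S :=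
    { F with
      b := fun i => if IsConj z (F.b i) then F.b i * z else F.b i
      b_mem := fun i => by split_ifs; exacts [mul_mem (F.b_mem i) hzC, F.b_mem i]
      b_act := fun i => by
        split_ifs
        · rw [act_mul (cSub_le_mSub z P (F.b_mem i)) hzM, (S.D.act_eq_one hzM).2 (Or.inr rfl), mul_one]
          exact F.b_act i
        · exact F.b_act i }
  refine ⟨F', fun i => ?_⟩
  show ¬ IsConj z (if IsConj z (F.b i) then F.b i * z else F.b i)
  split_ifs with h
  · have hm : 1 ≤ 2 ^ i.val := Nat.one_le_two_pow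
    have hm' := pow_lt_sixteen i
    have hs := (F.sign_spec hm hm' (f := 1) (by norm_num) (by rw [F.phi_top]; exact iff_of_true rfl h)
      (x := 64) (by norm_num)).2 (by
        have := all_range ((Bool.or_eq_true_iff.1 (all_range cls_ok hm')).resolve_left
          (fun e => by have := beq_nat e; omega)) (show 1 < 2 by norm_num)
        rw [Bool.and_eq_true] at this
        have := all_range this.2 (show 64 < 128 by norm_num)
        simp only [Bool.and_eq_true, beq_iff_eq, Nat.mul_one, Nat.beq_refl] at this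
        exact this.2.symm)
    have e : 128 * 2 ^ i.val + 64 = 128 * 2 ^ i.val ^^^ 64 := by
      fin_cases i <;> rfl
    rw [e, sec, F.phi_xor, F.phi_top, F.phi_z] at hs
    exact hs.2
  · exact h

/-- The signs form a configuration. -/
theorem exists_conf (hF : F.Good) : ∃ c < 2048, ∀ x < 2048, F.sec x ↔ tB c x = true := by
  classical
  let g : Fin 11 → Bool := fun k => decide (IsConj z (F.phi (128 * nbm.getD k.val 0)))
  refine ⟨Nat.ofBits g, Nat.ofBits_lt_two_pow g, fun x hx => ?_⟩
  set c := Nat.ofBits g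
  rw [tB]
  by_cases hlow : x < 128
  · rw [Nat.div_eq_of_lt hlow, Nat.beq_refl, cond_true, F.sec_low hlow]
  set m := x / 128 with hm
  have hm1 : 1 ≤ m := by omega
  have hm' : m < 16 := by omega
  rw [show Nat.beq m 0 = false from Bool.eq_false_iff.2 fun e => by have := beq_nat e; omega, cond_false]
  have key : cbit c m = 1 ↔ IsConj z (F.phi (128 * m)) := by
    have hcov := all_range nbm_cover hm'
    simp only [Bool.or_eq_true] at hcov
    have base : (m = 1 ∨ m = 2 ∨ m = 4 ∨ m = 8) → (cbit c m = 1 ↔ IsConj z (F.phi (128 * m))) := by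
      intro h
      have h0 := all_range cbit_base (Nat.ofBits_lt_two_pow g)
      simp only [List.all_cons, List.all_nil, Bool.and_true, Bool.and_eq_true] at h0
      obtain ⟨i, hi⟩ : ∃ i : Fin 4, m = 2 ^ i.val := by
        rcases h with e | e | e | e
        exacts [⟨0, e⟩, ⟨1, e⟩, ⟨2, e⟩, ⟨3, e⟩]
      refine iff_of_false ?_ (by rw [hi, F.phi_top]; exact hF i)
      rcases h with e | e | e | e <;> rw [e]
      exacts [by rw [beq_nat h0.1]; norm_num, by rw [beq_nat h0.2.1]; norm_num,
        by rw [beq_nat h0.2.2.1]; norm_num, by rw [beq_nat h0.2.2.2]; norm_num]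
    rcases hcov with ((((h | h) | h) | h) | h) | h
    · have := beq_nat h; omega
    · exact base (Or.inl (beq_nat h))
    · exact base (Or.inr (Or.inl (beq_nat h)))
    · exact base (Or.inr (Or.inr (Or.inl (beq_nat h))))
    · exact base (Or.inr (Or.inr (Or.inr (beq_nat h))))
    obtain ⟨k, hk, e⟩ := List.any_eq_true.1 h
    rw [List.mem_range] at hk
    have hmk := beq_nat e
    rw [← hmk, beq_nat (all_range (all_range cbit_eq (Nat.ofBits_lt_two_pow g)) hk)]
    show (c >>> k) % 2 = 1 ↔ _
    rw [Nat.shiftRight_eq_div_pow, ← Nat.toNat_testBit, Nat.testBit_ofBits_lt g k hk]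
    simp [g]
  have := F.sign_spec hm1 hm' (cbit_lt c m) key (x := x % 128) (Nat.mod_lt _ (by norm_num))
  rwa [show 128 * m + x % 128 = x by omega] at this

theorem sec_high_same {a b : ℕ} (ha : a < 2048) (hb : b < 2048) (hab : a / 128 = b / 128) (hhi : 128 ≤ a)
    (hsa : F.sec a) (hsb : F.sec b) : F.Rel a b := by
  set m := a / 128 with hm
  have hm1 : 1 ≤ m := by omega
  have hm' : m < 16 := by omega
  have ho := (Bool.or_eq_true_iff.1 (all_range orb_ok hm')).resolve_left (fun e => by have := beq_nat e; omega)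
  classical
  set f := if IsConj z (F.phi (128 * m)) then 1 else 0 with hf
  have hf2 : f < 2 := by rw [hf]; split_ifs <;> norm_num
  have hfs : f = 1 ↔ IsConj z (F.phi (128 * m)) := by
    rw [hf]; split_ifs with h
    · exact iff_of_true rfl h
    · exact iff_of_false (by norm_num) h
  have hcl := all_range ((Bool.or_eq_true_iff.1 (all_range cls_ok hm')).resolve_left
    (fun e => by have := beq_nat e; omega)) hf2
  rw [Bool.and_eq_true] at hcl
  have key : ∀ x, x < 2048 → x / 128 = m → F.sec x → orbId m (x % 128) = orbId m (64 * f) ∧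
      F.Rel (128 * m + (oRep.getD m []).getD (orbId m (x % 128)) 0) x := by
    intro x hx hxm hs
    have hx7 : x % 128 < 128 := Nat.mod_lt _ (by norm_num)
    have h2 := all_range hcl.2 hx7
    simp only [Bool.and_eq_true, beq_iff_eq] at h2
    rw [show x = 128 * m + x % 128 by omega, F.sign_spec hm1 hm' hf2 hfs hx7, ← h2.2] at hs
    refine ⟨beq_nat hs, ?_⟩
    have h1 := all_range ho hx7
    rw [Bool.and_eq_true] at h1
    have e := beq_nat h1.2
    by_cases hr : 128 * m + (oRep.getD m []).getD (orbId m (x % 128)) 0 < 2048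
    · have h := F.rel_oc hr (v := orbWit m (x % 128)) (Nat.mod_lt _ (by norm_num))
      rwa [e, show 128 * m + x % 128 = x by omega] at h
    · exfalso
      have := congrArg (fun t => t / 128) e
      simp only [eAct] at this
      rw [show ∀ r s : ℕ, Nat.xor r s = r ^^^ s from fun _ _ => rfl, xor_high,
        Nat.div_eq_of_lt (eShift_lt _ _ _), Nat.xor_zero] at this
      omega
  obtain ⟨ea, ra⟩ := key a ha rfl hsa
  obtain ⟨eb, rb⟩ := key b hb hab.symm hsb
  rw [ea] at ra
  rw [eb] at rb
  exact (Rel.symm F ra).trans F rb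

theorem rel_sec {a b : ℕ} (ha : a < 2048) (h : F.Rel a b) (hs : F.sec a) : F.sec b := by
  obtain ⟨n, -, e⟩ := h
  exact F.sec_img ha e hs

theorem sec_58 : F.sec 58 := (F.sec_low (by norm_num)).2 (by
  have h := seed_low; simp only [Bool.and_eq_true] at h; exact h.1.1)

/-- **One orbit on the second kind.** -/
theorem rel_all {a : ℕ} (ha : a < 2048) (hs : F.sec a) : F.Rel 58 a := by
  -- the part inside the 2-core
  have low : ∀ x < 128, F.sec x → F.Rel 58 x := by
    intro x hx hsx
    have hT := (F.sec_low hx).1 hsx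
    have h36 := all_range t36_spec hx
    simp only [Bool.and_eq_true, beq_iff_eq] at h36
    rw [← h36.1.1.2, List.any_eq_true] at hT
    obtain ⟨y, hy, e⟩ := hT
    have hr := reach_ok
    simp only [Bool.and_eq_true, List.all_eq_true] at hr
    have hb := hr.1.2 y hy
    rw [← beq_nat e] at hb
    have hflip : ∀ w, w < 128 → F.Rel 58 w → F.Rel 58 (w % 64) ∧ F.Rel 58 (w % 64 ^^^ 64) ∧ w % 64 ≠ 0 := by
      intro w hw hR
      have hsw := F.rel_sec (by norm_num) hR F.sec_58
      have h0 : w % 64 ≠ 0 := fun h0 => by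
        rcases (show w = 0 ∨ w = 64 by omega) with rfl | rfl
        · exact hsw.1 rfl
        · exact hsw.2 (by rw [F.phi_z])
      have hf := F.rel_flip (k := w % 64) (by omega) (by rwa [Nat.mod_mod])
      rcases (show w = w % 64 ∨ w = w % 64 + 64 by omega) with e | e
      · exact ⟨e ▸ hR, (e ▸ hR : F.Rel 58 (w % 64)).trans F hf, h0⟩
      · have e' : w = w % 64 ^^^ 64 := by
          conv_lhs => rw [split_code w (by omega), show w / 64 % 2 = 1 by omega, show w / 128 = 0 by omega]
          simp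
        exact ⟨(e' ▸ hR : F.Rel 58 (w % 64 ^^^ 64)).trans F (Rel.symm F hf), e' ▸ hR, h0⟩
    have hq := reachBits_sound (fun v => v < 64 ∧ F.Rel 58 v) (seed := 58) (t := vTree)
      ⟨by norm_num, Rel.refl F 58⟩ (fun e he hv => ?_) hb
    · obtain ⟨h1, h2, -⟩ := hflip (x % 64) (by omega) hq.2
      rcases (show x / 64 = 0 ∨ x / 64 = 1 by omega) with h | h
      · rw [show x = x % 64 % 64 by omega]; exact h1
      · rw [show x = x % 64 % 64 ^^^ 64 by
          conv_lhs => rw [split_code x (by omega), show x / 64 % 2 = 1 by omega, show x / 128 = 0 by omega]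
          simp]
        exact h2
    obtain ⟨hv64, hvR⟩ := hv
    have ht := List.all_eq_true.1 vTree_ok e he
    simp only [Bool.and_eq_true] at ht
    obtain ⟨⟨⟨hk, h1⟩, -⟩, he'⟩ := ht
    obtain ⟨n, hn, hmv⟩ := F.exists_gen (blt_nat hk)
    obtain ⟨w, hw, hweq, hwv, hwoc⟩ := hn e.2.1 hv64
    have hwe : w = e.1 := by
      have := congrArg wc (hweq.trans (beq_nat he'))
      rwa [wc_wv' hw, wc_wv' (blt_nat h1)] at this
    subst hwe
    refine ⟨hw, ?_⟩
    have hnn : n ∈ F.nrm := (hmv 0 (by norm_num)).1.2.1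
    rcases F.oc_code hwoc hw hwv with h | h
    · exact hvR.trans F ⟨n, hnn, h⟩
    · have hR : F.Rel 58 (e.1 ^^^ 64) := hvR.trans F ⟨n, hnn, h⟩
      have hlt : e.1 ^^^ 64 < 128 := Nat.xor_lt_two_pow (n := 7) (by omega) (by norm_num)
      have := (hflip _ hlt hR).1
      rwa [show (e.1 ^^^ 64) % 64 = e.1 by
        rw [show (64 : ℕ) = 2 ^ 6 from rfl, Nat.xor_mod_two_pow, Nat.mod_self, Nat.xor_zero,
          Nat.mod_eq_of_lt hw]] at this
  by_cases hlo : a < 128
  · exact low a hlo hs
  -- some element outside is reached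
  obtain ⟨h, hh, hh128, hhs, hR⟩ : ∃ h < 2048, 128 ≤ h ∧ F.sec h ∧ F.Rel 58 h := by
    obtain ⟨y, hy⟩ := Finset.card_pos.1 (show 0 < (F.cls 1).card by rw [F.card_cls le_rfl (by norm_num)]; norm_num)
    obtain ⟨hy, hyc⟩ := F.mem_cls.1 hy
    obtain ⟨n, hn, e⟩ := F.fusion F.z_mem_grp (F.phi_mem (x := 128 * 1 + y) (by omega)) hyc
    obtain ⟨a', ha', ea⟩ := F.exists_img hn (x := 58) (by norm_num)
    obtain ⟨b', hb', eb⟩ := F.exists_img hn (x := 122) (by norm_num)
    have hx := F.img_xor ea eb
    rw [show (58 : ℕ) ^^^ 122 = 64 from rfl, F.phi_z, e] at hx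
    have hx := F.phi_inj (xor_lt_2048 ha' hb') (by omega) hx
    have h58 : F.Rel 58 a' := ⟨n, hn, ea⟩
    have h122 : F.Rel 58 b' := ((F.rel_flip (k := 58) (by norm_num) (by norm_num)) : F.Rel 58 122).trans F ⟨n, hn, eb⟩
    by_cases h1 : 128 ≤ a'
    · exact ⟨a', ha', h1, F.rel_sec (by norm_num) h58 F.sec_58, h58⟩
    · refine ⟨b', hb', ?_, F.rel_sec (by norm_num) h122 F.sec_58, h122⟩
      by_contra h2
      have := congrArg (fun t => t / 128) hx
      simp only [xor_high] at this
      rw [Nat.div_eq_of_lt (show a' < 128 by omega), Nat.div_eq_of_lt (show b' < 128 by omega)] at this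
      simp only [Nat.xor_self] at this
      omega
  let Q : ℕ → Prop := fun m => ∀ x < 2048, x / 128 = m → F.sec x → F.Rel 58 x
  have hQh : Q (h / 128) := fun x hx hxm hsx => hR.trans F (F.sec_high_same hh hx hxm.symm hh128 hhs hsx)
  have hQ : ∀ m, 1 ≤ m → m < 16 → (Q m ↔ Q 1) := by
    intro m hm hm'
    have hr := reach_ok
    simp only [Bool.and_eq_true] at hr
    have hb := (Bool.or_eq_true_iff.1 (all_range hr.1.1 hm')).resolve_left (fun e => by have := beq_nat e; omega)
    refine reachBits_sound (fun r => Q r ↔ Q 1) Iff.rfl (fun e he hp => ?_) hb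
    have ht := List.all_eq_true.1 mTree_ok e he
    simp only [Bool.and_eq_true] at ht
    obtain ⟨⟨⟨hk, hp'⟩, h1⟩, h2⟩ := ht
    obtain ⟨n, -, hn⟩ := F.exists_gen (show e.2.2 < gCode.length from blt_nat hk)
    have hn := (hn e.2.1 (blt_nat h2)).1
    rw [beq_nat hp'] at hn
    refine Iff.trans ?_ hp
    have step : ∀ {n : G} {c p : ℕ}, F.Moves n p c → c < 16 → Q c → Q p := by
      intro n c p hmv hc hQc x hx hxp hsx
      obtain ⟨y, hy, ey⟩ := F.exists_img hmv.2.1 hx
      exact (hQc y hy (F.img_coset hmv hc hx hxp hy ey) (F.sec_img hx ey hsx)).trans F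
        (Rel.symm F ⟨n, hmv.2.1, ey⟩)
    exact ⟨step hn (blt_nat h1), step hn.inv (blt_nat h2)⟩
  exact (hQ (a / 128) (by omega) (by omega)).2 ((hQ (h / 128) (by omega) (by omega)).1 hQh) a ha rfl hs

/-- Two cosets carry three such elements with product one. -/
def Tri (F : Frame S) (m n : ℕ) : Prop :=
  ∃ a b, a < 2048 ∧ b < 2048 ∧ a / 128 = m ∧ b / 128 = n ∧ F.sec a ∧ F.sec b ∧ F.sec (a ^^^ b)

theorem Tri.comm {m n : ℕ} : F.Tri m n → F.Tri n m := fun ⟨a, b, ha, hb, h1, h2, h3, h4, h5⟩ =>
  ⟨b, a, hb, ha, h2, h1, h4, h3, Nat.xor_comm a b ▸ h5⟩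

theorem Tri.img {n : G} {a b a' b' : ℕ} (ha : F.Moves n a a') (hb : F.Moves n b b') (ha' : a' < 16)
    (hb' : b' < 16) : F.Tri a b → F.Tri a' b' := by
  rintro ⟨x, y, hx, hy, h1, h2, h3, h4, h5⟩
  obtain ⟨x', hx', ex⟩ := F.exists_img ha.2.1 hx
  obtain ⟨y', hy', ey⟩ := F.exists_img ha.2.1 hy
  exact ⟨x', y', hx', hy', F.img_coset ha ha' hx h1 hx' ex, F.img_coset hb hb' hy h2 hy' ey,
    F.sec_img hx ex h3, F.sec_img hy ey h4, F.sec_img (xor_lt_2048 hx hy) (F.img_xor ex ey) h5⟩

theorem par_iff {c : ℕ} (hc : ∀ x < 2048, F.sec x ↔ tB c x = true) {p : ℕ} (hp : p < 256)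
    (hm : 0 < p / 16) (hn : p / 16 < p % 16) : par c p = true ↔ F.Tri (p / 16) (p % 16) := by
  set m := p / 16
  set n := p % 16
  have hm' : m < 16 := by omega
  have hn' : n < 16 := by omega
  have hk' : m ^^^ n < 16 := Nat.xor_lt_two_pow (n := 4) hm' hn'
  have hk : 1 ≤ m ^^^ n := Nat.one_le_iff_ne_zero.2 fun e => by have := Nat.xor_eq_zero_iff.1 e; omega
  have hf := cbit_lt c m
  have hg := cbit_lt c n
  have hh := cbit_lt c (m ^^^ n)
  have h := (Bool.or_eq_true_iff.1 (all_range par_ok hp)).resolve_left (by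
    rw [show Nat.blt 0 (p / 16) = true from blt_iff.2 hm, show Nat.blt (p / 16) (p % 16) = true from blt_iff.2 hn]
    decide)
  have h := all_range h (show cbit c m + 2 * cbit c n + 4 * cbit c (m ^^^ n) < 8 by omega)
  rw [show (cbit c m + 2 * cbit c n + 4 * cbit c (m ^^^ n)) % 2 = cbit c m by omega,
    show (cbit c m + 2 * cbit c n + 4 * cbit c (m ^^^ n)) / 2 % 2 = cbit c n by omega,
    show (cbit c m + 2 * cbit c n + 4 * cbit c (m ^^^ n)) / 4 = cbit c (m ^^^ n) by omega,
    beq_iff_eq] at h
  have hsec : ∀ {x}, x < 2048 → 1 ≤ x / 128 →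
      (F.sec x ↔ bit ((clsM.getD (x / 128) []).getD (cbit c (x / 128)) 0) (x % 128) = true) := fun {x} hx h1 => by
    rw [hc x hx, tB, show Nat.beq (x / 128) 0 = false from
      Bool.eq_false_iff.2 fun e => by have := beq_nat e; omega, cond_false]
  show Bool.xor (bit pOff p) (Nat.beq ((cbit c m + cbit c n + cbit c (m ^^^ n)) % 2) 1) = true ↔ _
  rw [← h, List.any_eq_true]
  simp only [List.any_eq_true]
  constructor
  · rintro ⟨x, hx, y, hy, hxy⟩
    obtain ⟨hx1, hx2⟩ := (clsL_iff hm hm' hf).1 hx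
    obtain ⟨hy1, hy2⟩ := (clsL_iff (by omega) hn' hg).1 hy
    have e1 : (128 * m + x) / 128 = m := by omega
    have e2 : (128 * n + y) / 128 = n := by omega
    have e3 : ((128 * m + x) ^^^ (128 * n + y)) / 128 = m ^^^ n := by rw [xor_high, e1, e2]
    refine ⟨128 * m + x, 128 * n + y, by omega, by omega, e1, e2, (hsec (by omega) (by omega)).2 ?_,
      (hsec (by omega) (by omega)).2 ?_, (hsec (xor_lt_2048 (by omega) (by omega)) (by omega)).2 ?_⟩
    · rwa [e1, show (128 * m + x) % 128 = x by omega]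
    · rwa [e2, show (128 * n + y) % 128 = y by omega]
    · rw [e3, xor_low, show (128 * m + x) % 128 = x by omega, show (128 * n + y) % 128 = y by omega]
      exact hxy
  · rintro ⟨a, b, ha, hb, e1, e2, h1, h2, h3⟩
    rw [hsec ha (by omega), e1] at h1
    rw [hsec hb (by omega), e2] at h2
    have e3 : (a ^^^ b) / 128 = m ^^^ n := by rw [xor_high, e1, e2]
    rw [hsec (xor_lt_2048 ha hb) (by omega), e3, xor_low] at h3
    exact ⟨a % 128, (clsL_iff hm hm' hf).2 ⟨Nat.mod_lt _ (by norm_num), h1⟩, b % 128,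
      (clsL_iff (by omega) hn' hg).2 ⟨Nat.mod_lt _ (by norm_num), h2⟩, h3⟩

open scoped _root_.Classical in
/-- The number of neighbours of an element among those of the second kind. -/
noncomputable def nb (F : Frame S) (a : ℕ) : ℕ :=
  ((Finset.range 2048).filter fun b => F.sec b ∧ F.sec (a ^^^ b)).card

theorem nb_le {a a' : ℕ} (ha : a < 2048) (h : F.Rel a a') : F.nb a ≤ F.nb a' := by
  classical
  obtain ⟨n, hn, e⟩ := h
  choose! y hy hye using fun x (hx : x < 2048) => F.exists_img hn hx
  refine Finset.card_le_card_of_injOn y (fun x hx => ?_) (fun x hx x' hx' exx => ?_)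
  · simp only [Finset.mem_coe, Finset.mem_filter, Finset.mem_range] at hx ⊢
    exact ⟨hy x hx.1, F.sec_img hx.1 (hye x hx.1) hx.2.1,
      F.sec_img (xor_lt_2048 ha hx.1) (F.img_xor e (hye x hx.1)) hx.2.2⟩
  · simp only [Finset.mem_coe, Finset.mem_filter, Finset.mem_range] at hx hx'
    have := hye x hx.1
    rw [exx, hye x' hx'.1] at this
    exact (F.phi_inj hx'.1 hx.1 (mul_left_cancel (mul_right_cancel this))).symm

/-- **The second kind is the table with configuration 370.** -/
theorem sec_iff (hF : F.Good) {x : ℕ} (hx : x < 2048) : F.sec x ↔ tB 370 x = true := by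
  obtain ⟨c, hc, hcs⟩ := F.exists_conf hF
  suffices c = 370 by subst this; exact hcs x hx
  have hpar : parOK c = true := by
    refine List.all_eq_true.2 fun t ht => List.all_eq_true.2 fun e he => beq_iff_eq.2 ?_
    have h := List.all_eq_true.1 (List.all_eq_true.1 pTree_ok t ht) e he
    simp only [Bool.and_eq_true, Bool.or_eq_true] at h
    obtain ⟨⟨⟨⟨⟨hk, a1⟩, a2⟩, b1⟩, b2⟩, hperm⟩ := h
    obtain ⟨n, -, hn⟩ := F.exists_gen (show e.2.2 < gCode.length from blt_nat hk)
    have a1 := blt_nat a1; have a2 := blt_nat a2; have b1 := blt_nat b1; have b2 := blt_nat b2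
    have hA := (hn (e.2.1 / 16) (by omega)).1
    have hB := (hn (e.2.1 % 16) (by omega)).1
    have hl : ∀ {p}, p % 16 < 16 → 0 < p / 16 → p / 16 < p % 16 → p < 256 := by intro p; omega
    rw [Bool.eq_iff_iff, F.par_iff hcs (hl (Nat.mod_lt _ (by norm_num)) a1 a2) a1 a2,
      F.par_iff hcs (hl (Nat.mod_lt _ (by norm_num)) b1 b2) b1 b2]
    have hget : ∀ i, (gPerm.getD e.2.2 []).getD i 16 < 16 →
        (gPerm.getD e.2.2 []).getD i 0 = (gPerm.getD e.2.2 []).getD i 16 := by
      intro i hi
      rcases Nat.lt_or_ge i (gPerm.getD e.2.2 []).length with hl | hl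
      · rw [List.getD_eq_getElem _ _ hl, List.getD_eq_getElem _ _ hl]
      · rw [List.getD_eq_default _ _ hl] at hi; omega
    have hlA := (hn (e.2.1 / 16) (by omega)).2
    have hlB := (hn (e.2.1 % 16) (by omega)).2
    rw [hget _ hlA, hget _ hlB] at hperm
    rcases hperm with ⟨p1, p2⟩ | ⟨p1, p2⟩
    · rw [beq_nat p1] at hA hlA
      rw [beq_nat p2] at hB hlB
      exact ⟨Tri.img F hA.inv hB.inv (by omega) (by omega), Tri.img F hA hB hlA hlB⟩
    · rw [beq_nat p1] at hA hlA
      rw [beq_nat p2] at hB hlB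
      exact ⟨fun h => Tri.img F hA.inv hB.inv (by omega) (by omega) (Tri.comm F h),
        fun h => Tri.comm F (Tri.img F hA hB hlA hlB h)⟩
  have h := all_range conf_ok hc
  simp only [hpar, Bool.not_true, Bool.false_or, Bool.or_eq_true] at h
  have bad : c ∈ [0, 1207, 1477] → False := fun hm => by
    have hh := List.all_eq_true.1 count_ok c hm
    rw [Bool.not_eq_true'] at hh
    have hnb : ∀ a < 2048, nbCount c a = F.nb a := fun a ha => by
      classical
      rw [nbCount, nb, ← List.toFinset_card_of_nodup (List.nodup_range.filter _)]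
      refine congrArg Finset.card (Finset.ext fun b => ?_)
      simp only [List.mem_toFinset, List.mem_filter, List.mem_range, Finset.mem_filter, Finset.mem_range,
        Bool.and_eq_true]
      refine and_congr_right fun hb => ?_
      rw [hcs b hb]
      exact and_congr_right fun _ => (hcs _ (xor_lt_2048 ha hb)).symm
    have hs := all_range seed_ok (cbit_lt c 1)
    simp only [Bool.and_eq_true] at hs
    set r := ((clsL.getD 1 []).getD (cbit c 1) []).getD 0 0
    have hr := blt_nat hs.1
    have hsr : F.sec (128 + r) := by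
      rw [hcs _ (by omega), tB, show (128 + r) / 128 = 1 by omega, show (128 + r) % 128 = r by omega]
      exact hs.2
    have hR := F.rel_all (a := 128 + r) (by omega) hsr
    have e : F.nb 58 = F.nb (128 + r) :=
      le_antisymm (F.nb_le (by norm_num) hR) (F.nb_le (by omega) (Rel.symm F hR))
    rw [← hnb 58 (by norm_num), ← hnb (128 + r) (by omega)] at e
    rw [e, Nat.beq_refl] at hh
    exact Bool.noConfusion hh
  rcases h with ((h | h) | h) | h
  · exact absurd (by rw [beq_nat h]; simp) bad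
  · exact beq_nat h
  · exact absurd (by rw [beq_nat h]; simp) bad
  · exact absurd (by rw [beq_nat h]; simp) bad

end Frame

end Cfsg.Agent.J4Type.V11
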