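import Cfsg.Agent.J4Type.V11.Cent
import Cfsg.Agent.J4Type.V11.Transport

/-!
# The two orbits in any of the groups of order `2 ^ 11`
-/

set_option autoImplicit false

open Cfsg Subgroup

namespace Cfsg.Agent.J4Type.V11

open LargeExtra (oc)

variable {G : Type*} [Group G] [Finite G] {z : G} {P : Subgroup G} {V : Type*} [AddCommGroup V]
  {π : ↥(oc z) →* Multiplicative V} {ρ : ↥(mSub z P) →* Equiv.Perm V} {q : V → ZMod 2} {B : List V}

namespace Frame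

variable {S : Sys z P π ρ q B} (F : Frame S)

theorem orbit_conj (g a : G) :
    {v : G | ∃ n ∈ F.nrm.map (cj g), n * cj g a * n⁻¹ = v} = cj g '' {v | ∃ n ∈ F.nrm, n * a * n⁻¹ = v} := by
  ext v
  constructor
  · rintro ⟨_, ⟨n, hn, rfl⟩, rfl⟩
    exact ⟨_, ⟨n, hn, rfl⟩, by rw [map_mul, map_mul, map_inv]⟩
  · rintro ⟨_, ⟨n, hn, rfl⟩, rfl⟩
    exact ⟨_, ⟨n, hn, rfl⟩, by rw [map_mul, map_mul, map_inv]⟩

theorem isConj_cj (g a : G) : IsConj z (cj g a) ↔ IsConj z a := by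
  rw [cj_apply, isConj_conj_iff]

theorem cent_conj (hF : F.Good) (g : G) :
    centralizer ({cj g F.tt} : Set G) ≤ F.nrm.map (cj g) := by
  intro x hx
  refine ⟨g⁻¹ * x * g, F.cent_le_nrm hF (F.mem_lc.2 ?_), by rw [cj_apply]; group⟩
  have h : x * (g * F.tt * g⁻¹) = g * F.tt * g⁻¹ * x := mem_centralizer_singleton_iff.1 hx
  show g⁻¹ * x * g * F.tt = F.tt * (g⁻¹ * x * g)
  calc g⁻¹ * x * g * F.tt = g⁻¹ * (x * (g * F.tt * g⁻¹)) * g := by group
    _ = g⁻¹ * (g * F.tt * g⁻¹ * x) * g := by rw [h]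
    _ = F.tt * (g⁻¹ * x * g) := by group

theorem tt_ne_one : F.tt ≠ 1 := fun h => F.sec_t0.1 (F.phi_eq_one t0_lt h)

theorem not_conj_tt : ¬ IsConj z F.tt := F.sec_t0.2

end Frame

end Cfsg.Agent.J4Type.V11
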