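import Cfsg.Agent.J4Type.V11.Defs
import Cfsg.Agent.J4Type.V11.SylData

/-!
# A Sylow 2-subgroup of the model, on indices
-/

set_option autoImplicit false

namespace Cfsg.Agent.J4Type.V11

open Rep Orbits

/-- The element with the given index. -/
noncomputable def tl (i : ℕ) : List ℕ := TL.getD i idM

/-- The product of two commuting involutions; `127` otherwise. -/
noncomputable def prod72 (i j : ℕ) : ℕ := Nat.mod (Nat.shiftRight (prodT.getD i 0) (7 * j)) 128

/-- The inner subgroup generated with one further involution. -/
noncomputable def subStep (s x : ℕ) : ℕ := Nat.mod (Nat.shiftRight (subNext.getD s 0) (8 * x)) 256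

/-- The large subgroup generated with an outer involution. -/
noncomputable def candStep (s x : ℕ) : ℕ := Nat.mod (Nat.shiftRight (subCand.getD s 0) (8 * x)) 256

/-- The bits of a subgroup with one further element. -/
noncomputable def withElem (S x : ℕ) : ℕ :=
  Nat.rec (motive := fun _ => ℕ) S
    (fun s r => cond (bit S s) (Nat.lor r (Nat.shiftLeft 1 (prod72 x s))) r) 72

/-- Whether an involution commutes with a subgroup given by bits. -/
noncomputable def commAll (S x : ℕ) : Bool :=
  (List.range 72).all fun s => !(bit S s) || Nat.blt (prod72 x s) 72

/-- The number of common fixed vectors. -/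
noncomputable def fixCount (l : List ℕ) : ℕ :=
  ((List.range 4096).filter fun r => l.all fun i => Nat.beq (app (tl i) r) r).length

end Cfsg.Agent.J4Type.V11
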