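import Cfsg.Agent.J4Type.V11.SylModel

/-!
# The Sylow 2-subgroup has one elementary abelian subgroup of order `2 ^ 11`
-/

set_option autoImplicit false

open Cfsg Subgroup

namespace Cfsg.Agent.J4Type.V11

open LargeExtra (oc oc_le oc_conj_mem)
open Rep Orbits

variable {G : Type*} [Group G] [Finite G] {z : G} {P : Subgroup G} {V : Type*} [AddCommGroup V]
  {π : ↥(oc z) →* Multiplicative V} {ρ : ↥(mSub z P) →* Equiv.Perm V} {q : V → ZMod 2} {B : List V}

theorem bit_withElem_aux (S x : ℕ) : ∀ n r : ℕ,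
    bit (Nat.rec (motive := fun _ => ℕ) S
      (fun s a => cond (bit S s) (Nat.lor a (Nat.shiftLeft 1 (prod72 x s))) a) n) r = true ↔
    bit S r = true ∨ ∃ t < n, bit S t = true ∧ prod72 x t = r := by
  intro n
  induction n with
  | zero => intro r; simp
  | succ n ih =>
    intro r
    show bit (cond (bit S n) (Nat.lor _ _) _) r = true ↔ _
    cases hb : bit S n
    · rw [cond_false, ih]
      refine or_congr Iff.rfl ⟨fun ⟨t, h1, h2⟩ => ⟨t, by omega, h2⟩, fun ⟨t, h1, h2⟩ => ⟨t, ?_, h2⟩⟩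
      rcases Nat.lt_succ_iff_lt_or_eq.1 h1 with h | h
      · exact h
      · rw [h, hb] at h2; exact Bool.noConfusion h2.1
    · rw [cond_true, bit_insert, ih]
      constructor
      · rintro ((h | ⟨t, h1, h2⟩) | h)
        · exact Or.inl h
        · exact Or.inr ⟨t, by omega, h2⟩
        · exact Or.inr ⟨n, by omega, hb, h.symm⟩
      · rintro (h | ⟨t, h1, h2⟩)
        · exact Or.inl (Or.inl h)
        · rcases Nat.lt_succ_iff_lt_or_eq.1 h1 with h | h
          · exact Or.inl (Or.inr ⟨t, h, h2⟩)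
          · exact Or.inr (by rw [← h2.2, h])

theorem bit_withElem {S x r : ℕ} : bit (withElem S x) r = true ↔
    bit S r = true ∨ ∃ t < 72, bit S t = true ∧ prod72 x t = r := bit_withElem_aux S x 72 r

/-- A set of involutions of the subgroup of order 256 closed under products. -/
structure Closed (I : Finset ℕ) : Prop where
  lt : ∀ i ∈ I, i < 72
  zero : 0 ∈ I
  prod : ∀ i ∈ I, ∀ j ∈ I, prod72 i j < 72 ∧ prod72 i j ∈ I
  right : ∀ i ∈ I, prod72 i 0 = i

/-- The bits of a number as a set. -/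
noncomputable def bitsOf (n : ℕ) : Finset ℕ := ((List.range 72).filter (bit n)).toFinset

theorem mem_bitsOf {n i : ℕ} : i ∈ bitsOf n ↔ i < 72 ∧ bit n i = true := by
  simp [bitsOf]

theorem card_bitsOf (n : ℕ) : (bitsOf n).card = ((List.range 72).filter (bit n)).length :=
  List.toFinset_card_of_nodup (List.nodup_range.filter _)

/-- **The large closed sets are the tabulated ones.** -/
theorem Closed.eq_cand {I : Finset ℕ} (h : Closed I) (h16 : 16 ≤ I.card) :
    ∃ c ∈ candT, bitsOf c.1 = I := by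
  have hs := subs_ok
  simp only [Bool.and_eq_true] at hs
  obtain ⟨⟨hz, -⟩, hall⟩ := hs
  have row : ∀ s < 161, _ := fun s hs => all_range hall hs
  simp only [Bool.and_eq_true] at row
  let cands : Finset ℕ := (Finset.range 161).filter fun s => bitsOf (subM.getD s 0) ⊆ I
  have h0 : 0 ∈ cands := Finset.mem_filter.2 ⟨by simp, fun i hi => by
    obtain ⟨-, hb⟩ := mem_bitsOf.1 hi
    rw [beq_nat hz] at hb
    have := bit_iff.1 hb
    rw [show (1 : ℕ) = 2 ^ 0 from rfl, Nat.testBit_two_pow, decide_eq_true_iff] at this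
    rw [← this]; exact h.zero⟩
  obtain ⟨s, hs, hmax⟩ := Finset.exists_max_image cands (fun s => subN.getD s 0) ⟨0, h0⟩
  obtain ⟨hs161, hsI⟩ := Finset.mem_filter.1 hs
  have hs161 : s < 161 := Finset.mem_range.1 hs161
  obtain ⟨⟨⟨⟨hbit0, hstep⟩, hcount⟩, hout⟩, hbig⟩ := row s hs161
  have hcount := beq_nat hcount
  rw [← card_bitsOf] at hcount
  have hcomm : ∀ x ∈ I, commAll (subM.getD s 0) x = true := fun x hx => List.all_eq_true.2 fun t ht => by
    cases hb : bit (subM.getD s 0) t
    · rfl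
    · rw [Bool.not_true, Bool.false_or, blt_iff]
      exact (h.prod x hx t (hsI (mem_bitsOf.2 ⟨List.mem_range.1 ht, hb⟩))).1
  have hinner : ∀ x ∈ I, x < 36 → x ∈ bitsOf (subM.getD s 0) := by
    intro x hx hx36
    refine mem_bitsOf.2 ⟨h.lt x hx, ?_⟩
    rcases Nat.eq_zero_or_pos x with rfl | hpos
    · exact hbit0
    by_contra hnb
    have h1 := all_range hstep (show x - 1 < 35 by omega)
    rw [show x - 1 + 1 = x by omega, hcomm x hx] at h1
    simp only [Bool.eq_false_iff.2 hnb, Bool.not_true, Bool.false_or, Bool.and_eq_true] at h1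
    have hlt := blt_nat h1.1
    have hmask := beq_nat h1.2
    set s' := subStep s (x - 1)
    obtain ⟨⟨⟨⟨-, -⟩, hc'⟩, -⟩, -⟩ := row s' hlt
    have hc' := beq_nat hc'
    rw [← card_bitsOf] at hc'
    have hsub : bitsOf (subM.getD s' 0) ⊆ I := by
      intro r hr
      obtain ⟨hr, hb⟩ := mem_bitsOf.1 hr
      rw [hmask] at hb
      rcases bit_withElem.1 hb with hb | ⟨t, ht, hb, e⟩
      · exact hsI (mem_bitsOf.2 ⟨hr, hb⟩)
      · rw [← e]; exact (h.prod x hx t (hsI (mem_bitsOf.2 ⟨ht, hb⟩))).2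
    have hss : bitsOf (subM.getD s 0) ⊂ bitsOf (subM.getD s' 0) := by
      refine Finset.ssubset_iff_subset_ne.2 ⟨fun r hr => ?_, fun he => hnb ?_⟩
      · obtain ⟨hr, hb⟩ := mem_bitsOf.1 hr
        exact mem_bitsOf.2 ⟨hr, by rw [hmask]; exact bit_withElem.2 (Or.inl hb)⟩
      · refine (mem_bitsOf.1 (he.ge (mem_bitsOf.2 ⟨h.lt x hx, ?_⟩))).2
        rw [hmask]
        exact bit_withElem.2 (Or.inr ⟨0, by norm_num, hbit0, h.right x hx⟩)
    have := hmax s' (Finset.mem_filter.2 ⟨Finset.mem_range.2 hlt, hsub⟩)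
    have := Finset.card_lt_card hss
    omega
  have hpi := prod_inner
  by_cases hex : ∃ x ∈ I, 36 ≤ x
  · obtain ⟨x, hx, hx36⟩ := hex
    have hxlt := h.lt x hx
    set S := subM.getD s 0
    have hI : bitsOf (withElem S x) = I := by
      refine Finset.Subset.antisymm (fun r hr => ?_) (fun y hy => ?_)
      · obtain ⟨hr, hb⟩ := mem_bitsOf.1 hr
        rcases bit_withElem.1 hb with hb | ⟨t, ht, hb, e⟩
        · exact hsI (mem_bitsOf.2 ⟨hr, hb⟩)
        · rw [← e]; exact (h.prod x hx t (hsI (mem_bitsOf.2 ⟨ht, hb⟩))).2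
      · refine mem_bitsOf.2 ⟨h.lt y hy, bit_withElem.2 ?_⟩
        by_cases hy36 : y < 36
        · exact Or.inl (mem_bitsOf.1 (hinner y hy hy36)).2
        · obtain ⟨hk, hkI⟩ := h.prod x hx y hy
          have h1 := all_range (all_range hpi hxlt) (h.lt y hy)
          simp only [blt_iff.2 hk, blt_iff.2 (show 35 < x by omega),
            blt_iff.2 (show 35 < y by omega), Bool.not_true, Bool.false_or, Bool.and_self,
            Bool.and_eq_true] at h1
          obtain ⟨ht, hb⟩ := mem_bitsOf.1 (hinner _ hkI (blt_nat h1.1))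
          exact Or.inr ⟨_, ht, hb, beq_nat h1.2⟩
    have h8 : 8 ≤ subN.getD s 0 := by
      have hsub : I ⊆ bitsOf S ∪ (bitsOf S).image (prod72 x) := by
        intro r hr
        obtain ⟨hr', hb⟩ := mem_bitsOf.1 (hI.ge hr)
        rcases bit_withElem.1 hb with hb | ⟨t, ht, hb, e⟩
        · exact Finset.mem_union_left _ (mem_bitsOf.2 ⟨hr', hb⟩)
        · exact Finset.mem_union_right _ (Finset.mem_image.2 ⟨t, mem_bitsOf.2 ⟨ht, hb⟩, e⟩)
      have h1 := (Finset.card_le_card hsub).trans (Finset.card_union_le _ _)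
      have h2 := Finset.card_image_le (s := bitsOf S) (f := prod72 x)
      omega
    have h1 := all_range hout (show x - 36 < 36 by omega)
    rw [show x - 36 + 36 = x by omega, hcomm x hx] at h1
    simp only [Bool.not_true, Bool.false_or, Bool.or_eq_true, Bool.and_eq_true] at h1
    rcases h1 with h1 | ⟨h1, h2⟩
    · have := blt_nat h1; omega
    · have hlen := blt_nat h1
      rw [List.getD_eq_getElem _ _ hlen] at h2
      exact ⟨_, List.getElem_mem hlen, by rw [beq_nat h2]; exact hI⟩
  · push Not at hex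
    have hI : bitsOf (subM.getD s 0) = I := Finset.Subset.antisymm hsI fun y hy => hinner y hy (hex y hy)
    rcases Bool.or_eq_true_iff.1 hbig with h1 | h1
    · have := blt_nat h1
      rw [hI] at hcount
      omega
    · obtain ⟨c, hc, e⟩ := List.any_eq_true.1 h1
      exact ⟨c, hc, by rw [beq_nat e]; exact hI⟩

namespace Frame

variable {S : Sys z P π ρ q B} (F : Frame S)

/-- An elementary abelian subgroup through `z` of order at least `2 ^ 11` of the Sylow subgroup lies in
the group. -/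
theorem le_grp {Y : Subgroup G} (hY : Y ≤ S.tG) (hzY : z ∈ Y) (hc : ∀ a ∈ Y, ∀ b ∈ Y, Commute a b)
    (hsq : ∀ a ∈ Y, a * a = 1) (hcard : 2 ^ 11 ≤ Nat.card Y) : Y ≤ F.grp := by
  classical
  have : Fintype G := Fintype.ofFinite G
  have hYH : Y ≤ centralizer ({z} : Set G) := hY.trans S.tG_le
  let I : Finset ℕ := (Finset.range 256).filter fun i => ∃ y ∈ Y, Orbits.PActs B (lin ρ y) (tl i)
  have hmemI : ∀ {i}, i ∈ I ↔ i < 256 ∧ ∃ y ∈ Y, Orbits.PActs B (lin ρ y) (tl i) := by
    intro i; simp [I]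
  have hI72 : ∀ i ∈ I, i < 72 := by
    intro i hi
    obtain ⟨hi, y, hy, ha⟩ := hmemI.1 hi
    have h1 := all_range tl_sq hi
    rw [Bool.or_eq_true] at h1
    rcases h1 with h1 | h1
    · exact blt_nat h1
    · exfalso
      have h2 : Orbits.PActs B (lin ρ (y * y)) (comp (tl i) (tl i)) := by
        rw [(S.D.lin_mul (hYH hy) (hYH hy)).1]; exact ha.mul ha
      rw [hsq y hy, (S.D.lin_oc (one_mem _)).1] at h2
      have e := S.M.code_unique h2 S.M.acts_idM (good_comp (tl_good hi) (tl_good hi)) good_idM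
      rw [eqM_iff.2 e] at h1
      exact Bool.noConfusion h1
  have hI0 : 0 ∈ I := hmemI.2 ⟨by norm_num, 1, one_mem Y, by
    rw [(S.D.lin_oc (one_mem _)).1, tl_zero]; exact S.M.acts_idM⟩
  have hprod : ∀ i ∈ I, ∀ j ∈ I, prod72 i j < 72 ∧ prod72 i j ∈ I ∧
      comp (tl i) (tl j) = tl (prod72 i j) := by
    intro i hi j hj
    have hi' := hI72 i hi
    have hj' := hI72 j hj
    obtain ⟨-, y, hy, ha⟩ := hmemI.1 hi
    obtain ⟨-, w, hw, hb⟩ := hmemI.1 hj
    have h1 : Orbits.PActs B (lin ρ (y * w)) (comp (tl i) (tl j)) := by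
      rw [(S.D.lin_mul (hYH hy) (hYH hw)).1]; exact ha.mul hb
    have hp := all_range (all_range prod_ok hi') hj'
    cases hlt : Nat.blt (prod72 i j) 72 <;> rw [hlt] at hp
    · exfalso
      have h2 : Orbits.PActs B (lin ρ (y * w)) (comp (tl j) (tl i)) := by
        rw [(hc y hy w hw).eq, (S.D.lin_mul (hYH hw) (hYH hy)).1]; exact hb.mul ha
      have e := S.M.code_unique h1 h2 (good_comp (tl_good (by omega)) (tl_good (by omega)))
        (good_comp (tl_good (by omega)) (tl_good (by omega)))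
      rw [cond_false, Bool.not_eq_true', eqM_iff.2 e] at hp
      exact Bool.noConfusion hp
    · rw [cond_true, eqM_iff] at hp
      have hlt := blt_nat hlt
      exact ⟨hlt, hmemI.2 ⟨by omega, _, mul_mem hy hw, hp ▸ h1⟩, hp⟩
  have hcl : Closed I := ⟨hI72, hI0, fun i hi j hj => ⟨(hprod i hi j hj).1, (hprod i hi j hj).2.1⟩,
    fun i hi => by
      obtain ⟨hlt, -, e⟩ := hprod i hi 0 hI0
      rw [tl_zero] at e
      refine tl_inj (by omega) (by have := hI72 i hi; omega) ?_
      rw [← e]
      have hg := tl_good (i := i) (by have := hI72 i hi; omega)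
      exact S.M.code_unique ((S.tl_exists (i := i) (by have := hI72 i hi; omega)).choose_spec.2.mul S.M.acts_idM)
        (by rw [mul_one]; exact (S.tl_exists (i := i) (by have := hI72 i hi; omega)).choose_spec.2)
        (good_comp hg good_idM) hg⟩
  -- orders
  set K := Y ⊓ oc z with hK
  have hK7 : Nat.card K ≤ 2 ^ 7 := by
    have h := card_elem_le S.D.set' (K := K) inf_le_right ⟨hzY, S.D.z_mem⟩
      (fun a ha b hb => hc a ha.1 b hb.1) (fun a ha => hsq a ha.1)
    rw [S.card_oc] at h
    by_contra hlt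
    have : (2 ^ 7 + 1) * (2 ^ 7 + 1) ≤ Nat.card K * Nat.card K := Nat.mul_le_mul (by omega) (by omega)
    omega
  let f : ↥Y →* Equiv.Perm V := (ActData.linHom S.D).comp (inclusion hYH)
  have hfY : ∀ y : ↥Y, f y = lin ρ (y : G) := fun y => rfl
  have hYcard : Nat.card Y = Nat.card K * I.card := by
    have h := f.ker.card_mul_index
    have hk : f.ker = K.subgroupOf Y := by
      ext y
      rw [MonoidHom.mem_ker, hfY, S.D.lin_eq_one (hYH y.2), mem_subgroupOf]
      exact ⟨fun h => ⟨y.2, h⟩, fun h => h.2⟩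
    have hr : Nat.card f.range = I.card := by
      have hex : ∀ i : I, ∃ γ : f.range, Orbits.PActs B (γ : Equiv.Perm V) (tl (i : ℕ)) := fun i => by
        obtain ⟨-, y, hy, ha⟩ := hmemI.1 i.2
        exact ⟨⟨_, ⟨y, hy⟩, rfl⟩, ha⟩
      choose φ hφ using hex
      have hb : Function.Bijective φ := by
        refine ⟨fun a b e => Subtype.ext ?_, fun γ => ?_⟩
        · have ha := hI72 _ a.2
          have hb := hI72 _ b.2
          exact tl_inj (by omega) (by omega)
            (S.M.code_unique (hφ a) (e ▸ hφ b) (tl_good (by omega)) (tl_good (by omega)))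
        · obtain ⟨y, hy⟩ := γ.2
          obtain ⟨-, hl⟩ := S.mem_tG.1 (hY y.2)
          obtain ⟨i, hi, ha⟩ := S.mem_tb.1 hl
          refine ⟨⟨i, hmemI.2 ⟨hi, y, y.2, ha⟩⟩, Subtype.ext ?_⟩
          rw [← hy]
          exact S.M.acts_eq (hφ _) ha
      rw [← Nat.card_congr (Equiv.ofBijective φ hb), Nat.card_eq_finsetCard]
    rw [index_ker, hk, hr, Nat.card_congr (subgroupOfEquivOfLe inf_le_left).toEquiv] at h
    exact h.symm
  have h16 : 16 ≤ I.card := by
    by_contra hlt
    have : Nat.card K * I.card ≤ 2 ^ 7 * 15 := Nat.mul_le_mul hK7 (by omega)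
    omega
  obtain ⟨c, hcm, hcI⟩ := hcl.eq_cand h16
  have hco := List.all_eq_true.1 cand_ok c hcm
  simp only [Bool.and_eq_true, List.all_eq_true] at hco
  obtain ⟨⟨hgen, hlen⟩, hfix⟩ := hco
  -- the vectors of `K` are fixed by the generators of the candidate
  have hKfix : ∀ a ∈ K, ∀ r < 4096, vec π a = Rep.lin B r →
      (c.2.1.all fun i => Nat.beq (app (tl i) r) r) = true := by
    intro a ha r hr hv
    refine List.all_eq_true.2 fun i hi => ?_
    have hiI : i ∈ I := hcI.le (mem_bitsOf.2 ⟨blt_nat (hgen i hi).2, (hgen i hi).1⟩)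
    obtain ⟨hi', y, hy, hya⟩ := hmemI.1 hiI
    have e := S.D.vec_conj_lin (hYH hy) ha.2
    rw [mul_inv_eq_iff_eq_mul.2 (hc y hy a ha.1).eq, hv, hya] at e
    rw [S.lin_lt_inj (app_lt_of_good (tl_good hi') r) hr e.symm]
    exact Nat.beq_refl _
  by_cases hhex : c.1 = hexM
  · have hKW : ∀ a ∈ K, ∃ k < 128, F.phi k = a := by
      intro a ha
      obtain ⟨r, hr, hv⟩ := S.M.code_cases (vec π a)
      have h1 := all_range (List.all_eq_true.1 hex_fixed c hcm |> fun h => by
        rw [hhex, Nat.beq_refl, Bool.not_true, Bool.false_or] at h; exact h) hr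
      rw [hKfix a ha r hr hv.symm, Bool.not_true, Bool.false_or] at h1
      have hvr : vec π (F.phi (wc r)) = Rep.lin B r := by
        rw [F.vec_phi (by have := wc_lt r; omega), Nat.mod_eq_of_lt (wc_lt r), inW_iff.1 h1]
      rcases S.D.vec_eq ha.2 (F.phi_oc (by have := wc_lt r; omega)) (hv.symm.trans hvr.symm) with e | e
      · exact ⟨wc r, by have := wc_lt r; omega, e.symm⟩
      · refine ⟨wc r ^^^ 64, Nat.xor_lt_two_pow (n := 7) (by have := wc_lt r; omega) (by norm_num), ?_⟩
        rw [F.phi_xor, F.phi_z, e]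
    have hI16 : I.card ≤ 16 := by
      have h := hex_ok
      simp only [Bool.and_eq_true] at h
      have hsub : I ⊆ hexI.toFinset := by
        intro i hi
        rw [← hcI, hhex] at hi
        obtain ⟨hi, hb⟩ := mem_bitsOf.1 hi
        have := all_range h.2 hi
        rw [hb, Bool.not_true, Bool.false_or, List.any_eq_true] at this
        obtain ⟨a, ha, e⟩ := this
        rw [beq_nat e]
        exact List.mem_toFinset.2 ha
      exact (Finset.card_le_card hsub).trans (le_trans (List.toFinset_card_le _) (le_of_eq rfl))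
    choose! κ hκ hκe using hKW
    have hinj : Function.Injective fun a : ↥K => (⟨κ a, hκ a a.2⟩ : Fin 128) := fun a b h =>
      Subtype.ext (by rw [← hκe a a.2, ← hκe b b.2, show κ (a : G) = κ (b : G) from congrArg Fin.val h])
    have hbij : Function.Bijective fun a : ↥K => (⟨κ a, hκ a a.2⟩ : Fin 128) := by
      refine (Nat.bijective_iff_injective_and_card _).2 ⟨hinj, le_antisymm ?_ ?_⟩
      · exact Nat.card_le_card_of_injective _ hinj
      · rw [Nat.card_fin]
        have : Nat.card K * I.card ≤ Nat.card K * 16 := Nat.mul_le_mul_left _ hI16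
        omega
    intro y hy
    refine F.mem_grp_of_comm (hYH hy) fun k hk => ?_
    obtain ⟨a, ha⟩ := hbij.2 ⟨k, by omega⟩
    rw [← show κ a = k from congrArg Fin.val ha, hκe a a.2]
    exact hc y hy a a.2.1
  · exfalso
    rw [Bool.or_eq_true, Nat.beq_eq] at hfix
    have hsmall := blt_nat (hfix.resolve_left hhex)
    have hcount : c.2.2 = I.card := by
      rw [← hcI, card_bitsOf]
      exact (beq_nat hlen).symm
    let L := (List.range 4096).filter fun r => c.2.1.all fun i => Nat.beq (app (tl i) r) r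
    have hL : L.length = fixCount c.2.1 := rfl
    have hex : ∀ a : ↥K, ∃ r : L.toFinset, vec π (a : G) = Rep.lin B (r : ℕ) := fun a => by
      obtain ⟨r, hr, hv⟩ := S.M.code_cases (vec π (a : G))
      exact ⟨⟨r, List.mem_toFinset.2 (List.mem_filter.2 ⟨List.mem_range.2 hr, hKfix a a.2 r hr hv.symm⟩)⟩,
        hv.symm⟩
    choose g hg using hex
    let g' : ↥K → ↥L.toFinset × Bool := fun a =>
      (g a, decide ((a : G) = F.cl (g a : ℕ)))
    have hg' : Function.Injective g' := by
      intro a b h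
      obtain ⟨h1, h2⟩ := Prod.ext_iff.1 h
      have hlt : (g a : ℕ) < 4096 := by
        exact List.mem_range.1 (List.mem_filter.1 (List.mem_toFinset.1 (g a).2)).1
      have ea := S.D.vec_eq a.2.2 (F.cl_mem (g a)) ((hg a).trans (F.vec_cl hlt).symm)
      have eb := S.D.vec_eq b.2.2 (F.cl_mem (g a)) (by
        rw [hg b, show g b = g a from h1.symm, F.vec_cl hlt])
      simp only [g'] at h2
      rw [show g b = g a from h1.symm, decide_eq_decide] at h2
      by_cases hA : (a : G) = F.cl (g a : ℕ)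
      · exact Subtype.ext (hA.trans (h2.1 hA).symm)
      · exact Subtype.ext ((ea.resolve_left hA).trans (eb.resolve_left fun e => hA (h2.2 e)).symm)
    have h1 := Nat.card_le_card_of_injective g' hg'
    rw [Nat.card_prod, Nat.card_eq_finsetCard, Nat.card_eq_fintype_card (α := Bool), Fintype.card_bool] at h1
    have h2 : L.toFinset.card ≤ fixCount c.2.1 := (List.toFinset_card_le L).trans_eq hL
    rw [hcount] at hsmall
    have h3 : Nat.card K * I.card ≤ 2 * fixCount c.2.1 * I.card := Nat.mul_le_mul_right _ (by omega)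
    have h4 : 2 * fixCount c.2.1 * I.card = 2 * (I.card * fixCount c.2.1) := by ring
    omega

theorem grp_le_tG : F.grp ≤ S.tG := by
  rintro _ ⟨x, hx, rfl⟩
  refine S.mem_tG.2 ⟨F.phi_mem_H x, S.mem_tb.2 ?_⟩
  have h := hex_ok
  simp only [Bool.and_eq_true] at h
  have h1 := all_range h.1 (show x / 128 < 16 by omega)
  simp only [Bool.and_eq_true, eqM_iff] at h1
  have := blt_nat h1.1.1
  exact ⟨_, by omega, h1.1.2 ▸ F.lin_phi hx⟩

/-- **Uniqueness in the Sylow subgroup.** -/
theorem eq_grp {X : Subgroup G} (hX : X ≤ S.tG) (hel : Cfsg.IsElementaryAbelian 2 X)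
    (hcard : Nat.card X = 2 ^ 11) : X = F.grp := by
  obtain ⟨hcm, hexp⟩ := hel
  have hc : ∀ a ∈ X, ∀ b ∈ X, Commute a b := fun a ha b hb =>
    congrArg Subtype.val (hcm.is_comm.comm ⟨a, ha⟩ ⟨b, hb⟩)
  have hsq : ∀ a ∈ X, a * a = 1 := fun a ha => by rw [← pow_two]; exact hexp a ha
  have hzc : ∀ {a : G}, a ∈ X → Commute a z := fun ha => S.D.comm_z (S.tG_le (hX ha))
  have hz2 : ∀ a : G, a * z * z = a := fun a => by rw [mul_assoc, S.D.zz, mul_one]
  have hzc' : ∀ {a : G}, a * z ∈ X → Commute a z := fun {a} ha => by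
    have h2 := (hzc ha).mul_left (Commute.refl z)
    rwa [hz2] at h2
  let Y : Subgroup G :=
    { carrier := {g | g ∈ X ∨ g * z ∈ X}
      one_mem' := Or.inl (one_mem X)
      mul_mem' := by
        rintro a b (ha | ha) (hb | hb)
        · exact Or.inl (mul_mem ha hb)
        · exact Or.inr (by rw [mul_assoc]; exact mul_mem ha hb)
        · refine Or.inr ?_
          rw [mul_assoc, (hzc hb).eq, ← mul_assoc]
          exact mul_mem ha hb
        · refine Or.inl ?_
          have h := mul_mem ha hb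
          rwa [mul_assoc a z, ← mul_assoc z b z, ← (hzc' hb).eq, hz2] at h
      inv_mem' := by
        rintro a (ha | ha)
        · exact Or.inl (inv_mem ha)
        · refine Or.inr ?_
          have h := inv_mem ha
          rwa [mul_inv_rev, S.D.zinv, ← ((hzc' ha).inv_left).eq] at h }
  have hYX : ∀ g ∈ Y, g ∈ X ∨ g * z ∈ X := fun g h => h
  have hY : Y ≤ S.tG := fun g hg => by
    rcases hYX g hg with h | h
    · exact hX h
    · rw [← hz2 g]; exact mul_mem (hX h) (S.oc_le_tG S.D.z_mem)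
  have hYc : ∀ a ∈ Y, ∀ b ∈ Y, Commute a b := by
    have key : ∀ a ∈ X, ∀ b ∈ Y, Commute a b := by
      intro a ha b hb
      rcases hYX b hb with h | h
      · exact hc a ha b h
      · rw [← hz2 b]; exact (hc a ha _ h).mul_right (hzc ha)
    intro a ha b hb
    rcases hYX a ha with h | h
    · exact key a h b hb
    · rw [← hz2 a]; exact (key _ h b hb).mul_left (S.D.comm_z (S.tG_le (hY hb))).symm
  have hYsq : ∀ a ∈ Y, a * a = 1 := by
    intro a ha
    rcases hYX a ha with h | h
    · exact hsq a h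
    · have hcz : Commute a z := S.D.comm_z (S.tG_le (hY ha))
      have := hsq _ h
      rwa [hcz.symm.mul_mul_mul_comm, S.D.zz, mul_one] at this
  have hzY : z ∈ Y := Or.inr (by rw [S.D.zz]; exact one_mem X)
  have hXY : X ≤ Y := fun g hg => Or.inl hg
  have hle := F.le_grp hY hzY hYc hYsq (hcard ▸ card_le_of_le hXY)
  exact eq_of_le_of_card_ge (hXY.trans hle) (by rw [F.card_grp, hcard])

end Frame

/-- Images of elementary abelian subgroups under automorphisms are elementary abelian. -/
theorem elem_map {X : Subgroup G} (e : G ≃* G) (h : Cfsg.IsElementaryAbelian 2 X) :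
    Cfsg.IsElementaryAbelian 2 (X.map e.toMonoidHom) := by
  refine ⟨⟨⟨fun a b => Subtype.ext ?_⟩⟩, ?_⟩
  · obtain ⟨_, x, hx, rfl⟩ := a
    obtain ⟨_, y, hy, rfl⟩ := b
    show e x * e y = e y * e x
    rw [← map_mul, ← map_mul]
    exact congrArg e (congrArg Subtype.val (h.1.is_comm.comm ⟨x, hx⟩ ⟨y, hy⟩))
  · rintro _ ⟨a, ha, rfl⟩
    rw [← map_pow, h.2 a ha, map_one]

/-- A Sylow 2-subgroup has exactly one such subgroup. -/
theorem Sys.unique (S : Sys z P π ρ q B) (T : Sylow 2 G) :
    ∃! X : Subgroup G, X ≤ (T : Subgroup G) ∧ Cfsg.IsElementaryAbelian 2 X ∧ Nat.card X = 2 ^ 11 := by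
  obtain ⟨F⟩ := S.exists_frame
  obtain ⟨T₀, hT₀⟩ := S.exists_sylow
  have := Fact.mk Nat.prime_two
  obtain ⟨g, rfl⟩ := MulAction.exists_smul_eq G T₀ T
  let c : G ≃* G := MulAut.conj g
  have hmap : ((g • T₀ : Sylow 2 G) : Subgroup G) = S.tG.map c.toMonoidHom := by
    rw [Sylow.coe_subgroup_smul, hT₀]; rfl
  have hel : ∀ {X : Subgroup G} (e : G ≃* G), Cfsg.IsElementaryAbelian 2 X →
      Cfsg.IsElementaryAbelian 2 (X.map e.toMonoidHom) := by
    intro X e h
    exact elem_map e h
  refine ⟨F.grp.map c.toMonoidHom, ⟨by rw [hmap]; exact map_mono F.grp_le_tG, hel c F.isElementary, ?_⟩, ?_⟩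
  · rw [card_map_of_injective c.injective, F.card_grp]
  rintro X ⟨hX, hXel, hXc⟩
  rw [hmap] at hX
  have h := F.eq_grp (X := X.map c.symm.toMonoidHom) ?_ (hel c.symm hXel)
    (by rw [card_map_of_injective c.symm.injective, hXc])
  · rw [← h, map_map]
    ext x
    simp
  · rintro _ ⟨x, hx, rfl⟩
    obtain ⟨t, ht, rfl⟩ := hX hx
    simpa using ht

end Cfsg.Agent.J4Type.V11
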